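import Cfsg.Agent.Lib.Solv.MinNormal
import Cfsg.Agent.Lib.Solv.SchurZassenhaus
import Cfsg.Agent.Lib.Solv.MinimalNonNilpotent
import Cfsg.Agent.Lib.Transfer.PGroupNormal

/-!
Primitive solvable groups: core-free maximal subgroups and their minimal normal complements.
-/

set_option autoImplicit false

namespace Cfsg.Lib.Solv

open Subgroup
open scoped Pointwise

variable {G : Type*} [Group G]

theorem commute_of_abelian {M : Subgroup G} (hc : IsMulCommutative M) {a b : G} (ha : a ∈ M)
    (hb : b ∈ M) : a * b = b * a :=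
  congrArg Subtype.val (mul_comm' (⟨a, ha⟩ : M) ⟨b, hb⟩)

theorem le_centralizer_of_abelian {M : Subgroup G} (hc : IsMulCommutative M) :
    M ≤ centralizer (M : Set G) := fun _ hx =>
  mem_centralizer_iff.2 fun _ hy => commute_of_abelian hc hy hx

theorem primitive_normal_pretransitive {Ω : Type*} [MulAction G Ω] [FaithfulSMul G Ω]
    (hprim : MulAction.IsPreprimitive G Ω) (M : Subgroup G) [M.Normal] (hM : M ≠ ⊥) :
    MulAction.IsPretransitive M Ω := by
  haveI := hprim
  refine MulAction.IsQuasiPreprimitive.isPretransitive_of_normal (N := M) (fun h => hM ?_)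
  rw [eq_bot_iff]
  intro m hm
  rw [mem_bot]
  refine FaithfulSMul.eq_of_smul_eq_smul (α := Ω) fun w => ?_
  have hw : w ∈ MulAction.fixedPoints M Ω := h.symm ▸ Set.mem_univ w
  rw [one_smul]
  exact hw ⟨m, hm⟩

theorem eq_one_of_fix_of_commute {Ω : Type*} [MulAction G Ω] [FaithfulSMul G Ω] (M : Subgroup G)
    [htr : MulAction.IsPretransitive M Ω] {g : G} (hg : g ∈ centralizer (M : Set G)) {ω : Ω}
    (hω : g • ω = ω) : g = 1 := by
  refine FaithfulSMul.eq_of_smul_eq_smul (α := Ω) fun w => ?_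
  obtain ⟨m, rfl⟩ := htr.exists_smul_eq ω w
  rw [one_smul]
  show g • ((m : G) • ω) = (m : G) • ω
  rw [← mul_smul, ← (mem_centralizer_iff.1 hg) m m.2, mul_smul, hω]

theorem stabilizer_eq_bot_of_abelian {Ω : Type*} [MulAction G Ω] [FaithfulSMul G Ω]
    (M : Subgroup G) [MulAction.IsPretransitive M Ω] (hc : IsMulCommutative M) (ω : Ω) :
    MulAction.stabilizer M ω = ⊥ := by
  rw [eq_bot_iff]
  intro m hm
  rw [mem_bot]
  exact Subtype.ext (eq_one_of_fix_of_commute M (le_centralizer_of_abelian hc m.2) hm)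

/-- A core-free maximal subgroup complements every abelian normal subgroup `M ≠ ⊥`, which is
then self-centralizing. -/
theorem core_free_maximal {U : Subgroup G} (hU : IsCoatom U) (hUc : U.normalCore = ⊥)
    (M : Subgroup G) [hMn : M.Normal] (hM : M ≠ ⊥) (hc : IsMulCommutative M) :
    IsComplement' M U ∧ centralizer (M : Set G) = M := by
  have hMU : ¬ M ≤ U := fun h => hM (le_bot_iff.1 (hUc ▸ (normal_le_normalCore.2 h)))
  have htop : U ⊔ M = ⊤ := hU.2 _ (lt_of_le_of_ne le_sup_left fun e => hMU (e ▸ le_sup_right))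
  have hdisj : ∀ K : Subgroup G, K.Normal → M ≤ centralizer (K : Set G) → K ⊓ U = ⊥ := by
    intro K hK hKM
    have hn : (K ⊓ U).Normal := by
      refine normalizer_eq_top_iff.1 (top_le_iff.1 (htop ▸ sup_le ?_ ?_))
      · exact fun u hu => mem_normalizer_iff.2 fun x => ⟨fun hx => ⟨hK.conj_mem x hx.1 u,
          U.mul_mem (U.mul_mem hu hx.2) (U.inv_mem hu)⟩, fun hx => ⟨by
            have := hK.conj_mem _ hx.1 u⁻¹
            simpa [mul_assoc] using this, by
            have := U.mul_mem (U.mul_mem (U.inv_mem hu) hx.2) hu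
            simpa [mul_assoc] using this⟩⟩
      · refine fun m hm => mem_normalizer_iff.2 fun x => ⟨fun hx => ?_, fun hx => ?_⟩
        · rw [← (mem_centralizer_iff.1 (hKM hm)) x hx.1, mul_inv_cancel_right]; exact hx
        · have e := (mem_centralizer_iff.1 (hKM hm)) _ hx.1
          have : x = m * x * m⁻¹ := by
            calc x = m⁻¹ * (m * x * m⁻¹ * m) := by group
              _ = m⁻¹ * (m * (m * x * m⁻¹)) := by rw [e]
              _ = m * x * m⁻¹ := by group
          rw [this]; exact hx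
    exact le_bot_iff.1 (hUc ▸ normal_le_normalCore.2 (inf_le_right : K ⊓ U ≤ U))
  have hMd : M ⊓ U = ⊥ := hdisj M hMn (le_centralizer_of_abelian hc)
  refine ⟨isComplement'_of_disjoint_and_mul_eq_univ (disjoint_iff.2 hMd)
    (by rw [← normal_mul, sup_comm, htop, coe_top]), ?_⟩
  refine le_antisymm (fun c hcM => ?_) (le_centralizer_of_abelian hc)
  have hcU : c ∈ M ⊔ U := by rw [sup_comm, htop]; exact mem_top c
  obtain ⟨m, hm, u, hu, rfl⟩ := mem_sup_of_normal_left.1 hcU
  have huC : u ∈ centralizer (M : Set G) := by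
    have := (centralizer (M : Set G)).mul_mem
      (inv_mem (le_centralizer_of_abelian hc hm)) hcM
    simpa using this
  have hu1 : u = 1 := by
    have := hdisj (centralizer (M : Set G)) inferInstance
      (le_centralizer_iff.1 le_rfl)
    exact (mem_bot).1 (this ▸ mem_inf.2 ⟨huC, hu⟩)
  rw [hu1, mul_one]; exact hm

/-- In a finite solvable group all core-free maximal subgroups are conjugate. -/
theorem core_free_maximal_conj [Finite G] [Group.IsSolvable G] {U V : Subgroup G} (hU : IsCoatom U)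
    (hV : IsCoatom V) (hUc : U.normalCore = ⊥) (hVc : V.normalCore = ⊥) :
    ∃ g : G, MulAut.conj g • U = V := by
  have hnt : (⊤ : Subgroup G) ≠ ⊥ := fun h => hU.1 (le_antisymm le_top (h ▸ bot_le))
  obtain ⟨M, hMn, -, hMne, hmin⟩ := exists_minimal_normal_le (N := (⊤ : Subgroup G)) hnt
  obtain ⟨hMc, p, hp, hpM, -⟩ := minimal_normal_elementary hMne inferInstance hmin
  have := Fact.mk hp
  obtain ⟨hUM, hCM⟩ := core_free_maximal hU hUc M hMne hMc
  obtain ⟨hVM, -⟩ := core_free_maximal hV hVc M hMne hMc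
  by_cases hMt : M = ⊤
  · refine ⟨1, ?_⟩
    have e1 : U = ⊥ := by
      have := hUM.disjoint.eq_bot
      rwa [hMt, top_inf_eq] at this
    have e2 : V = ⊥ := by
      have := hVM.disjoint.eq_bot
      rwa [hMt, top_inf_eq] at this
    rw [map_one, one_smul, e1, e2]
  have : Nontrivial (G ⧸ M) := by
    rw [← not_subsingleton_iff_nontrivial]
    exact fun h => hMt (QuotientGroup.subgroup_eq_top_of_subsingleton M h)
  obtain ⟨L, hLn, -, hLne, hLmin⟩ :=
    exists_minimal_normal_le (N := (⊤ : Subgroup (G ⧸ M))) top_ne_bot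
  obtain ⟨-, q, hq, hqL, -⟩ := minimal_normal_elementary hLne inferInstance hLmin
  have := Fact.mk hq
  set N := L.comap (QuotientGroup.mk' M) with hN
  have hNn : N.Normal := hLn.comap _
  have hMN : M ≤ N := fun m hm => by
    rw [hN, mem_comap, QuotientGroup.mk'_apply, (QuotientGroup.eq_one_iff m).2 hm]; exact L.one_mem
  have hrel : M.relIndex N = Nat.card L := by
    have h1 := card_map_eq_relIndex (QuotientGroup.mk' M) N
    rw [QuotientGroup.ker_mk', hN, map_comap_eq_self_of_surjective (QuotientGroup.mk'_surjective M)]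
      at h1
    exact h1.symm
  have hNne : ¬ N ≤ M := fun h => by
    rw [relIndex_eq_one.2 h] at hrel
    exact hLne (eq_bot_of_card_eq _ hrel.symm)
  obtain ⟨i, hi⟩ := IsPGroup.iff_card.1 hpM
  obtain ⟨j, hj⟩ := IsPGroup.iff_card.1 hqL
  have hqp : q ≠ p := by
    rintro rfl
    have hNp : IsPGroup q N := IsPGroup.of_card (n := i + j) (by
      rw [card_eq_mul_relIndex hMN, hrel, hi, hj, pow_add])
    have hne : M.subgroupOf N ≠ ⊥ := fun h => hMne (by
      have := subgroupOf_eq_bot.1 h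
      exact le_bot_iff.1 (fun x hx => disjoint_iff.1 this ▸ mem_inf.2 ⟨hx, hMN hx⟩))
    obtain ⟨⟨z, hz⟩, hz1⟩ := ne_bot_iff_exists_ne_one.1
      (Cfsg.Lib.Transfer.inf_center_ne_bot hNp (M.subgroupOf N) hne)
    have hMCn : (M ⊓ centralizer (N : Set G)).Normal := inferInstance
    rcases hmin _ hMCn inf_le_left with h | h
    · refine hz1 (Subtype.ext (Subtype.ext ?_))
      have : (z : G) ∈ M ⊓ centralizer (N : Set G) := ⟨hz.1, mem_centralizer_iff.2 fun x hx =>
        congrArg Subtype.val (mem_center_iff.1 hz.2 ⟨x, hx⟩)⟩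
      rw [h] at this
      exact mem_bot.1 this
    · exact hNne (hCM ▸ le_centralizer_iff.1 (inf_eq_left.1 h))
  have key : ∀ W : Subgroup G, IsComplement' M W →
      W ⊓ M = ⊥ ∧ N ≤ W ⊔ M ∧ (W ⊓ N) ⊔ M = N ∧ Nat.card ↥(W ⊓ N) = q ^ j := by
    intro W hW
    have h1 : W ⊓ M = ⊥ := by rw [inf_comm]; exact hW.disjoint.eq_bot
    have h2 : N ≤ W ⊔ M := by rw [sup_comm, hW.sup_eq_top]; exact le_top
    exact ⟨h1, h2, inf_sup_eq_of_le_sup hMN h2,
      by rw [card_inf_eq_relIndex hMN h2 h1, hrel, hj]⟩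
  obtain ⟨-, -, hUN, hUNc⟩ := key U hUM
  obtain ⟨-, -, hVN, hVNc⟩ := key V hVM
  have hcop : (q ^ j).Coprime (Nat.card M) := by
    rw [hi]; exact Nat.Coprime.pow _ _ ((Nat.coprime_primes hq hp).2 hqp)
  obtain ⟨m, hm, hle⟩ := exists_conj_le M (U ⊓ N) (V ⊓ N)
    (by rw [normalizer_eq_top]; exact le_top) (by rw [hUN]; exact inf_le_right)
    (hUNc ▸ hcop) (hVNc ▸ hcop) (Or.inl inferInstance)
  have heq : MulAut.conj m • (U ⊓ N) = V ⊓ N := (eq_of_le_of_card_ge hle (by
    rw [card_conj_smul, hUNc, hVNc])).symm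
  refine ⟨m, ?_⟩
  have hnorm : ∀ W : Subgroup G, IsCoatom W → W.normalCore = ⊥ → Nat.card ↥(W ⊓ N) = q ^ j →
      W = normalizer ((W ⊓ N : Subgroup G) : Set G) := by
    intro W hW hWc hWn
    have hle : W ≤ normalizer ((W ⊓ N : Subgroup G) : Set G) := fun w hw =>
      mem_normalizer_iff.2 fun x => ⟨fun hx => ⟨W.mul_mem (W.mul_mem hw hx.1) (W.inv_mem hw),
        hNn.conj_mem x hx.2 w⟩, fun hx => ⟨by
          have := W.mul_mem (W.mul_mem (W.inv_mem hw) hx.1) hw
          simpa [mul_assoc] using this, by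
          have := hNn.conj_mem _ hx.2 w⁻¹
          simpa [mul_assoc] using this⟩⟩
    refine (hle.eq_or_lt).resolve_right fun hlt => ?_
    have hn : (W ⊓ N).Normal := normalizer_eq_top_iff.1 (hW.2 _ hlt)
    have : W ⊓ N = ⊥ := le_bot_iff.1 (hWc ▸ normal_le_normalCore.2 (inf_le_left : W ⊓ N ≤ W))
    rw [this, card_bot, ← hj] at hWn
    exact hLne (eq_bot_of_card_eq _ hWn.symm)
  rw [hnorm U hU hUc hUNc, hnorm V hV hVc hVNc, ← heq, conj_smul_eq_map, conj_smul_eq_map]
  exact map_equiv_normalizer_eq (U ⊓ N) (MulAut.conj m)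

end Cfsg.Lib.Solv
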