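import Mathlib
import Cfsg.Prelude.Def_Transfer
import Cfsg.Agent.Lib.Transfer.ExtraspecialClass
import Cfsg.Agent.S0095

/-!
# Groups with an extraspecial subgroup of prime index
-/

set_option autoImplicit false
set_option linter.style.haveILetI false

namespace Cfsg.Lib.Solv

open Subgroup
open scoped commutatorElement

universe u

variable {S : Type u} [Group S] [Finite S] {p : ℕ} [hp : Fact p.Prime]

theorem normal_of_index_prime (hS : IsPGroup p S) {Q : Subgroup S} (hQi : Q.index = p) : Q.Normal := by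
  have hmin : p = (Nat.card S).minFac := by
    obtain ⟨k, hk⟩ := IsPGroup.iff_card.1 hS
    have hk0 : k ≠ 0 := by
      rintro rfl
      have := index_dvd_card Q
      rw [hQi, hk, pow_zero, Nat.dvd_one] at this
      exact hp.out.one_lt.ne' this
    rw [hk, Nat.Prime.pow_minFac hp.out hk0]
  exact normal_of_index_eq_minFac_card (hQi.trans hmin)

theorem es_center_central (hS : IsPGroup p S) {Q : Subgroup S} (hQ : Cfsg.IsExtraspecial p ↥Q) (hQi : Q.index = p) :
    (center ↥Q).map Q.subtype ≤ center S := by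
  have : Q.Normal := normal_of_index_prime hS hQi
  set N := (center ↥Q).map Q.subtype with hN
  have hNn : N.Normal := by
    have : (center ↥Q).Characteristic := inferInstance
    exact ConjAct.normal_of_characteristic_of_normal
  have hc : Nat.card N = p := by rw [hN, card_map_of_injective Q.subtype_injective]; exact hQ.2
  have hNp : IsPGroup p N := hS.to_subgroup N
  intro n hn
  rw [mem_center_iff]
  intro g
  have hfix : Nat.card N ≡ Nat.card (MulAction.fixedPoints (ConjAct S) N) [MOD p] :=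
    (hS.of_equiv (ConjAct.toConjAct (G := S))).card_modEq_card_fixedPoints N
  have h1 : (1 : N) ∈ MulAction.fixedPoints (ConjAct S) N := fun g => Subtype.ext (by simp [ConjAct.Subgroup.val_conj_smul, ConjAct.smul_def])
  have hfull : MulAction.fixedPoints (ConjAct S) N = Set.univ := by
    have hdvd : p ∣ Nat.card (MulAction.fixedPoints (ConjAct S) N) :=
      (Nat.modEq_zero_iff_dvd).1 (hfix.symm.trans (by rw [hc]; exact (Nat.modEq_zero_iff_dvd).2 dvd_rfl))
    have hpos : 0 < Nat.card (MulAction.fixedPoints (ConjAct S) N) :=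
      Nat.card_pos_iff.2 ⟨⟨⟨1, h1⟩⟩, inferInstance⟩
    refine Set.eq_of_subset_of_ncard_le (Set.subset_univ _) ?_ (Set.toFinite _)
    rw [Set.ncard_univ, hc, ← Nat.card_coe_set_eq]
    exact Nat.le_of_dvd hpos hdvd
  have h2 : (⟨n, hn⟩ : N) ∈ MulAction.fixedPoints (ConjAct S) N := hfull ▸ Set.mem_univ _
  have h3 := congrArg Subtype.val (h2 (ConjAct.toConjAct g))
  rw [ConjAct.Subgroup.val_conj_smul, ConjAct.toConjAct_smul] at h3
  calc g * n = (g * n * g⁻¹) * g := by group
    _ = n * g := by rw [h3]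

theorem center_inf_eq (hS : IsPGroup p S) {Q : Subgroup S} (hQ : Cfsg.IsExtraspecial p ↥Q) (hQi : Q.index = p) :
    center S ⊓ Q = (center ↥Q).map Q.subtype := by
  refine le_antisymm ?_ (le_inf (es_center_central hS hQ hQi) (map_subtype_le _))
  rintro x ⟨hx, hxQ⟩
  exact ⟨⟨x, hxQ⟩, mem_center_iff.2 fun g => Subtype.ext (mem_center_iff.1 hx g), rfl⟩

theorem card_eq_of_index (hS : IsPGroup p S) {Q : Subgroup S} (hQ : Cfsg.IsExtraspecial p ↥Q) (hQi : Q.index = p) :
    ∃ n : ℕ, 1 ≤ n ∧ Nat.card Q = p ^ (2 * n + 1) ∧ Nat.card S = p ^ (2 + 2 * n) := by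
  obtain ⟨n, hn, hc⟩ := Cfsg.Agent.S0095.result hQ
  refine ⟨n, hn, hc, ?_⟩
  rw [← card_mul_index Q, hc, hQi, ← pow_succ]
  congr 1
  omega

end Cfsg.Lib.Solv
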