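import Mathlib
import Cfsg.Agent.Lib.Comp.Misc
import Cfsg.Agent.Lib.Transfer.NormalPComplement
import Cfsg.Agent.Lib.PLocal.FStarAction

/-!
A Sylow subgroup meets the join of two subnormal subgroups in the join of the intersections.
-/

set_option autoImplicit false
set_option linter.unusedSectionVars false
set_option linter.style.haveILetI false

namespace Cfsg.Lib.SubJoin

open Subgroup Cfsg.Lib.Comp Cfsg.Lib.FStarAction
open scoped commutatorElement

universe u

variable {G : Type u} [Group G]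

/-- The subgroup generated by the elements of `X` of order prime to `p`. -/
def res (p : ℕ) (X : Subgroup G) : Subgroup G :=
  closure {x : G | x ∈ X ∧ (orderOf x).Coprime p}

variable {p : ℕ}

theorem res_le (X : Subgroup G) : res p X ≤ X := (closure_le _).2 fun _ hx => hx.1

theorem res_mono {X Y : Subgroup G} (h : X ≤ Y) : res p X ≤ res p Y :=
  closure_mono fun _ hx => ⟨h hx.1, hx.2⟩

theorem res_res (X : Subgroup G) : res p X ≤ res p (res p X) :=
  (closure_le _).2 fun _ hx => subset_closure ⟨subset_closure hx, hx.2⟩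

theorem res_conj (g : G) (X : Subgroup G) :
    (res p X).map (MulAut.conj g).toMonoidHom ≤ res p (X.map (MulAut.conj g).toMonoidHom) := by
  rw [res, MonoidHom.map_closure]
  refine closure_mono ?_
  rintro _ ⟨x, hx, rfl⟩
  exact ⟨mem_map_of_mem _ hx.1, (MulEquiv.orderOf_eq (MulAut.conj g) x).symm ▸ hx.2⟩

theorem le_normalizer_res (X : Subgroup G) : X ≤ normalizer ((res p X : Subgroup G) : Set G) := by
  refine le_normalizer_of_conj fun x hx c hc => ?_
  have hX : X.map (MulAut.conj x).toMonoidHom ≤ X := map_le_iff_le_comap.2 fun y hy =>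
    mul_mem (mul_mem hx hy) (inv_mem hx)
  exact res_mono hX (res_conj x X (mem_map_of_mem _ hc))

variable [Finite G] [hp : Fact p.Prime]

theorem res_sup_sylow (S : Sylow p G) {B : Subgroup G} (hB : B.IsSubnormal) :
    B ≤ res p B ⊔ (B ⊓ (S : Subgroup G)) := by
  obtain ⟨Q, hQ⟩ := Cfsg.Lib.Solv.sylow_inf_subnormal hB S
  have h := congrArg (Subgroup.map B.subtype) (Transfer.pResidual_sup_sylow Q)
  rw [Subgroup.map_sup, hQ, subgroupOf_map_subtype, ← MonoidHom.range_eq_map, range_subtype] at h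
  refine h.ge.trans (sup_le_sup ?_ (le_of_eq (inf_comm _ _)))
  rw [Cfsg.pResidual, MonoidHom.map_closure]
  refine closure_mono ?_
  rintro _ ⟨x, hx, rfl⟩
  exact ⟨x.2, (Subgroup.orderOf_coe x).symm ▸ hx⟩

/-- The induction hypothesis, used inside a proper subnormal subgroup. -/
def Good (p : ℕ) (n : ℕ) : Prop :=
  ∀ (G : Type u) [Group G] [Finite G], Nat.card G ≤ n → ∀ (S : Sylow p G) (A B : Subgroup G),
    A.IsSubnormal → B.IsSubnormal →
      (A ⊔ B) ⊓ (S : Subgroup G) ≤ (A ⊓ (S : Subgroup G)) ⊔ (B ⊓ (S : Subgroup G))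

theorem inside {n : ℕ} (ih : Good.{u} p n) (hn : Nat.card G ≤ n + 1) (S : Sylow p G) {J X Y : Subgroup G}
    (hJ : J.IsSubnormal) (hne : J ≠ ⊤) (hX : X.IsSubnormal) (hY : Y.IsSubnormal) (hXJ : X ≤ J) (hYJ : Y ≤ J) :
    (X ⊔ Y) ⊓ (S : Subgroup G) ≤ (X ⊓ (S : Subgroup G)) ⊔ (Y ⊓ (S : Subgroup G)) := by
  obtain ⟨Q, hQ⟩ := Cfsg.Lib.Solv.sylow_inf_subnormal hJ S
  have hcard : Nat.card J ≤ n := by
    have h2 : Nat.card J < Nat.card G := lt_of_le_of_ne
      (Nat.le_of_dvd Nat.card_pos (card_subgroup_dvd_card J)) fun h => hne (eq_top_of_card_eq J h)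
    omega
  have h := map_mono (f := J.subtype)
    (ih J hcard Q (X.subgroupOf J) (Y.subgroupOf J) hX.subgroupOf hY.subgroupOf)
  rw [hQ] at h
  simp only [Subgroup.map_inf _ _ _ J.subtype_injective, Subgroup.map_sup, map_subtype_eq_of_le hXJ,
    map_subtype_eq_of_le hYJ, subgroupOf_map_subtype] at h
  intro x hx
  have hxJ : x ∈ J := sup_le hXJ hYJ hx.1
  exact sup_le_sup (inf_le_inf_left X inf_le_left) (inf_le_inf_left Y inf_le_left)
    (h ⟨hx.1, hx.2, hxJ⟩)

theorem inside_finset {n : ℕ} (ih : Good.{u} p n) (hn : Nat.card G ≤ n + 1) (S : Sylow p G)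
    {J : Subgroup G} (hJ : J.IsSubnormal) (hne : J ≠ ⊤) {ι : Type*} (f : ι → Subgroup G)
    (hf : ∀ i, (f i).IsSubnormal) (hfJ : ∀ i, f i ≤ J) (t : Finset ι) :
    (t.sup f).IsSubnormal ∧ t.sup f ⊓ (S : Subgroup G) ≤ t.sup fun i => f i ⊓ (S : Subgroup G) := by
  classical
  induction t using Finset.induction_on with
  | empty => simp [IsSubnormal.bot]
  | insert a t _ iht =>
    simp only [Finset.sup_insert]
    refine ⟨Cfsg.Lib.Solv.sup_isSubnormal (hf a) iht.1, ?_⟩
    refine (inside ih hn S hJ hne (hf a) iht.1 (hfJ a) (Finset.sup_le fun i _ => hfJ i)).trans ?_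
    exact sup_le_sup le_rfl iht.2

/-- Passing to the residual of the second subgroup. -/
theorem reduce {n : ℕ} (ih : Good.{u} p n) (hn : Nat.card G ≤ n + 1) (S : Sylow p G)
    (C : Subgroup G → Prop) (hCsup : ∀ X Y, C X → C Y → C (X ⊔ Y)) (hCbot : C ⊥)
    (hCconj : ∀ (g : G) X, C X → C (X.map (MulAut.conj g).toMonoidHom))
    (base : ∀ A B : Subgroup G, A.IsSubnormal → B.IsSubnormal → A ⊔ B = ⊤ → C A → B ≤ res p B →
      (S : Subgroup G) ≤ (A ⊓ (S : Subgroup G)) ⊔ (B ⊓ (S : Subgroup G))) :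
    ∀ A B : Subgroup G, A.IsSubnormal → B.IsSubnormal → C A →
      (A ⊔ B) ⊓ (S : Subgroup G) ≤ (A ⊓ (S : Subgroup G)) ⊔ (B ⊓ (S : Subgroup G)) := by
  classical
  suffices key : ∀ (m : ℕ) (A B : Subgroup G), Nat.card B = m → A.IsSubnormal → B.IsSubnormal → C A →
      (A ⊔ B) ⊓ (S : Subgroup G) ≤ (A ⊓ (S : Subgroup G)) ⊔ (B ⊓ (S : Subgroup G)) from
    fun A B => key _ A B rfl
  intro m
  induction m using Nat.strong_induction_on with
  | _ m ihm =>
    intro A B hm hA hB hCA
    by_cases htop : A ⊔ B = ⊤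
    swap
    · exact inside ih hn S (Cfsg.Lib.Solv.sup_isSubnormal hA hB) htop hA hB le_sup_left le_sup_right
    by_cases hBC : B ≤ res p B
    · exact inf_le_right.trans (base A B hA hB htop hCA hBC)
    set T := (A ⊓ (S : Subgroup G)) ⊔ (B ⊓ (S : Subgroup G)) with hT
    refine inf_le_right.trans ?_
    by_cases hAt : A = ⊤
    · exact le_trans (by rw [hAt, top_inf_eq]) le_sup_left
    set P := B ⊓ (S : Subgroup G) with hP
    set B0 := res p B with hB0
    have hB0n : B0.IsSubnormal :=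
      Cfsg.Lib.Solv.isSubnormal_of_normal_le (res_le B) hB (le_normalizer_res B)
    have hlt : Nat.card B0 < m := by
      rw [← hm]
      refine lt_of_le_of_ne (Nat.le_of_dvd Nat.card_pos (card_dvd_of_le (res_le B))) fun h => hBC ?_
      exact (eq_of_le_of_card_ge (res_le B) h.ge).ge
    haveI := Fintype.ofFinite P
    set f : P → Subgroup G := fun s => A.map (MulAut.conj (s : G)).toMonoidHom with hf
    set A1 := Finset.univ.sup f with hA1
    obtain ⟨N, hN, hAN, hNlt⟩ := hA.exists_normal_and_le_and_lt_top_of_ne hAt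
    have hfN : ∀ s, f s ≤ N := fun s => map_le_iff_le_comap.2 fun x hx => hN.conj_mem x (hAN hx) _
    obtain ⟨hA1n, hA1S⟩ := inside_finset ih hn S hN.isSubnormal hNlt.ne f
      (fun s => hA.map (f := (MulAut.conj (s : G)).toMonoidHom) (MulAut.conj (s : G)).surjective) hfN Finset.univ
    have hPT : P ≤ T := le_sup_right
    have hA1T : A1 ⊓ (S : Subgroup G) ≤ T := hA1S.trans <| Finset.sup_le fun s _ => by
      intro y hy
      obtain ⟨⟨x, hx, hxy⟩, hyS⟩ := hy
      have hs : (s : G) ∈ (S : Subgroup G) := s.2.2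
      have hxy' : (s : G) * x * (s : G)⁻¹ = y := hxy
      have hxS : x ∈ (S : Subgroup G) := by
        rw [show x = (s : G)⁻¹ * y * s by rw [← hxy']; group]
        exact mul_mem (mul_mem (inv_mem hs) hyS) hs
      rw [← hxy']
      exact mul_mem (mul_mem (hPT s.2) ((le_sup_left : A ⊓ _ ≤ T) (Subgroup.mem_inf.2 ⟨hx, hxS⟩)))
        (inv_mem (hPT s.2))
    have hCA1 : C A1 := Finset.sup_induction hCbot (fun X hX Y hY => hCsup X Y hX hY)
      (fun s _ => hCconj _ A hCA)
    have hAA1 : A ≤ A1 := by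
      refine le_trans ?_ (Finset.le_sup (f := f) (Finset.mem_univ 1))
      intro x hx
      exact ⟨x, hx, by simp⟩
    have hB0T : B0 ⊓ (S : Subgroup G) ≤ T := le_sup_of_le_right (inf_le_inf_right _ (res_le B))
    by_cases hJ : A1 ⊔ B0 = ⊤
    · have h := ihm _ hlt A1 B0 rfl hA1n hB0n hCA1
      rw [hJ, top_inf_eq] at h
      exact h.trans (sup_le hA1T hB0T)
    set J := A1 ⊔ B0 with hJdef
    have hPn : P ≤ normalizer (J : Set G) := by
      refine le_normalizer_of_conj fun g hg c hc => ?_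
      have h1 : A1.map (MulAut.conj g).toMonoidHom ≤ A1 := by
        rw [map_le_iff_le_comap]
        refine Finset.sup_le fun s _ => map_le_iff_le_comap.1 ?_
        refine le_trans ?_ (Finset.le_sup (f := f) (Finset.mem_univ (⟨g, hg⟩ * s)))
        rintro _ ⟨_, ⟨x, hx, rfl⟩, rfl⟩
        exact ⟨x, hx, by simp [mul_assoc]⟩
      have h2 : B0.map (MulAut.conj g).toMonoidHom ≤ B0 := map_le_iff_le_comap.2 fun y hy =>
        (mem_normalizer_iff.1 (le_normalizer_res B hg.1) y).1 hy
      have h3 : J.map (MulAut.conj g).toMonoidHom ≤ J := by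
        rw [hJdef, Subgroup.map_sup]; exact sup_le_sup h1 h2
      exact h3 (mem_map_of_mem _ hc)
    have hgen : (⊤ : Subgroup G) ≤ J ⊔ P := htop.ge.trans
      (sup_le (le_sup_of_le_left (hAA1.trans le_sup_left))
        ((res_sup_sylow S hB).trans (sup_le_sup le_sup_right le_rfl)))
    haveI hJn : J.Normal := normalizer_eq_top_iff.1 (top_le_iff.1 (hgen.trans (sup_le le_normalizer hPn)))
    have hJS : J ⊓ (S : Subgroup G) ≤ T :=
      (inside ih hn S hJn.isSubnormal hJ hA1n hB0n le_sup_left le_sup_right).trans (sup_le hA1T hB0T)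
    intro s hs
    obtain ⟨j, hj, x, hx, rfl⟩ := mem_sup_of_normal_left.1 (hgen (mem_top s))
    refine mul_mem (hJS (Subgroup.mem_inf.2 ⟨hj, ?_⟩)) (hPT hx)
    simpa using mul_mem hs (inv_mem hx.2)

theorem map_inf_sylow (S : Sylow p G) {A : Subgroup G} (hA : A.IsSubnormal) {H : Type*} [Group H]
    (f : G →* H) :
    A.map f ⊓ (S : Subgroup G).map f ≤ (A ⊓ (S : Subgroup G)).map f := by
  obtain ⟨Q, hQ⟩ := Cfsg.Lib.Solv.sylow_inf_subnormal hA S
  set R := Q.mapSurjective (f.subgroupMap_surjective A) with hR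
  set U := ((S : Subgroup G).map f).subgroupOf (A.map f) with hU
  have hle : (R : Subgroup ↥(A.map f)) ≤ U := by
    rw [hR, Sylow.coe_mapSurjective]
    rintro _ ⟨a, ha, rfl⟩
    rw [hQ] at ha
    exact mem_map_of_mem f ha
  have heq : U = (R : Subgroup ↥(A.map f)) := R.is_maximal' ((S.isPGroup'.map f).comap_subtype) hle
  intro x hx
  have h1 : (⟨x, hx.1⟩ : ↥(A.map f)) ∈ U := hx.2
  rw [heq, hR, Sylow.coe_mapSurjective] at h1
  obtain ⟨a, ha, he⟩ := h1
  rw [hQ] at ha
  exact ⟨a, ⟨a.2, ha⟩, congrArg Subtype.val he⟩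

theorem trivial_of_top_le_res (h : (⊤ : Subgroup G) ≤ res p ⊤) {D : Type*} [Group D] (hD : IsPGroup p D)
    (f : G →* D) (x : G) : f x = 1 := by
  refine (h.trans ((closure_le f.ker).2 ?_)) (mem_top x)
  rintro y ⟨-, hy⟩
  obtain ⟨k, hk⟩ := hD (f y)
  show f y = 1
  exact orderOf_eq_one_iff.1 (Nat.eq_one_of_dvd_coprimes
    ((Nat.Coprime.coprime_dvd_left (orderOf_map_dvd f y) hy).pow_right k) dvd_rfl (orderOf_dvd_of_pow_eq_one hk))

open scoped IsMulCommutative in
/-- The case of two subgroups generated by elements of order prime to `p`. -/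
theorem core {n : ℕ} (ih : Good.{u} p n) (hn : Nat.card G ≤ n + 1) (S : Sylow p G) (A B : Subgroup G)
    (hA : A.IsSubnormal) (hB : B.IsSubnormal) (htop : A ⊔ B = ⊤) (hCA : A ≤ res p A) (hCB : B ≤ res p B) :
    (S : Subgroup G) ≤ (A ⊓ (S : Subgroup G)) ⊔ (B ⊓ (S : Subgroup G)) := by
  set T := (A ⊓ (S : Subgroup G)) ⊔ (B ⊓ (S : Subgroup G)) with hT
  by_cases hAt : A = ⊤
  · exact le_trans (by rw [hAt, top_inf_eq]) le_sup_left
  obtain ⟨K, hK, hAK, hKlt⟩ := hA.exists_normal_and_le_and_lt_top_of_ne hAt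
  by_cases hBt : B = ⊤
  · exact le_trans (by rw [hBt, top_inf_eq]) le_sup_right
  have hKb : K ≠ ⊥ := fun h => hBt (by rw [← htop, le_bot_iff.1 (hAK.trans h.le), bot_sup_eq])
  obtain ⟨N, ⟨hNn, hNb, hNK⟩, hmin'⟩ :=
    (Set.toFinite {N : Subgroup G | N.Normal ∧ N ≠ ⊥ ∧ N ≤ K}).exists_minimal ⟨K, hK, hKb, le_rfl⟩
  have hmin : ∀ M : Subgroup G, M.Normal → M ≤ N → M = ⊥ ∨ M = N := fun M hM hMN =>
    or_iff_not_imp_left.2 fun hMb => le_antisymm hMN (hmin' ⟨hM, hMb, hMN.trans hNK⟩ hMN)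
  haveI := hNn
  have hNt : N ≠ ⊤ := fun h => hKlt.ne (top_le_iff.1 (h ▸ hNK))
  set q := QuotientGroup.mk' N
  have hqs : Function.Surjective q := QuotientGroup.mk'_surjective N
  have hcard : Nat.card (G ⧸ N) ≤ n := by
    have h1 := card_eq_card_quotient_mul_card_subgroup N
    have h2 : 1 < Nat.card N := one_lt_card_iff_ne_bot _ |>.2 hNb
    have h3 := Nat.mul_le_mul_left (Nat.card (G ⧸ N)) h2
    have h4 : 0 < Nat.card (G ⧸ N) := Nat.card_pos
    omega
  have hSN : (S : Subgroup G) ≤ T ⊔ N := by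
    have h := ih (G ⧸ N) hcard (S.mapSurjective hqs) (A.map q) (B.map q) (hA.map hqs) (hB.map hqs)
    rw [← Subgroup.map_sup, htop, map_top_of_surjective q hqs, top_inf_eq, Sylow.coe_mapSurjective] at h
    have h2 : (S : Subgroup G).map q ≤ T.map q := by
      refine h.trans ?_
      rw [hT, Subgroup.map_sup]
      exact sup_le_sup (map_inf_sylow S hA q) (map_inf_sylow S hB q)
    rw [map_le_iff_le_comap, comap_map_eq, QuotientGroup.ker_mk'] at h2
    exact h2
  have hTS : T ≤ (S : Subgroup G) := sup_le inf_le_right inf_le_right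
  suffices hNT : N ⊓ (S : Subgroup G) ≤ T by
    intro s hs
    obtain ⟨t, ht, x, hx, rfl⟩ := mem_sup_of_normal_right.1 (hSN hs)
    exact mul_mem ht (hNT (Subgroup.mem_inf.2 ⟨hx, by simpa using mul_mem (inv_mem (hTS ht)) hs⟩))
  set W := (A ⊓ N) ⊔ (B ⊓ N) with hW
  by_cases hNW : N ≤ W
  · refine (inf_le_inf_right _ hNW).trans ((inside ih hn S hNn.isSubnormal hNt (hA.inf hNn.isSubnormal)
      (hB.inf hNn.isSubnormal) inf_le_right inf_le_right).trans ?_)
    exact sup_le_sup (inf_le_inf_right _ inf_le_left) (inf_le_inf_right _ inf_le_left)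
  have hab : ⁅N, N⁆ = ⊥ := by
    refine (hmin ⁅N, N⁆ inferInstance (commutator_le_left N N)).resolve_right fun hperf => hNW ?_
    haveI := Cfsg.Lib.Solv.fitting_characteristic (G := ↥N)
    have hF : (Cfsg.fittingSubgroup ↥N).map N.subtype = ⊥ := by
      refine (hmin _ inferInstance (map_subtype_le _)).resolve_right fun h => hNb ?_
      have hs : Group.IsSolvable ↥(Cfsg.fittingSubgroup ↥N) := fitting_solvable
      have htop' : Cfsg.fittingSubgroup ↥N = ⊤ := map_injective N.subtype_injective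
        (h.trans ((range_subtype N).symm.trans (MonoidHom.range_eq_map _)))
      rw [htop'] at hs
      haveI : Group.IsSolvable ↥N :=
        Group.isSolvable_of_isSolvable_injective (f := (Subgroup.topEquiv (G := ↥N)).symm.toMonoidHom)
          (Subgroup.topEquiv (G := ↥N)).symm.injective
      haveI : Group.IsPerfect ↥N := isPerfect_iff.2 hperf
      by_contra hb
      haveI : Nontrivial ↥N := N.nontrivial_iff_ne_bot.2 hb
      exact Group.IsPerfect.not_isSolvable ↥N inferInstance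
    haveI : Nontrivial ↥N := N.nontrivial_iff_ne_bot.2 hNb
    have hF' : (Cfsg.generalizedFittingSubgroup ↥N).map N.subtype = N := by
      refine (hmin _ inferInstance (map_subtype_le _)).resolve_left fun h => fstar_ne_bot (G := ↥N) ?_
      rwa [map_eq_bot_iff_of_injective _ N.subtype_injective] at h
    rw [Cfsg.generalizedFittingSubgroup, Subgroup.map_sup, hF, sup_bot_eq] at hF'
    conv_lhs => rw [← hF']
    rw [map_le_iff_le_comap]
    refine layer_le_iff.2 fun L0 hL0 => map_le_iff_le_comap.1 ?_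
    have hL := (component_map_subtype_iff hNn.isSubnormal L0).2 hL0
    set L := L0.map N.subtype
    have hLN : L ≤ N := map_subtype_le _
    rcases component_subnormal hL hA with h | h
    · exact le_sup_of_le_left (le_inf h hLN)
    rcases component_subnormal hL hB with h' | h'
    · exact le_sup_of_le_right (le_inf h' hLN)
    exfalso
    refine component_ne_bot hL (le_bot_iff.1 ?_)
    rw [← component_perfect hL]
    have hc : L ≤ centralizer ((A ⊔ B : Subgroup G) : Set G) := fun x hx => mem_centralizer_sup.2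
      ⟨commutator_eq_bot_iff_le_centralizer.1 h hx, commutator_eq_bot_iff_le_centralizer.1 h' hx⟩
    rw [htop] at hc
    exact ((commutator_mono hc (le_top : L ≤ ⊤)).trans
      (commutator_eq_bot_iff_le_centralizer.2 (le_refl _)).le)
  have hcomm : ∀ a ∈ N, ∀ b ∈ N, a * b = b * a := fun a ha b hb =>
    (mem_centralizer_iff.1 (commutator_eq_bot_iff_le_centralizer.1 hab hb) a ha)
  by_cases hpN : p ∣ Nat.card N
  swap
  · rw [eq_bot_of_pgroup_coprime (p := p) S.isPGroup'.to_inf_right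
      (coprime_of_le inf_le_left (hp.out.coprime_iff_not_dvd.2 hpN).symm)]
    exact bot_le
  have hNp : IsPGroup p N := by
    haveI : IsMulCommutative ↥N := ⟨⟨fun a b => Subtype.ext (hcomm a a.2 b b.2)⟩⟩
    obtain ⟨P⟩ : Nonempty (Sylow p ↥N) := inferInstance
    have hPn : (P : Subgroup ↥N).Normal := ⟨fun x hx g => by
      rwa [show g * x * g⁻¹ = x by rw [mul_comm' g x, mul_inv_cancel_right]]⟩
    haveI := P.characteristic_of_normal hPn
    rcases hmin ((P : Subgroup ↥N).map N.subtype) inferInstance (map_subtype_le _) with h | h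
    · rw [map_eq_bot_iff_of_injective _ N.subtype_injective] at h
      have h2 := P.dvd_card_of_dvd_card hpN
      rw [h, card_bot] at h2
      exact absurd (Nat.dvd_one.1 h2) hp.out.one_lt.ne'
    · exact h ▸ P.isPGroup'.map _
  have hNS : N ≤ (S : Subgroup G) :=
    (Cfsg.Lib.Solv.le_pCore hNn hNp).trans (Cfsg.Lib.Solv.pCore_le_sylow p S)
  have hnorm : ∀ {X Y : Subgroup G}, X.IsSubnormal → X ≤ normalizer ((X ⊓ N ⊔ Y ⊓ N : Subgroup G) : Set G) := by
    intro X Y hX
    have hNX : N ≤ normalizer (X : Set G) := Cfsg.Lib.Solv.minimal_normal_le_normalizer hmin hX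
    refine le_normalizer_of_conj fun a ha c hc => ?_
    have hcN : c ∈ N := sup_le (inf_le_right : X ⊓ N ≤ N) (inf_le_right : Y ⊓ N ≤ N) hc
    have h1 : a * c * a⁻¹ * c⁻¹ ∈ X ⊓ N := Subgroup.mem_inf.2
      ⟨by
        rw [show a * c * a⁻¹ * c⁻¹ = a * (c * a⁻¹ * c⁻¹) by group]
        exact mul_mem ha ((mem_normalizer_iff.1 (hNX hcN) _).1 (inv_mem ha)),
       mul_mem (hNn.conj_mem c hcN a) (inv_mem hcN)⟩
    have := mul_mem (mem_sup_left (T := Y ⊓ N) h1) hc
    simpa using this
  haveI hWn : W.Normal := normalizer_eq_top_iff.1 (top_le_iff.1 (htop ▸ sup_le (hnorm hA)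
    (by rw [hW, sup_comm]; exact hnorm hB)))
  have hWb : W = ⊥ := (hmin W hWn (sup_le inf_le_right inf_le_right)).resolve_right fun h => hNW h.ge
  have hcent : N ≤ center G := by
    intro x hx
    have key : ∀ X : Subgroup G, X.IsSubnormal → X ⊓ N ≤ W → X ≤ centralizer ({x} : Set G) := by
      intro X hX hXW a ha
      have hNX : N ≤ normalizer (X : Set G) := Cfsg.Lib.Solv.minimal_normal_le_normalizer hmin hX
      have h1 : a * x * a⁻¹ * x⁻¹ ∈ X ⊓ N := Subgroup.mem_inf.2
        ⟨by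
          rw [show a * x * a⁻¹ * x⁻¹ = a * (x * a⁻¹ * x⁻¹) by group]
          exact mul_mem ha ((mem_normalizer_iff.1 (hNX hx) _).1 (inv_mem ha)),
         mul_mem (hNn.conj_mem x hx a) (inv_mem hx)⟩
      have h2 := hXW h1
      rw [hWb, mem_bot, mul_inv_eq_one, mul_inv_eq_iff_eq_mul] at h2
      exact mem_centralizer_singleton_iff.2 h2
    have hg : (⊤ : Subgroup G) ≤ centralizer ({x} : Set G) :=
      htop.ge.trans (sup_le (key A hA le_sup_left) (key B hB le_sup_right))
    exact mem_center_iff.2 fun g => mem_centralizer_singleton_iff.1 (hg (mem_top g))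
  have hTNn : (T ⊓ N).Normal := ⟨fun x hx g => by
    rwa [mem_center_iff.1 (hcent hx.2) g, mul_inv_cancel_right]⟩
  rcases hmin (T ⊓ N) hTNn inf_le_right with hTN | hTN
  swap
  · exact inf_le_left.trans (hTN ▸ inf_le_left)
  exfalso
  haveI hT' : (T.subgroupOf (S : Subgroup G)).Normal := normal_subgroupOf_of_le_normalizer
    (hSN.trans (sup_le le_normalizer (hcent.trans (center_le_normalizer (T : Set G)))))
  haveI : IsMulCommutative (↥(S : Subgroup G) ⧸ T.subgroupOf (S : Subgroup G)) := ⟨⟨fun a b => by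
    obtain ⟨a, rfl⟩ := QuotientGroup.mk_surjective a
    obtain ⟨b, rfl⟩ := QuotientGroup.mk_surjective b
    obtain ⟨t, ht, x, hx, hax⟩ := mem_sup_of_normal_right.1 (hSN a.2)
    have h1 : (QuotientGroup.mk a : ↥(S : Subgroup G) ⧸ T.subgroupOf (S : Subgroup G)) =
        QuotientGroup.mk ⟨x, hNS hx⟩ := by
      rw [show a = ⟨t, hTS ht⟩ * ⟨x, hNS hx⟩ from Subtype.ext hax.symm, QuotientGroup.mk_mul]
      have h2 : (QuotientGroup.mk (⟨t, hTS ht⟩ : ↥(S : Subgroup G)) :
          ↥(S : Subgroup G) ⧸ T.subgroupOf (S : Subgroup G)) = 1 := (QuotientGroup.eq_one_iff _).2 ht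
      rw [h2, one_mul]
    rw [h1, ← QuotientGroup.mk_mul, ← QuotientGroup.mk_mul]
    congr 1
    exact Subtype.ext (mem_center_iff.1 (hcent hx) b).symm⟩⟩
  refine hNb (le_bot_iff.1 fun x hx => ?_)
  have hres : (⊤ : Subgroup G) ≤ res p ⊤ :=
    htop.ge.trans (sup_le (hCA.trans (res_mono le_top)) (hCB.trans (res_mono le_top)))
  have h1 := trivial_of_top_le_res hres (S.isPGroup'.to_quotient (T.subgroupOf (S : Subgroup G)))
    (MonoidHom.transfer (QuotientGroup.mk' (T.subgroupOf (S : Subgroup G)))) x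
  rw [MonoidHom.transfer_eq_pow _ x (fun k g _ => by
    rw [mul_assoc, ← mem_center_iff.1 (pow_mem (hcent hx) k) g, inv_mul_cancel_left])] at h1
  have h4 : (⟨x ^ (S : Subgroup G).index, hNS (pow_mem hx _)⟩ : ↥(S : Subgroup G)) ∈
      T.subgroupOf (S : Subgroup G) := (QuotientGroup.eq_one_iff _).1 h1
  have h2 : x ^ (S : Subgroup G).index ∈ T ⊓ N :=
    Subgroup.mem_inf.2 ⟨Subgroup.mem_subgroupOf.1 h4, pow_mem hx _⟩
  rw [hTN, mem_bot] at h2
  obtain ⟨k, hk⟩ := hNp ⟨x, hx⟩
  have h3 : x ^ p ^ k = 1 := congrArg Subtype.val hk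
  rw [mem_bot, ← pow_one x,
    ← ((hp.out.coprime_iff_not_dvd.2 S.not_dvd_index).pow_left k).gcd_eq_one]
  exact pow_gcd_eq_one.2 ⟨h3, h2⟩

theorem good (p : ℕ) [hp : Fact p.Prime] : ∀ n : ℕ, Good.{u} p n := by
  intro n
  induction n with
  | zero =>
    intro G _ _ hn
    exact absurd hn (by simpa using (Nat.card_pos (α := G)).ne')
  | succ n ih =>
    intro G _ _ hn S
    have h1 := reduce ih hn S (fun X => X ≤ res p X)
      (fun X Y hX hY => sup_le (hX.trans (res_mono le_sup_left)) (hY.trans (res_mono le_sup_right)))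
      bot_le (fun g X hX => (map_mono hX).trans (res_conj g X))
      (fun A B hA hB htop hCA hCB => core ih hn S A B hA hB htop hCA hCB)
    intro A B hA hB
    refine reduce ih hn S (fun _ => True) (fun _ _ _ _ => trivial) trivial (fun _ _ _ => trivial)
      (fun A B hA hB htop _ hCB => ?_) A B hA hB trivial
    have h2 := h1 B A hB hA hCB
    rw [sup_comm B A, htop, top_inf_eq] at h2
    exact h2.trans (le_of_eq (sup_comm _ _))

/-- S3028. -/
theorem sylow_inf_sup (S : Sylow p G) (A B : Subgroup G) (hA : A.IsSubnormal) (hB : B.IsSubnormal) :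
    (A ⊔ B) ⊓ (S : Subgroup G) = (A ⊓ (S : Subgroup G)) ⊔ (B ⊓ (S : Subgroup G)) :=
  le_antisymm (good p _ G le_rfl S A B hA hB)
    (sup_le (inf_le_inf_right _ le_sup_left) (inf_le_inf_right _ le_sup_right))

end Cfsg.Lib.SubJoin
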