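import Cfsg.Agent.Lib.Solv.Wielandt
import Cfsg.Agent.Lib.Solv.Coprime2
import Cfsg.Agent.Lib.Characters.PiSection
import Cfsg.Agent.Lib.Transfer.Action
import Cfsg.Agent.S0588
import Cfsg.Prelude.Def_Solvable

/-!
Frobenius groups: the kernel, subgroups of order dividing the complement, uniqueness of complements.
-/

set_option autoImplicit false

namespace Cfsg.Lib.Solv

open Subgroup
open scoped Pointwise commutatorElement

universe u

variable {G : Type u} [Group G] {H : Subgroup G}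

theorem frob_mem_of_commute (hH : Cfsg.IsFrobeniusComplement H) {x g : G} (hx : x ∈ H) (hx1 : x ≠ 1)
    (hc : Commute g x) : g ∈ H := by
  by_contra hg
  have h : x ∈ H ⊓ MulAut.conj g • H := ⟨hx, mem_conj_smul.2 (by
    rwa [mul_assoc, ← hc.eq, inv_mul_cancel_left])⟩
  rw [hH.2.2 g hg, mem_bot] at h
  exact hx1 h

theorem frob_conj_inter (hH : Cfsg.IsFrobeniusComplement H) {x a b : G} (hx1 : x ≠ 1)
    (ha : x ∈ MulAut.conj a • H) (hb : x ∈ MulAut.conj b • H) : a⁻¹ * b ∈ H := by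
  by_contra hg
  have h : a⁻¹ * x * a ∈ H ⊓ MulAut.conj (a⁻¹ * b) • H := ⟨mem_conj_smul.1 ha, mem_conj_smul.2 (by
    have e : (a⁻¹ * b)⁻¹ * (a⁻¹ * x * a) * (a⁻¹ * b) = b⁻¹ * x * b := by group
    rw [e]; exact mem_conj_smul.1 hb)⟩
  rw [hH.2.2 _ hg, mem_bot] at h
  exact hx1 (by
    calc x = a * (a⁻¹ * x * a) * a⁻¹ := by group
      _ = 1 := by rw [h]; group)

theorem frob_coprime_index [Finite G] (hH : Cfsg.IsFrobeniusComplement H) :
    (Nat.card H).Coprime H.index :=
  Cfsg.Agent.S0588.result H fun _ hx hx1 _ hg =>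
    frob_mem_of_commute hH hx hx1 (mem_centralizer_singleton_iff.1 hg)

theorem mem_frobeniusKernel {x : G} :
    x ∈ Cfsg.frobeniusKernel H ↔ x = 1 ∨ ∀ g : G, x ∉ MulAut.conj g • H := Iff.rfl

/-- The non-trivial elements of the conjugates, indexed by the cosets. -/
theorem frob_union_bijective (hH : Cfsg.IsFrobeniusComplement H) :
    ∃ E : (G ⧸ H) × {h : H // h ≠ 1} ≃ ↥(Cfsg.frobeniusKernel H)ᶜ,
      ∀ z, (E z : G) = z.1.out * (z.2.1 : G) * z.1.out⁻¹ := by
  have hne : ∀ z : (G ⧸ H) × {h : H // h ≠ 1}, z.1.out * (z.2.1 : G) * z.1.out⁻¹ ≠ 1 := fun z h => by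
    rw [conj_eq_one_iff, OneMemClass.coe_eq_one] at h
    exact z.2.2 h
  have hmem : ∀ z : (G ⧸ H) × {h : H // h ≠ 1},
      z.1.out * (z.2.1 : G) * z.1.out⁻¹ ∈ MulAut.conj z.1.out • H := fun z => by
    rw [mem_conj_smul]
    have e : z.1.out⁻¹ * (z.1.out * (z.2.1 : G) * z.1.out⁻¹) * z.1.out = z.2.1 := by group
    rw [e]; exact z.2.1.2
  let f : (G ⧸ H) × {h : H // h ≠ 1} → ↥(Cfsg.frobeniusKernel H)ᶜ := fun z =>
    ⟨z.1.out * (z.2.1 : G) * z.1.out⁻¹, fun hz => by
      rcases mem_frobeniusKernel.1 hz with h | h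
      · exact hne z h
      · exact h _ (hmem z)⟩
  refine ⟨Equiv.ofBijective f ⟨fun z w hzw => ?_, ?_⟩, fun z => rfl⟩
  · have e : z.1.out * (z.2.1 : G) * z.1.out⁻¹ = w.1.out * (w.2.1 : G) * w.1.out⁻¹ :=
      congrArg Subtype.val hzw
    have h1 := frob_conj_inter hH (hne z) (hmem z) (e ▸ hmem w)
    have h2 : z.1 = w.1 := by
      rw [← QuotientGroup.out_eq' z.1, ← QuotientGroup.out_eq' w.1]
      exact QuotientGroup.eq.2 h1
    refine Prod.ext h2 (Subtype.ext (Subtype.ext ?_))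
    rw [h2] at e
    exact mul_left_cancel (mul_right_cancel e)
  · rintro ⟨x, hx⟩
    rw [Set.mem_compl_iff, mem_frobeniusKernel] at hx
    push Not at hx
    obtain ⟨hx1, g, hg⟩ := hx
    obtain ⟨h, hh⟩ := QuotientGroup.mk_out_eq_mul H g
    rw [mem_conj_smul] at hg
    have hmem2 : (h : G)⁻¹ * (g⁻¹ * x * g) * h ∈ H := H.mul_mem (H.mul_mem (H.inv_mem h.2) hg) h.2
    refine ⟨⟨(g : G ⧸ H), ⟨⟨_, hmem2⟩, fun h1 => hx1 ?_⟩⟩, Subtype.ext ?_⟩
    · have h2 : (h : G)⁻¹ * (g⁻¹ * x * g) * h = 1 := congrArg Subtype.val h1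
      calc x = g * h * ((h : G)⁻¹ * (g⁻¹ * x * g) * h) * (g * h)⁻¹ := by group
        _ = 1 := by rw [h2]; group
    · show (g : G ⧸ H).out * ((h : G)⁻¹ * (g⁻¹ * x * g) * h) * (g : G ⧸ H).out⁻¹ = x
      rw [hh]; group

theorem ncard_frobeniusKernel_compl [Finite G] (hH : Cfsg.IsFrobeniusComplement H) :
    Set.ncard (Cfsg.frobeniusKernel H)ᶜ = H.index * (Nat.card H - 1) := by
  classical
  have := Fintype.ofFinite H
  obtain ⟨E, -⟩ := frob_union_bijective hH
  rw [← Nat.card_coe_set_eq, ← Nat.card_congr E, Nat.card_prod, ← index_eq_card]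
  congr 1
  rw [Nat.card_eq_fintype_card, Fintype.card_subtype_compl, Fintype.card_subtype_eq,
    Nat.card_eq_fintype_card]

theorem card_frobeniusKernel [Finite G] (hH : Cfsg.IsFrobeniusComplement H) :
    Nat.card ↥(Cfsg.frobeniusKernel H) = H.index := by
  have h := Set.ncard_add_ncard_compl (Cfsg.frobeniusKernel H)
  have hle : H.index * 1 ≤ H.index * Nat.card H := Nat.mul_le_mul_left _ Nat.card_pos
  rw [ncard_frobeniusKernel_compl hH, ← card_mul_index H, Nat.mul_sub, mul_comm (Nat.card H)] at h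
  rw [Nat.card_coe_set_eq]
  omega

theorem frob_index_mod [Finite G] (hH : Cfsg.IsFrobeniusComplement H) :
    H.index % Nat.card H = 1 % Nat.card H := by
  classical
  rw [← ZMod.natCast_eq_natCast_iff', Nat.cast_one, index_eq_card,
    Nat.card_congr (MulAction.selfEquivSigmaOrbitsQuotientStabilizer H (G ⧸ H))]
  have := Fintype.ofFinite (MulAction.orbitRel.Quotient H (G ⧸ H))
  rw [Nat.card_sigma, Nat.cast_sum]
  have hb : ∀ h : H, h • ((1 : G) : G ⧸ H) = ((1 : G) : G ⧸ H) := fun h => by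
    show (((h : G) * 1 : G) : G ⧸ H) = _
    rw [QuotientGroup.eq]
    simp
  rw [Finset.sum_eq_single_of_mem (Quotient.mk'' ((1 : G) : G ⧸ H)) (Finset.mem_univ _) ?_]
  · set ω : MulAction.orbitRel.Quotient H (G ⧸ H) := Quotient.mk'' ((1 : G) : G ⧸ H)
    obtain ⟨k, hk⟩ : ω.out ∈ MulAction.orbit H ((1 : G) : G ⧸ H) :=
      MulAction.orbitRel_apply.1 (Quotient.mk_out (s := MulAction.orbitRel H (G ⧸ H)) _)
    have e : ω.out = ((1 : G) : G ⧸ H) := hk.symm.trans (hb k)
    have : MulAction.stabilizer H ω.out = ⊤ :=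
      top_le_iff.1 fun h _ => by rw [MulAction.mem_stabilizer_iff, e]; exact hb h
    rw [← index_eq_card, this, index_top, Nat.cast_one]
  · intro ω _ hω
    have : MulAction.stabilizer H ω.out = ⊥ := by
      rw [eq_bot_iff]
      intro h hh
      rw [MulAction.mem_stabilizer_iff] at hh
      rw [mem_bot]
      by_contra h1
      obtain ⟨g, hg⟩ := QuotientGroup.mk_surjective ω.out
      rw [← hg] at hh
      have h2 : ((h : G) * g : G)⁻¹ * g ∈ H := QuotientGroup.eq.1 hh
      have h3 : (h : G) ∈ MulAut.conj g • H := mem_conj_smul.2 (by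
        have e : g⁻¹ * (h : G) * g = (((h : G) * g)⁻¹ * g)⁻¹ := by group
        rw [e]; exact H.inv_mem h2)
      have h4 := frob_conj_inter hH (fun e => h1 (Subtype.ext e))
        (by rw [map_one, one_smul]; exact h.2 : (h : G) ∈ MulAut.conj (1 : G) • H) h3
      rw [inv_one, one_mul] at h4
      refine hω ?_
      have h5 : ω.out = ((1 : G) : G ⧸ H) := by
        rw [← hg, QuotientGroup.eq, mul_one]
        exact H.inv_mem h4
      rw [← h5]
      exact (Quotient.out_eq' ω).symm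
    rw [← index_eq_card, this, index_bot, ZMod.natCast_self]

theorem frob_nilpotent_le_conj [Finite G] (hH : Cfsg.IsFrobeniusComplement H) (L : Subgroup G)
    (hLn : Group.IsNilpotent L) (hL : Nat.card L ∣ Nat.card H) :
    ∃ x : G, L ≤ MulAut.conj x • H := by
  by_cases hLb : L = ⊥
  · exact ⟨1, by rw [hLb]; exact bot_le⟩
  have : Nontrivial L := (nontrivial_iff_ne_bot L).2 hLb
  obtain ⟨q, hq, hqd⟩ := Nat.exists_prime_and_dvd
    ((one_lt_card_iff_ne_bot _).2 (Group.IsNilpotent.center_ne_bot L)).ne'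
  have := Fact.mk hq
  obtain ⟨z, hz⟩ := exists_prime_orderOf_dvd_card' q hqd
  set z' : G := ((z : L) : G) with hz'def
  have hz' : orderOf z' = q := by rw [hz'def, Subgroup.orderOf_coe, Subgroup.orderOf_coe, hz]
  have hqH : q ∣ Nat.card H := (hqd.trans (card_subgroup_dvd_card _)).trans hL
  obtain ⟨P⟩ := (inferInstance : Nonempty (Sylow q H))
  have hidx : ¬ q ∣ ((P : Subgroup H).map H.subtype).index := by
    rw [index_map_subtype]
    intro hd
    rcases hq.dvd_mul.1 hd with h | h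
    · exact P.not_dvd_index h
    · exact hq.ne_one (Nat.eq_one_of_dvd_coprimes (frob_coprime_index hH) hqH h)
  obtain ⟨x, hx⟩ := exists_conj_le_of_sylow (P.isPGroup'.map H.subtype) hidx
    (IsPGroup.of_card (n := 1) (show Nat.card (zpowers z') = q ^ 1 by
      rw [Nat.card_zpowers, hz', pow_one]))
  have hzx : x⁻¹ * z' * x ∈ H :=
    mem_conj_smul.1 ((hx.trans (smul_le_smul_left _ (map_subtype_le _))) (mem_zpowers z'))
  refine ⟨x, fun l hl => mem_conj_smul.2 (frob_mem_of_commute hH hzx ?_ ?_)⟩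
  · intro e
    have : z' = 1 := by
      calc z' = x * (x⁻¹ * z' * x) * x⁻¹ := by group
        _ = 1 := by rw [e]; group
    rw [this, orderOf_one] at hz'
    exact hq.ne_one hz'.symm
  · have hc : l * z' = z' * l :=
      congrArg Subtype.val (mem_center_iff.1 z.2 ⟨l, hl⟩)
    show x⁻¹ * l * x * (x⁻¹ * z' * x) = x⁻¹ * z' * x * (x⁻¹ * l * x)
    calc x⁻¹ * l * x * (x⁻¹ * z' * x) = x⁻¹ * (l * z') * x := by group
      _ = x⁻¹ * (z' * l) * x := by rw [hc]
      _ = _ := by group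

/-- Frobenius' theorem. -/
theorem exists_frobeniusKernel [Finite G] (hH : Cfsg.IsFrobeniusComplement H) :
    ∃ K : Subgroup G, K.Normal ∧ (K : Set G) = Cfsg.frobeniusKernel H ∧ IsComplement' K H := by
  obtain ⟨K, hKn, hsup, hinf⟩ := Cfsg.Lib.Characters.exists_complement_of_fusion
    (frob_coprime_index hH) (fun x hx y hy hxy => by
      obtain ⟨g, hg⟩ := isConj_iff.1 hxy
      by_cases hx1 : x = 1
      · refine ⟨1, H.one_mem, ?_⟩
        rw [← hg, hx1]; group
      · refine ⟨g, by_contra fun hgH => ?_, hg⟩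
        have h : y ∈ H ⊓ MulAut.conj g • H := ⟨hy, by
          rw [← hg]
          refine mem_conj_smul.2 ?_
          have e : g⁻¹ * (g * x * g⁻¹) * g = x := by group
          rw [e]; exact hx⟩
        rw [hH.2.2 g hgH, mem_bot] at h
        rw [h, conj_eq_one_iff] at hg
        exact hx1 hg)
    (fun E p hp hel hd => by
      obtain ⟨x, hx⟩ := frob_nilpotent_le_conj hH E
        (Cfsg.Lib.Characters.isNilpotent_of_isElementary hp hel) hd
      refine ⟨x⁻¹, ?_⟩
      have h := smul_le_smul_left (MulAut.conj x⁻¹) hx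
      rwa [← mul_smul, ← map_mul, inv_mul_cancel, map_one, one_smul] at h)
  have hc : IsComplement' K H := isComplement'_of_disjoint_and_mul_eq_univ (disjoint_iff.2 hinf)
    (by rw [← normal_mul, hsup, coe_top])
  refine ⟨K, hKn, ?_, hc⟩
  refine Set.eq_of_subset_of_ncard_le ?_ ?_ (Set.toFinite _)
  · intro x hx
    rw [mem_frobeniusKernel]
    refine or_iff_not_imp_left.2 fun hx1 g hg => hx1 ?_
    have h : g⁻¹ * x * g ∈ K ⊓ H := ⟨by simpa using hKn.conj_mem x hx g⁻¹, mem_conj_smul.1 hg⟩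
    rw [hinf, mem_bot] at h
    calc x = g * (g⁻¹ * x * g) * g⁻¹ := by group
      _ = 1 := by rw [h]; group
  · rw [← Nat.card_coe_set_eq, ← Nat.card_coe_set_eq, card_frobeniusKernel hH, hc.index_eq_card]
    exact le_rfl

theorem isFrobeniusComplement_conj (hH : Cfsg.IsFrobeniusComplement H) (x : G) :
    Cfsg.IsFrobeniusComplement (MulAut.conj x • H) := by
  have hne : ∀ K : Subgroup G, MulAut.conj x • H = MulAut.conj x • K → H = K := fun K h =>
    smul_left_cancel _ h
  refine ⟨fun h => hH.1 (hne ⊥ (by rw [h]; exact (Subgroup.map_bot _).symm)), fun h => hH.2.1 (hne ⊤ (by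
    rw [h, conj_smul_normal])), fun g hg => ?_⟩
  have h2 : x⁻¹ * g * x ∉ H := fun h => hg (mem_conj_smul.2 h)
  have h3 := congrArg (MulAut.conj x • ·) (hH.2.2 _ h2)
  simp only [smul_inf, ← mul_smul, ← map_mul] at h3
  have e : x * (x⁻¹ * g * x) = g * x := by group
  rw [e, map_mul, mul_smul] at h3
  exact h3.trans (Subgroup.map_bot _)

theorem isFrobeniusComplement_subgroupOf (hH : Cfsg.IsFrobeniusComplement H) (L : Subgroup G)
    (hne : H ⊓ L ≠ ⊥) (hnle : ¬ L ≤ H) : Cfsg.IsFrobeniusComplement (H.subgroupOf L) := by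
  refine ⟨fun h => hne ?_, fun h => hnle (subgroupOf_eq_top.1 h), fun g hg => ?_⟩
  · rwa [subgroupOf_eq_bot, disjoint_iff] at h
  · rw [eq_bot_iff]
    intro z hz
    rw [mem_bot]
    have h2 : (z : G) ∈ H ⊓ MulAut.conj (g : G) • H :=
      ⟨hz.1, mem_conj_smul.2 (mem_subgroupOf.1 (mem_conj_smul.1 hz.2))⟩
    rw [hH.2.2 (g : G) (fun h => hg (mem_subgroupOf.2 h)), mem_bot] at h2
    exact Subtype.ext h2

/-- A subgroup whose order divides that of the complement lies in a conjugate of it. -/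
theorem frob_le_conj [Finite G] (hH : Cfsg.IsFrobeniusComplement H) (L : Subgroup G)
    (hL : Nat.card L ∣ Nat.card H) : ∃ x : G, L ≤ MulAut.conj x • H := by
  by_contra hno
  push Not at hno
  have hLne : L ≠ ⊥ := fun h => hno 1 (h ▸ bot_le)
  obtain ⟨K, hKn, hKeq, hKc⟩ := exists_frobeniusKernel hH
  have hKL : L ⊓ K = ⊥ := inf_eq_bot_of_coprime_card (by
    refine (frob_coprime_index hH).coprime_dvd_left hL |>.coprime_dvd_right ?_
    rw [hKc.index_eq_card])
  have hcov : ∀ l ∈ L, l ≠ 1 → ∃ x : G, l ∈ MulAut.conj x • H := by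
    intro l hl hl1
    by_contra hcon
    push Not at hcon
    have h : l ∈ L ⊓ K := ⟨hl, by
      show l ∈ (K : Set G)
      rw [hKeq, mem_frobeniusKernel]; exact Or.inr hcon⟩
    rw [hKL, mem_bot] at h
    exact hl1 h
  let M : G → Subgroup L := fun x => (MulAut.conj x • H).subgroupOf L
  have hM : ∀ x : G, ∀ l : L, l ≠ 1 → l ∈ M x → Cfsg.IsFrobeniusComplement (M x) := by
    intro x l hl hlM
    refine isFrobeniusComplement_subgroupOf (isFrobeniusComplement_conj hH x) L (fun h => hl ?_) (hno x)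
    have h2 : (l : G) ∈ MulAut.conj x • H ⊓ L := ⟨hlM, l.2⟩
    rw [h, mem_bot] at h2
    exact Subtype.ext h2
  have hsize : ∀ x : G, Cfsg.IsFrobeniusComplement (M x) →
      Nat.card L ≤ 2 * Set.ncard (Cfsg.frobeniusKernel (M x))ᶜ := by
    intro x hx
    rw [ncard_frobeniusKernel_compl hx, ← card_mul_index (M x)]
    have h2 : 2 ≤ Nat.card (M x) := (one_lt_card_iff_ne_bot _).2 hx.1
    calc Nat.card (M x) * (M x).index ≤ (2 * (Nat.card (M x) - 1)) * (M x).index :=
          Nat.mul_le_mul_right _ (by omega)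
      _ = _ := by ring
  obtain ⟨l₀, hl₀, hl₀1⟩ := L.bot_or_exists_ne_one.resolve_left hLne
  obtain ⟨x, hx⟩ := hcov l₀ hl₀ hl₀1
  have hMx := hM x ⟨l₀, hl₀⟩ (fun e => hl₀1 (congrArg Subtype.val e)) hx
  obtain ⟨a, ha, ha1⟩ : ∃ a ∈ Cfsg.frobeniusKernel (M x), a ≠ 1 := by
    by_contra hcon
    push Not at hcon
    have h1 : Nat.card ↥(Cfsg.frobeniusKernel (M x)) ≤ 1 :=
      Finite.card_le_one_iff_subsingleton.2 ⟨fun a b =>
        Subtype.ext ((hcon a a.2).trans (hcon b b.2).symm)⟩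
    rw [card_frobeniusKernel hMx] at h1
    exact hMx.2.1 (index_eq_one.1 (le_antisymm h1 (Nat.pos_of_ne_zero index_ne_zero_of_finite)))
  obtain ⟨y, hy⟩ := hcov a a.2 fun e => ha1 (Subtype.ext e)
  have hMy := hM y a ha1 hy
  have hdis : Disjoint (Cfsg.frobeniusKernel (M x))ᶜ (Cfsg.frobeniusKernel (M y))ᶜ := by
    rw [Set.disjoint_left]
    intro u hu hu'
    rw [Set.mem_compl_iff, mem_frobeniusKernel] at hu hu'
    push Not at hu hu'
    obtain ⟨hu1, g, hg⟩ := hu
    obtain ⟨-, g', hg'⟩ := hu'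
    have hc : ∀ (g : L) (z : G) (u : L), u ∈ MulAut.conj g • M z ↔
        (u : G) ∈ MulAut.conj ((g : G) * z) • H := fun g z u => by
      rw [mem_conj_smul, mem_subgroupOf, map_mul, mul_smul, mem_conj_smul, mem_conj_smul,
        mem_conj_smul]
      rfl
    rw [hc] at hg hg'
    have h1 := frob_conj_inter hH (fun e => hu1 (Subtype.ext e)) hg hg'
    rcases mem_frobeniusKernel.1 ha with h | h
    · exact ha1 h
    refine h (g'⁻¹ * g) ?_
    rw [hc]
    have e : MulAut.conj (((g'⁻¹ * g : L) : G) * x) • H = MulAut.conj y • H := by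
      have h2 : MulAut.conj (((g : G) * x)⁻¹ * ((g' : G) * y)) • H = H :=
        conj_smul_eq_self_iff.2 (le_normalizer h1)
      conv_lhs => rw [← h2, ← mul_smul, ← map_mul]
      congr 2
      simp only [Subgroup.coe_mul, Subgroup.coe_inv]
      group
    rw [e]
    exact hy
  have htot : Set.ncard (Cfsg.frobeniusKernel (M x))ᶜ + Set.ncard (Cfsg.frobeniusKernel (M y))ᶜ <
      Nat.card L := by
    rw [← Set.ncard_union_eq hdis, ← Set.ncard_univ]
    refine Set.ncard_lt_ncard ?_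
    rw [Set.ssubset_univ_iff]
    intro h
    rcases h.ge (Set.mem_univ (1 : L)) with h | h <;> exact h (Or.inl rfl)
  have := hsize x hMx
  have := hsize y hMy
  omega

/-- A normal complement equals the kernel. -/
theorem eq_frobeniusKernel [Finite G] (hH : Cfsg.IsFrobeniusComplement H) (K : Subgroup G) [hKn : K.Normal]
    (hc : IsComplement' K H) : (K : Set G) = Cfsg.frobeniusKernel H := by
  refine Set.eq_of_subset_of_ncard_le ?_ ?_ (Set.toFinite _)
  · intro x hx
    rw [mem_frobeniusKernel]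
    refine or_iff_not_imp_left.2 fun hx1 g hg => hx1 ?_
    have h : g⁻¹ * x * g ∈ K ⊓ H := ⟨by simpa using hKn.conj_mem x hx g⁻¹, mem_conj_smul.1 hg⟩
    rw [hc.disjoint.eq_bot, mem_bot] at h
    calc x = g * (g⁻¹ * x * g) * g⁻¹ := by group
      _ = 1 := by rw [h]; group
  · rw [← Nat.card_coe_set_eq, ← Nat.card_coe_set_eq, card_frobeniusKernel hH, hc.index_eq_card]
    exact le_rfl

theorem frob_fpf (hH : Cfsg.IsFrobeniusComplement H) {K : Subgroup G} (hd : K ⊓ H = ⊥) {h : G}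
    (hh : h ∈ H) (h1 : h ≠ 1) : K ⊓ centralizer ({h} : Set G) = ⊥ := by
  rw [eq_bot_iff]
  intro k hk
  rw [← hd]
  exact ⟨hk.1, frob_mem_of_commute hH hh h1 (mem_centralizer_singleton_iff.1 hk.2)⟩

/-- The fixed-point-free criterion. -/
theorem isFrobeniusComplement_of_fpf {K H : Subgroup G} [hKn : K.Normal] (hc : IsComplement' K H)
    (hK : K ≠ ⊥) (hH : H ≠ ⊥) (hfpf : ∀ h ∈ H, h ≠ 1 → K ⊓ centralizer ({h} : Set G) = ⊥) :
    Cfsg.IsFrobeniusComplement H := by
  refine ⟨hH, fun h => hK ?_, fun g hg => ?_⟩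
  · have := hc.disjoint.eq_bot
    rwa [h, inf_top_eq] at this
  rw [eq_bot_iff]
  intro x hx
  rw [mem_bot]
  by_contra hx1
  obtain ⟨k, hk, h, hh, rfl⟩ := mem_sup_of_normal_left.1 (hc.sup_eq_top.ge (mem_top g))
  have hy : k⁻¹ * x * k ∈ H := by
    have h2 := mem_conj_smul.1 hx.2
    have h3 := H.mul_mem (H.mul_mem hh h2) (H.inv_mem hh)
    have e : h * ((k * h)⁻¹ * x * (k * h)) * h⁻¹ = k⁻¹ * x * k := by group
    rwa [e] at h3
  have hcm : x⁻¹ * (k⁻¹ * x * k) ∈ K ⊓ H := by
    refine ⟨?_, H.mul_mem (H.inv_mem hx.1) hy⟩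
    have e : x⁻¹ * (k⁻¹ * x * k) = (x⁻¹ * k⁻¹ * x⁻¹⁻¹) * k := by group
    rw [e]
    exact K.mul_mem (hKn.conj_mem _ (K.inv_mem hk) x⁻¹) hk
  rw [hc.disjoint.eq_bot, mem_bot, inv_mul_eq_one] at hcm
  have hkc : k ∈ K ⊓ centralizer ({x} : Set G) := ⟨hk, mem_centralizer_singleton_iff.2 (by
    calc k * x = k * (k⁻¹ * x * k) := by rw [← hcm]
      _ = x * k := by group)⟩
  rw [hfpf x hx.1 hx1, mem_bot] at hkc
  refine hg ?_
  rw [hkc, one_mul]
  exact hh

/-- Normal subgroups are comparable with the kernel. -/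
theorem normal_le_or_kernel_le [Finite G] (hH : Cfsg.IsFrobeniusComplement H) {K : Subgroup G}
    [hKn : K.Normal] (hc : IsComplement' K H) (N : Subgroup G) [hN : N.Normal] : N ≤ K ∨ K ≤ N := by
  refine or_iff_not_imp_left.2 fun hnle => ?_
  obtain ⟨x, hxN, hxK⟩ := SetLike.not_le_iff_exists.1 hnle
  rw [← SetLike.mem_coe, eq_frobeniusKernel hH K hc, mem_frobeniusKernel] at hxK
  push Not at hxK
  obtain ⟨hx1, g, hg⟩ := hxK
  set h := g⁻¹ * x * g with hh
  have hhH : h ∈ H := mem_conj_smul.1 hg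
  have hhN : h ∈ N := by simpa [hh] using hN.conj_mem x hxN g⁻¹
  have hh1 : h ≠ 1 := fun e => hx1 (by
    calc x = g * h * g⁻¹ := by rw [hh]; group
      _ = 1 := by rw [e]; group)
  let φ : K → K := fun k => ⟨h * k * h⁻¹ * (k : G)⁻¹, K.mul_mem (hKn.conj_mem _ k.2 h) (K.inv_mem k.2)⟩
  have hinj : Function.Injective φ := by
    intro a b hab
    have e : h * (a : G) * h⁻¹ * (a : G)⁻¹ = h * b * h⁻¹ * (b : G)⁻¹ := congrArg Subtype.val hab
    have hmem : (b : G)⁻¹ * a ∈ K ⊓ centralizer ({h} : Set G) :=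
      ⟨K.mul_mem (K.inv_mem b.2) a.2, mem_centralizer_singleton_iff.2 (by
        calc (b : G)⁻¹ * a * h = (b : G)⁻¹ * (h * a * h⁻¹ * (a : G)⁻¹)⁻¹ * h * a := by group
          _ = (b : G)⁻¹ * (h * b * h⁻¹ * (b : G)⁻¹)⁻¹ * h * a := by rw [e]
          _ = _ := by group)⟩
    rw [frob_fpf hH hc.disjoint.eq_bot hhH hh1, mem_bot, inv_mul_eq_one] at hmem
    exact Subtype.ext hmem.symm
  intro k hk
  obtain ⟨a, ha⟩ := (Finite.injective_iff_surjective.1 hinj) ⟨k, hk⟩
  have e : h * (a : G) * h⁻¹ * (a : G)⁻¹ = k := congrArg Subtype.val ha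
  have e2 : h * (a : G) * h⁻¹ * (a : G)⁻¹ = h * ((a : G) * h⁻¹ * (a : G)⁻¹) := by group
  rw [← e, e2]
  exact N.mul_mem hhN (hN.conj_mem _ (N.inv_mem hhN) a)

/-- An element acting fixed-point-freely has order prime to the module. -/
theorem coprime_of_fpf [Finite G] (A V : Subgroup G) (hAV : A ≤ normalizer (V : Set G))
    (hfpf : ∀ a ∈ A, a ≠ 1 → V ⊓ centralizer ({a} : Set G) = ⊥) :
    (Nat.card A).Coprime (Nat.card V) := by
  refine Nat.coprime_of_dvd fun q hq hqA hqV => ?_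
  have := Fact.mk hq
  obtain ⟨a, ha⟩ := exists_prime_orderOf_dvd_card' q hqA
  have ha' : orderOf (a : G) = q := by rw [Subgroup.orderOf_coe]; exact ha
  have h := Cfsg.Lib.Transfer.card_modEq_card_inf_centralizer (p := q) V (zpowers (a : G))
    (IsPGroup.of_card (n := 1) (by rw [Nat.card_zpowers, ha', pow_one]))
    ((zpowers_le.2 a.2).trans hAV)
  rw [centralizer_zpowers_eq, hfpf a a.2 (fun e => by
    rw [e, orderOf_one] at ha'; exact hq.ne_one ha'.symm), card_bot] at h
  rw [Nat.ModEq, Nat.mod_eq_zero_of_dvd hqV, Nat.one_mod_eq_one.2 hq.ne_one] at h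
  exact zero_ne_one h
where
  centralizer_zpowers_eq {G : Type u} [Group G] {a : G} :
      centralizer ((zpowers a : Subgroup G) : Set G) = centralizer ({a} : Set G) := by
    rw [zpowers_eq_closure, centralizer_closure]

/-- A Frobenius group does not act fixed-point-freely on an abelian group. -/
theorem frobenius_not_fpf [Finite G] (A V : Subgroup G) [IsMulCommutative V]
    (hAV : A ≤ normalizer (V : Set G)) (hfpf : ∀ a ∈ A, a ≠ 1 → V ⊓ centralizer ({a} : Set G) = ⊥)
    (H₀ : Subgroup A) (hH₀ : Cfsg.IsFrobeniusComplement H₀) : V = ⊥ := by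
  classical
  have := Fintype.ofFinite A
  obtain ⟨N, hNn, hNeq, hNc⟩ := exists_frobeniusKernel hH₀
  have hNne : N ≠ ⊥ := fun h => hH₀.2.1 (by
    have := hNc.sup_eq_top
    rwa [h, bot_sup_eq] at this)
  let _ : CommGroup V := { (inferInstance : Group V) with
    mul_comm := fun a b => IsMulCommutative.is_comm.comm a b }
  rw [eq_bot_iff]
  intro v hv
  let f : A → V := fun a => ⟨(a : G) * v * (a : G)⁻¹, (mem_normalizer_iff.1 (hAV a.2) _).1 hv⟩
  have key : ∀ (B : Subgroup A) [Fintype B], B ≠ ⊥ → ∀ g : A, ∏ b : B, f ((b : A) * g) = 1 := by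
    intro B _ hB g
    obtain ⟨c, hc, hc1⟩ := B.bot_or_exists_ne_one.resolve_left hB
    let θ : V →* V :=
      { toFun := fun w => ⟨(c : G) * w * (c : G)⁻¹, (mem_normalizer_iff.1 (hAV c.2) _).1 w.2⟩
        map_one' := Subtype.ext (by simp)
        map_mul' := fun a b => Subtype.ext (by simp [mul_assoc]) }
    have hfix : θ (∏ b : B, f ((b : A) * g)) = ∏ b : B, f ((b : A) * g) := by
      rw [map_prod]
      refine Fintype.prod_equiv (Equiv.mulLeft (⟨c, hc⟩ : B)) _ _ fun b => Subtype.ext ?_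
      show (c : G) * ((((b : A) * g : A) : G) * v * (((b : A) * g : A) : G)⁻¹) * (c : G)⁻¹ =
        (((c * b : A) * g : A) : G) * v * (((c * b : A) * g : A) : G)⁻¹
      simp only [Subgroup.coe_mul]
      group
    have hmem : ((∏ b : B, f ((b : A) * g) : V) : G) ∈ V ⊓ centralizer ({(c : G)} : Set G) := by
      refine ⟨Subtype.coe_prop _, mem_centralizer_singleton_iff.2 ?_⟩
      have h2 : (c : G) * ((∏ b : B, f ((b : A) * g) : V) : G) * (c : G)⁻¹ = _ :=
        congrArg Subtype.val hfix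
      exact (mul_inv_eq_iff_eq_mul.1 h2).symm
    rw [hfpf c c.2 (fun e => hc1 (Subtype.ext e)), mem_bot] at hmem
    exact Subtype.ext hmem
  have hA : ∏ a : A, f a = 1 := by
    have h := key ⊤ (fun h => hNne (le_bot_iff.1 (h ▸ le_top))) 1
    rw [← h]
    exact Fintype.prod_equiv Subgroup.topEquiv.toEquiv.symm _ _ fun a => by simp
  have hN : ∏ a : ↥(Cfsg.frobeniusKernel H₀), f a = 1 := by
    have h := key N hNne 1
    rw [← h]
    refine Fintype.prod_equiv (Equiv.setCongr hNeq.symm) _ _ fun a => ?_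
    show f a = f ((a : A) * 1)
    rw [mul_one]
  have hU : ∏ a : ↥(Cfsg.frobeniusKernel H₀)ᶜ, f a = 1 := by
    have h : (∏ a : ↥(Cfsg.frobeniusKernel H₀), f a) * ∏ a : ↥(Cfsg.frobeniusKernel H₀)ᶜ, f a =
        ∏ a : A, f a := Fintype.prod_subtype_mul_prod_subtype (· ∈ Cfsg.frobeniusKernel H₀) f
    rwa [hA, hN, one_mul] at h
  obtain ⟨E, hE⟩ := frob_union_bijective hH₀
  have hx : ∀ q : A ⧸ H₀, (∏ h : {h : H₀ // h ≠ 1}, f (E (q, h) : A)) = (⟨v, hv⟩ : V)⁻¹ := by
    intro q
    let w := q.out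
    -- the product over the conjugate `w H₀ w⁻¹`
    have h1 := key (MulAut.conj w • H₀) (fun h => hH₀.1
      (smul_left_cancel (MulAut.conj w) (h.trans (Subgroup.map_bot _).symm))) 1
    let e : H₀ ≃ ↥(MulAut.conj w • H₀) := (H₀.equivMapOfInjective _ (MulAut.conj w).injective).toEquiv
    rw [← Fintype.prod_equiv e (fun h : H₀ => f (w * (h : A) * w⁻¹))
      (fun b => f ((b : A) * 1)) (fun h => by rw [mul_one]; rfl),
      ← Finset.mul_prod_erase _ _ (Finset.mem_univ (1 : H₀)),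
      Finset.prod_subtype (p := fun h : H₀ => h ≠ 1) _ (fun x => by simp),
      show f (w * ((1 : H₀) : A) * w⁻¹) = (⟨v, hv⟩ : V) from Subtype.ext (by simp [f])] at h1
    refine (eq_inv_of_mul_eq_one_right ?_)
    refine Eq.trans ?_ h1
    congr 1
    exact Finset.prod_congr rfl fun h _ => congrArg f (hE (q, h))
  have hv0 : (⟨v, hv⟩ : V) ^ H₀.index = 1 := by
    rw [← Fintype.prod_equiv E (fun z => f (E z : A)) (fun a => f a) (fun _ => rfl),
      Fintype.prod_prod_type, Finset.prod_congr rfl fun q _ => hx q, Finset.prod_const,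
      Finset.card_univ, ← Nat.card_eq_fintype_card, ← index_eq_card, inv_pow, inv_eq_one] at hU
    exact hU
  rw [mem_bot]
  have h1 : orderOf (⟨v, hv⟩ : V) = 1 := Nat.eq_one_of_dvd_coprimes (coprime_of_fpf A V hAV hfpf).symm
    (orderOf_dvd_natCard _) ((orderOf_dvd_of_pow_eq_one hv0).trans (index_dvd_card H₀))
  exact congrArg Subtype.val (orderOf_eq_one_iff.1 h1)

/-- The complement normalizes a nontrivial abelian subgroup of the kernel. -/
theorem exists_invariant_abelian [Finite G] (hH : Cfsg.IsFrobeniusComplement H) {K : Subgroup G}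
    [hKn : K.Normal] (hc : IsComplement' K H) :
    ∃ V : Subgroup G, V ≤ K ∧ V ≠ ⊥ ∧ IsMulCommutative V ∧ H ≤ normalizer (V : Set G) := by
  have hK : Nat.card K ≠ 1 := fun h => hH.2.1 (by
    have h2 := hc.sup_eq_top
    rwa [eq_bot_of_card_eq K h, bot_sup_eq] at h2)
  obtain ⟨q, hq, hqd⟩ := Nat.exists_prime_and_dvd hK
  have := Fact.mk hq
  obtain ⟨Q⟩ := (inferInstance : Nonempty (Sylow q K))
  set Q' := (Q : Subgroup K).map K.subtype with hQ'
  set N := normalizer (Q' : Set G) with hN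
  have htop : K ⊔ N = ⊤ := by
    rw [sup_comm]; exact Sylow.normalizer_sup_eq_top Q
  have hidx : (K.subgroupOf N).index = Nat.card H := by
    show K.relIndex N = _
    rw [← relIndex_sup_right (H := N) (K := K), sup_comm, htop, relIndex_top_right,
      hc.symm.index_eq_card]
  have hcop : (Nat.card K).Coprime (Nat.card H) := by
    have h := frob_coprime_index hH
    rw [hc.index_eq_card] at h
    exact h.symm
  obtain ⟨T, hT⟩ := exists_right_complement'_of_coprime (N := K.subgroupOf N) (by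
    rw [hidx]
    exact hcop.coprime_dvd_left (card_comap_dvd_of_injective K N.subtype N.subtype_injective))
  set T' := T.map N.subtype with hT'
  have hTc : Nat.card T' = Nat.card H := by
    rw [hT', card_map_subtype', ← hT.symm.index_eq_card, hidx]
  obtain ⟨x, hx⟩ := frob_le_conj hH T' (dvd_of_eq hTc)
  have heq : T' = MulAut.conj x • H := eq_of_le_of_card_ge hx (by rw [card_conj_smul, hTc])
  set R := MulAut.conj x⁻¹ • Q' with hR
  have hHR : H ≤ normalizer (R : Set G) := by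
    have h := mem_normalizer_conj_smul (g := x⁻¹) (A := T') (map_subtype_le T)
    rwa [heq, ← mul_smul, ← map_mul, inv_mul_cancel, map_one, one_smul] at h
  have hRK : R ≤ K :=
    (smul_le_smul_left _ (map_subtype_le _)).trans (conj_smul_normal x⁻¹ K).le
  have hRp : IsPGroup q R := by
    rw [hR]
    exact (Q.isPGroup'.map _).map _
  have hRne : R ≠ ⊥ := by
    intro h
    have h2 : Nat.card R = 1 := by rw [h, card_bot]
    rw [hR, card_conj_smul, hQ', card_map_subtype'] at h2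
    exact Q.ne_bot_of_dvd_card hqd (eq_bot_of_card_eq _ h2)
  have : Nontrivial R := (nontrivial_iff_ne_bot R).2 hRne
  have := hRp.isNilpotent
  refine ⟨(center R).map R.subtype, (map_subtype_le _).trans hRK, ?_, ?_, ?_⟩
  · exact fun h => Group.IsNilpotent.center_ne_bot R
      ((map_eq_bot_iff_of_injective _ R.subtype_injective).1 h)
  · exact Subgroup.map_isMulCommutative _ _
  · intro h hh
    have key : ∀ h ∈ H, ∀ z ∈ (center R).map R.subtype, h * z * h⁻¹ ∈ (center R).map R.subtype := by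
      rintro h hh _ ⟨z, hz, rfl⟩
      refine ⟨⟨h * (z : G) * h⁻¹, (mem_normalizer_iff.1 (hHR hh) _).1 z.2⟩, ?_, rfl⟩
      rw [SetLike.mem_coe, mem_center_iff]
      intro r
      refine Subtype.ext ?_
      have hr : h⁻¹ * (r : G) * h ∈ R := by
        simpa using (mem_normalizer_iff.1 (hHR (H.inv_mem hh)) _).1 r.2
      have hcm : (h⁻¹ * (r : G) * h) * (z : G) = (z : G) * (h⁻¹ * (r : G) * h) :=
        congrArg Subtype.val (mem_center_iff.1 hz ⟨_, hr⟩)
      show (r : G) * (h * (z : G) * h⁻¹) = h * (z : G) * h⁻¹ * r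
      calc (r : G) * (h * (z : G) * h⁻¹) = h * ((h⁻¹ * (r : G) * h) * (z : G)) * h⁻¹ := by group
        _ = h * ((z : G) * (h⁻¹ * (r : G) * h)) * h⁻¹ := by rw [hcm]
        _ = _ := by group
    rw [mem_normalizer_iff]
    exact fun z => ⟨key h hh z, fun hz => by
      simpa [mul_assoc] using key h⁻¹ (H.inv_mem hh) _ hz⟩

/-- A Frobenius complement with at most as many elements lies in a conjugate. -/
theorem frob_complement_le_conj [Finite G] {H₀ : Subgroup G} (hH : Cfsg.IsFrobeniusComplement H)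
    (hH₀ : Cfsg.IsFrobeniusComplement H₀) (hle : Nat.card H₀ ≤ Nat.card H) :
    ∃ g : G, MulAut.conj g • H₀ ≤ H := by
  obtain ⟨K, hKn, -, hKc⟩ := exists_frobeniusKernel hH
  obtain ⟨K₀, hK₀n, -, hK₀c⟩ := exists_frobeniusKernel hH₀
  have hdvd : Nat.card H₀ ∣ Nat.card H := by
    rw [← hKc.symm.index_eq_card, ← hK₀c.symm.index_eq_card]
    rcases normal_le_or_kernel_le hH hKc K₀ with h | h
    · have h1 : Nat.card K ≤ Nat.card K₀ := by
        have e1 := hKc.card_mul_card
        have e2 := hK₀c.card_mul_card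
        have := Nat.card_pos (α := H₀)
        nlinarith
      rw [eq_of_le_of_card_ge h h1]
    · exact index_dvd_of_le h
  obtain ⟨x, hx⟩ := frob_le_conj hH H₀ hdvd
  refine ⟨x⁻¹, ?_⟩
  have h := smul_le_smul_left (MulAut.conj x⁻¹) hx
  rwa [← mul_smul, ← map_mul, inv_mul_cancel, map_one, one_smul] at h

theorem frob_complement_conj_aux [Finite G] {H₀ : Subgroup G} (hH : Cfsg.IsFrobeniusComplement H)
    (hH₀ : Cfsg.IsFrobeniusComplement H₀) (hle : Nat.card H₀ ≤ Nat.card H) :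
    ∃ g : G, MulAut.conj g • H₀ = H := by
  obtain ⟨g, hg⟩ := frob_complement_le_conj hH hH₀ hle
  refine ⟨g, ?_⟩
  set H₁ := MulAut.conj g • H₀
  have hH₁ := isFrobeniusComplement_conj hH₀ g
  by_contra hne
  obtain ⟨K, hKn, -, hKc⟩ := exists_frobeniusKernel hH
  obtain ⟨V, hVK, hV, hVc, hHV⟩ := exists_invariant_abelian hH hKc
  have hnle : ¬ H ≤ H₁ := fun h => hne (le_antisymm hg h)
  have hne' : H₁ ⊓ H ≠ ⊥ := by rw [inf_eq_left.2 hg]; exact hH₁.1
  refine hV (frobenius_not_fpf H V hHV (fun a ha ha1 => ?_) (H₁.subgroupOf H)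
    (isFrobeniusComplement_subgroupOf hH₁ H hne' hnle))
  rw [eq_bot_iff]
  exact (inf_le_inf_right _ hVK).trans (frob_fpf hH hKc.disjoint.eq_bot ha ha1).le

/-- Frobenius complements are conjugate. -/
theorem frob_complement_conj [Finite G] {H₀ : Subgroup G} (hH : Cfsg.IsFrobeniusComplement H)
    (hH₀ : Cfsg.IsFrobeniusComplement H₀) : ∃ g : G, MulAut.conj g • H₀ = H := by
  rcases le_total (Nat.card H₀) (Nat.card H) with h | h
  · exact frob_complement_conj_aux hH hH₀ h
  · obtain ⟨g, hg⟩ := frob_complement_conj_aux hH₀ hH h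
    exact ⟨g⁻¹, by rw [← hg, ← mul_smul, ← map_mul, inv_mul_cancel, map_one, one_smul]⟩

theorem fpf_involution_inverts {K : Subgroup G} [Finite G] [hKn : K.Normal] {s : G}
    (hs : orderOf s = 2) (hfix : K ⊓ centralizer ({s} : Set G) = ⊥) :
    ∀ k ∈ K, s * k * s⁻¹ = k⁻¹ := by
  have hss : s * s = 1 := by rw [← pow_two, ← hs, pow_orderOf_eq_one]
  let φ : K → K := fun k => ⟨(k : G)⁻¹ * (s * k * s⁻¹), K.mul_mem (K.inv_mem k.2) (hKn.conj_mem _ k.2 s)⟩
  have hinj : Function.Injective φ := by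
    intro a b hab
    have e : (a : G)⁻¹ * (s * a * s⁻¹) = (b : G)⁻¹ * (s * b * s⁻¹) := congrArg Subtype.val hab
    have hmem : (b : G) * (a : G)⁻¹ ∈ K ⊓ centralizer ({s} : Set G) :=
      ⟨K.mul_mem b.2 (K.inv_mem a.2), mem_centralizer_singleton_iff.2 (by
        calc (b : G) * (a : G)⁻¹ * s = (b : G) * ((a : G)⁻¹ * (s * a * s⁻¹)) * s * (a : G)⁻¹ := by group
          _ = (b : G) * ((b : G)⁻¹ * (s * b * s⁻¹)) * s * (a : G)⁻¹ := by rw [e]
          _ = _ := by group)⟩
    rw [hfix, mem_bot, mul_inv_eq_one] at hmem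
    exact Subtype.ext hmem.symm
  intro k hk
  obtain ⟨a, ha⟩ := (Finite.injective_iff_surjective.1 hinj) ⟨k, hk⟩
  have e : (a : G)⁻¹ * (s * a * s⁻¹) = k := congrArg Subtype.val ha
  have hs1 : s⁻¹ = s := inv_eq_of_mul_eq_one_right hss
  rw [← e, mul_inv_rev, inv_inv, mul_inv_rev, mul_inv_rev, inv_inv, hs1]
  calc s * ((a : G)⁻¹ * (s * a * s)) * s = s * (a : G)⁻¹ * s * a * (s * s) := by group
    _ = _ := by rw [hss]; group

/-- Frobenius complements of even order. -/
theorem even_complement [Finite G] (K H : Subgroup G) [K.Normal]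
    (hfpf : ∀ h ∈ H, h ≠ 1 → K ⊓ centralizer ({h} : Set G) = ⊥) (hK : K ≠ ⊥)
    (heven : 2 ∣ Nat.card H) :
    (∃ s ∈ H, orderOf s = 2 ∧ (∀ t ∈ H, orderOf t = 2 → t = s) ∧
      ∀ k ∈ K, s * k * s⁻¹ = k⁻¹) ∧ IsMulCommutative K := by
  have := Fact.mk Nat.prime_two
  obtain ⟨s', hs'⟩ := exists_prime_orderOf_dvd_card' 2 heven
  have hs : orderOf (s' : G) = 2 := by rw [Subgroup.orderOf_coe]; exact hs'
  have hne : ∀ t : G, orderOf t = 2 → t ≠ 1 := fun t ht e => by
    rw [e, orderOf_one] at ht; exact absurd ht (by norm_num)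
  have hinv : ∀ t ∈ H, orderOf t = 2 → ∀ k ∈ K, t * k * t⁻¹ = k⁻¹ := fun t ht ht2 =>
    fpf_involution_inverts ht2 (hfpf t ht (hne t ht2))
  refine ⟨⟨(s' : G), s'.2, hs, fun t ht ht2 => ?_, hinv _ s'.2 hs⟩, ?_⟩
  · by_contra hts
    obtain ⟨k, hk, hk1⟩ := K.bot_or_exists_ne_one.resolve_left hK
    have hd1 : (s' : G)⁻¹ * t ≠ 1 := fun e => hts (inv_mul_eq_one.1 e).symm
    have hmem : k ∈ K ⊓ centralizer ({(s' : G)⁻¹ * t} : Set G) :=
      ⟨hk, mem_centralizer_singleton_iff.2 (by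
        have e1 := hinv t ht ht2 k hk
        have e2 := hinv _ s'.2 hs k hk
        calc k * ((s' : G)⁻¹ * t) = (s' : G)⁻¹ * ((s' : G) * k * (s' : G)⁻¹) * t := by group
          _ = (s' : G)⁻¹ * (t * k * t⁻¹) * t := by rw [e2, ← e1]
          _ = _ := by group)⟩
    rw [hfpf _ (H.mul_mem (H.inv_mem s'.2) ht) hd1, mem_bot] at hmem
    exact hk1 hmem
  · refine ⟨⟨fun a b => Subtype.ext ?_⟩⟩
    have e := hinv _ s'.2 hs ((a : G) * b) (K.mul_mem a.2 b.2)
    have ea := hinv _ s'.2 hs (a : G) a.2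
    have eb := hinv _ s'.2 hs (b : G) b.2
    have h2 : (a : G)⁻¹ * (b : G)⁻¹ = ((a : G) * b)⁻¹ := by
      rw [← e, ← ea, ← eb]; group
    show (a : G) * b = b * a
    calc (a : G) * b = (((a : G) * b)⁻¹)⁻¹ := (inv_inv _).symm
      _ = ((a : G)⁻¹ * (b : G)⁻¹)⁻¹ := by rw [h2]
      _ = _ := by group

/-- Abelian groups and groups of order `p q` acting fixed-point-freely on an abelian group. -/
theorem fpf_isCyclic [Finite G] (A V : Subgroup G) [IsMulCommutative V] (hV : V ≠ ⊥)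
    (hAV : A ≤ normalizer (V : Set G)) (hfpf : ∀ a ∈ A, a ≠ 1 → V ⊓ centralizer ({a} : Set G) = ⊥)
    (hA : IsMulCommutative A ∨ ∃ p q : ℕ, p.Prime ∧ q.Prime ∧ Nat.card A = p * q) : IsCyclic A := by
  by_contra hcyc
  have hVs : Group.IsSolvable V :=
    Group.isSolvable_of_comm fun a b => IsMulCommutative.is_comm.comm a b
  have hab : IsMulCommutative A → False := fun hA' => by
    have := hA'
    refine hV (le_bot_iff.1 ?_)
    exact le_of_fixed_le A V ⊥ hcyc hAV (coprime_of_fpf A V hAV hfpf) fun a ha ha1 =>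
      (hfpf a ha ha1).le
  rcases hA with hA | ⟨p, q, hp, hq, hc⟩
  · exact hab hA
  refine hab ⟨⟨fun a b => ?_⟩⟩
  have := Fact.mk hp
  by_cases hpq : p = q
  · subst hpq
    have h := IsPGroup.isMulCommutative_of_card_eq_prime_sq (G := A) (p := p) (by rw [hc, pow_two])
    exact h.is_comm.comm a b
  -- the larger prime gives a normal subgroup
  exfalso
  rcases lt_or_gt_of_ne hpq with h | h
  · exact pq_false A V hV hAV hfpf hcyc hq hp h (hc.trans (mul_comm p q))
  · exact pq_false A V hV hAV hfpf hcyc hp hq h hc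
where
  pq_false {G : Type u} [Group G] [Finite G] (A V : Subgroup G) [IsMulCommutative V] (hV : V ≠ ⊥)
      (hAV : A ≤ normalizer (V : Set G))
      (hfpf : ∀ a ∈ A, a ≠ 1 → V ⊓ centralizer ({a} : Set G) = ⊥) (hcyc : ¬ IsCyclic A)
      {p q : ℕ} (hp : p.Prime) (hq : q.Prime) (hqp : q < p) (hc : Nat.card A = p * q) : False := by
    have := Fact.mk hp
    have := Fact.mk hq
    obtain ⟨P⟩ := (inferInstance : Nonempty (Sylow p A))
    obtain ⟨y, hy⟩ := exists_prime_orderOf_dvd_card' q (show q ∣ Nat.card A from hc ▸ dvd_mul_left q p)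
    obtain ⟨x, hx⟩ := exists_prime_orderOf_dvd_card' p (show p ∣ Nat.card A from hc ▸ dvd_mul_right p q)
    set N := zpowers x with hN
    have hNc : Nat.card N = p := by rw [hN, Nat.card_zpowers, hx]
    have hidx : N.index = q := by
      refine Nat.eq_of_mul_eq_mul_left hp.pos ?_
      conv_lhs => rw [← hNc, card_mul_index, hc]
    have hNn : N.Normal := by
      refine normal_of_index_eq_minFac_card ?_
      rw [hidx, hc]
      refine le_antisymm ?_ (Nat.minFac_le_of_dvd hq.two_le (dvd_mul_left q p))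
      have h1 := Nat.minFac_prime (n := p * q) (fun h => hp.ne_one (Nat.eq_one_of_mul_eq_one_right h))
      rcases h1.dvd_mul.1 (Nat.minFac_dvd (p * q)) with h | h
      · rw [(Nat.prime_dvd_prime_iff_eq h1 hp).1 h]; exact hqp.le
      · rw [(Nat.prime_dvd_prime_iff_eq h1 hq).1 h]
    set H₀ := zpowers y with hH₀
    have hHc : Nat.card H₀ = q := by rw [hH₀, Nat.card_zpowers, hy]
    have hd : N ⊓ H₀ = ⊥ := inf_eq_bot_of_coprime_card (by
      rw [hNc, hHc]; exact (Nat.coprime_primes hp hq).2 hqp.ne')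
    have hcomp : IsComplement' N H₀ := isComplement'_of_card_mul_and_disjoint
      (by rw [hNc, hHc, hc]) (disjoint_iff.2 hd)
    refine hV (frobenius_not_fpf A V hAV hfpf H₀ (isFrobeniusComplement_of_fpf hcomp ?_ ?_ ?_))
    · exact fun h => hp.ne_one (by rw [← hNc, h, card_bot])
    · exact fun h => hq.ne_one (by rw [← hHc, h, card_bot])
    · intro h hh h1
      rw [eq_bot_iff]
      intro k hk
      rw [mem_bot]
      by_contra hk1
      refine hcyc ?_
      have hko : orderOf k = p := (hp.eq_one_or_self_of_dvd _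
        (hNc ▸ Subgroup.orderOf_dvd_natCard N hk.1)).resolve_left fun e => hk1 (orderOf_eq_one_iff.1 e)
      have hho : orderOf h = q := (hq.eq_one_or_self_of_dvd _
        (hHc ▸ Subgroup.orderOf_dvd_natCard H₀ hh)).resolve_left fun e => h1 (orderOf_eq_one_iff.1 e)
      have hcm : Commute k h := mem_centralizer_singleton_iff.1 hk.2
      exact isCyclic_of_orderOf_eq_card (k * h) (by
        rw [hcm.orderOf_mul_eq_mul_orderOf_of_coprime
          (by rw [hko, hho]; exact (Nat.coprime_primes hp hq).2 hqp.ne'), hko, hho, hc])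

end Cfsg.Lib.Solv
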