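import Cfsg.Agent.Lib.Solv.MinimalNonNilpotent
import Cfsg.Agent.Lib.Solv.Hall
import Cfsg.Agent.Lib.Transfer.NilpotentHall

/-!
Wielandt: a nilpotent Hall subgroup contains a conjugate of every subgroup with primes in its
order.
-/

set_option autoImplicit false

namespace Cfsg.Lib.Solv

open Subgroup
open scoped Pointwise

universe u

variable {G : Type*} [Group G]

/-- Splitting a nilpotent Hall subgroup at a prime dividing its order. -/
theorem nilpotent_hall_split [Finite G] {p : ℕ} [hp : Fact p.Prime] {H : Subgroup G}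
    (hH : Group.IsNilpotent H) (hHall : (Nat.card H).Coprime H.index) (hpd : p ∣ Nat.card H) :
    ∃ A B : Subgroup G, A ≤ H ∧ B ≤ H ∧ IsPGroup p A ∧ ¬ p ∣ A.index ∧
      (Nat.card B).Coprime p ∧ B ≤ centralizer (A : Set G) ∧
      (∀ r : ℕ, r.Prime → r ≠ p → r ∣ Nat.card H → r ∣ Nat.card B) ∧
      (Nat.card B).Coprime B.index := by
  obtain ⟨A, B, hAB, hcard, hA, hB, hBA⟩ := Cfsg.Lib.Transfer.exists_nilpotent_split (p := p) H hH
  have hAH : A ≤ H := hAB ▸ le_sup_left
  have hBH : B ≤ H := hAB ▸ le_sup_right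
  obtain ⟨a, ha⟩ := IsPGroup.iff_card.1 hA
  have hiA : A.index = Nat.card B * H.index := by
    refine Nat.eq_of_mul_eq_mul_left (Nat.card_pos (α := A)) ?_
    rw [card_mul_index, ← mul_assoc, hcard, card_mul_index]
  have hiB : B.index = Nat.card A * H.index := by
    refine Nat.eq_of_mul_eq_mul_left (Nat.card_pos (α := B)) ?_
    rw [card_mul_index, ← mul_assoc, mul_comm (Nat.card B), hcard, card_mul_index]
  refine ⟨A, B, hAH, hBH, hA, ?_, hB, hBA, ?_, ?_⟩
  · rw [hiA]
    intro hd
    rcases hp.out.dvd_mul.1 hd with h | h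
    · exact hp.out.coprime_iff_not_dvd.1 hB.symm h
    · exact hp.out.ne_one (Nat.eq_one_of_dvd_coprimes hHall hpd h)
  · intro r hr hne hd
    rw [← hcard, ha] at hd
    rcases hr.dvd_mul.1 hd with h | h
    · exact absurd ((Nat.prime_dvd_prime_iff_eq hr hp.out).1 (hr.dvd_of_dvd_pow h)) hne
    · exact h
  · rw [hiB, ha]
    exact (hB.pow_right a).mul_right (hHall.coprime_dvd_left (card_dvd_of_le hBH))

theorem exists_conj_le_of_sylow [Finite G] {p : ℕ} [Fact p.Prime] {A P : Subgroup G}
    (hA : IsPGroup p A) (hidx : ¬ p ∣ A.index) (hP : IsPGroup p P) :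
    ∃ x : G, P ≤ MulAut.conj x • A := by
  obtain ⟨S, hS⟩ := hP.exists_le_sylow
  obtain ⟨x, hx⟩ := MulAction.exists_smul_eq G (hA.toSylow hidx) S
  refine ⟨x, hS.trans ?_⟩
  rw [← hx, Sylow.coe_subgroup_smul, IsPGroup.toSylow_coe]

theorem nilpotent_le_hall_aux : ∀ (n : ℕ) (G : Type u) [Group G] [Finite G] (H K : Subgroup G),
    Nat.card K ≤ n → Group.IsNilpotent H → Group.IsNilpotent K →
    (Nat.card H).Coprime H.index → (∀ p : ℕ, p.Prime → p ∣ Nat.card K → p ∣ Nat.card H) →
    ∃ x : G, K ≤ MulAut.conj x • H := by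
  intro n
  induction n with
  | zero => intro G _ _ H K hn; exact absurd hn (Nat.not_le.2 Nat.card_pos)
  | succ n ih =>
    intro G _ _ H K hn hH hK hHall hπ
    by_cases hb : Nat.card K = 1
    · exact ⟨1, by rw [eq_bot_of_card_eq K hb]; exact bot_le⟩
    obtain ⟨p, hp, hpK⟩ := Nat.exists_prime_and_dvd hb
    have := Fact.mk hp
    obtain ⟨A, B, hAH, hBH, hA, hAidx, -, hBA, hBπ, hBHall⟩ :=
      nilpotent_hall_split hH hHall (hπ p hp hpK)
    obtain ⟨P, Q, hPQ, hcard, hP, hQ, hQP⟩ := Cfsg.Lib.Transfer.exists_nilpotent_split (p := p) K hK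
    obtain ⟨x, hx⟩ := exists_conj_le_of_sylow hA hAidx hP
    set C := centralizer (P : Set G) with hC
    have hB'C : MulAut.conj x • B ≤ C := by
      refine le_centralizer_iff.1 (hx.trans ?_)
      intro z hz
      rw [mem_centralizer_iff]
      intro b hb
      rw [SetLike.mem_coe, mem_conj_smul] at hb
      have h1 := mem_centralizer_iff.1 (hBA hb) _ (mem_conj_smul.1 hz)
      calc b * z = x * ((x⁻¹ * b * x) * (x⁻¹ * z * x)) * x⁻¹ := by group
        _ = x * ((x⁻¹ * z * x) * (x⁻¹ * b * x)) * x⁻¹ := by rw [h1]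
        _ = z * b := by group
    have hQlt : Nat.card Q ≤ n := by
      have hQd : Nat.card Q < Nat.card K := by
        rw [← hcard]
        refine lt_mul_of_one_lt_left Nat.card_pos ?_
        rw [← hcard] at hpK
        rcases hp.dvd_mul.1 hpK with h | h
        · exact lt_of_lt_of_le hp.one_lt (Nat.le_of_dvd Nat.card_pos h)
        · exact absurd h (hp.coprime_iff_not_dvd.1 hQ.symm)
      omega
    have hQK : Q ≤ K := hPQ ▸ le_sup_right
    obtain ⟨c, hc⟩ := ih C ((MulAut.conj x • B).subgroupOf C) (Q.subgroupOf C)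
      (by rw [card_subgroupOf hQP]; exact hQlt)
      ((Group.isNilpotent_congr ((subgroupOfEquivOfLe hB'C).trans
        (B.equivMapOfInjective _ (MulAut.conj x).injective).symm)).2 (isNilpotent_of_le hBH hH))
      ((Group.isNilpotent_congr (subgroupOfEquivOfLe hQP)).2 (isNilpotent_of_le hQK hK))
      (by
        rw [card_subgroupOf hB'C, card_conj_smul]
        refine hBHall.coprime_dvd_right ?_
        show (MulAut.conj x • B).relIndex C ∣ B.index
        rw [← index_conj_smul x B]
        exact relIndex_dvd_index_of_le hB'C)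
      (fun r hr hd => by
        rw [card_subgroupOf hQP] at hd
        rw [card_subgroupOf hB'C, card_conj_smul]
        exact hBπ r hr (fun e => hp.coprime_iff_not_dvd.1 hQ.symm (e ▸ hd))
          (hπ r hr (hd.trans (card_dvd_of_le hQK))))
    refine ⟨(c : G) * x, ?_⟩
    rw [map_mul, mul_smul, ← hPQ]
    refine sup_le ?_ ?_
    · have hcP : MulAut.conj (c : G) • P = P :=
        conj_smul_eq_self_iff.2 (normalizer_eq_of_centralizes c.2)
      rw [← hcP]
      exact smul_le_smul_left _ (hx.trans (smul_le_smul_left _ hAH))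
    · have h := map_mono (f := C.subtype) hc
      rw [map_conj_smul, subgroupOf_map_subtype, subgroupOf_map_subtype, inf_eq_left.2 hQP,
        inf_eq_left.2 hB'C] at h
      exact h.trans (smul_le_smul_left _ (smul_le_smul_left _ hBH))

theorem le_hall_aux [Finite G] {H : Subgroup G} (hH : Group.IsNilpotent H)
    (hHall : (Nat.card H).Coprime H.index) : ∀ (n : ℕ) (K : Subgroup G), Nat.card K ≤ n →
    (∀ p : ℕ, p.Prime → p ∣ Nat.card K → p ∣ Nat.card H) → Group.IsNilpotent K := by
  intro n
  induction n with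
  | zero => intro K hn; exact absurd hn (Nat.not_le.2 Nat.card_pos)
  | succ n ih =>
    intro K hn hπ
    by_contra hnil
    have hmin : Cfsg.IsMinimalNonNilpotent K := ⟨hnil, fun L hL => by
      have hlt : Nat.card L < Nat.card K :=
        lt_of_le_of_ne L.card_le_card_group fun e => hL (eq_top_of_card_eq L e)
      have h1 := ih (L.map K.subtype) (by rw [card_map_subtype']; omega) fun p hp hd =>
        hπ p hp (hd.trans (card_dvd_of_le (map_subtype_le L)))
      exact (Group.isNilpotent_congr (L.equivMapOfInjective K.subtype K.subtype_injective)).2 h1⟩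
    obtain ⟨p, q, hp, hq, hpq, y, b, hb, Q, hQn, hc, hyC⟩ := minimal_non_nilpotent_structure hmin
    have := Fact.mk hp
    have := Fact.mk hq
    set Q' := (Q : Subgroup K).map K.subtype with hQ'
    have hQK : Q' ≤ K := map_subtype_le _
    have hy1 : b ≠ 0 := fun h => by
      rw [h, pow_zero, orderOf_eq_one_iff] at hb
      exact hyC (hb ▸ one_mem _)
    have hpH : p ∣ Nat.card H := hπ p hp ((dvd_pow_self p hy1).trans (hb ▸ orderOf_dvd_natCard y))
    have hQ0 : Nat.card (Q : Subgroup K) ≠ 1 := fun h => hyC (by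
      rw [eq_bot_of_card_eq _ h]
      exact mem_centralizer_iff.2 fun z hz => by
        rw [SetLike.mem_coe, mem_bot] at hz; rw [hz, one_mul, mul_one])
    have hqH : q ∣ Nat.card H := by
      refine hπ q hq (dvd_trans ?_ (card_subgroup_dvd_card (Q : Subgroup K)))
      obtain ⟨a, ha⟩ := IsPGroup.iff_card.1 Q.isPGroup'
      rw [ha]
      exact dvd_pow_self q fun h => hQ0 (by rw [ha, h, pow_zero])
    obtain ⟨A, B, -, -, hA, hAidx, -, hBA, hBπ, hBHall⟩ := nilpotent_hall_split (p := q) hH hHall hqH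
    obtain ⟨x, hx⟩ := exists_conj_le_of_sylow hA hAidx (Q.isPGroup'.map K.subtype)
    set C := centralizer (Q' : Set G) with hC
    have hB'C : MulAut.conj x • B ≤ C := by
      refine le_centralizer_iff.1 (hx.trans ?_)
      intro z hz
      rw [mem_centralizer_iff]
      intro b hb
      rw [SetLike.mem_coe, mem_conj_smul] at hb
      have h1 := mem_centralizer_iff.1 (hBA hb) _ (mem_conj_smul.1 hz)
      calc b * z = x * ((x⁻¹ * b * x) * (x⁻¹ * z * x)) * x⁻¹ := by group
        _ = x * ((x⁻¹ * z * x) * (x⁻¹ * b * x)) * x⁻¹ := by rw [h1]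
        _ = z * b := by group
    set N := normalizer (Q' : Set G) with hN
    have hKN : K ≤ N := by
      refine (normal_subgroupOf_iff_le_normalizer hQK).1 ?_
      show (((Q : Subgroup K).map K.subtype).comap K.subtype).Normal
      rw [comap_map_eq_self_of_injective K.subtype_injective]
      exact hQn
    have hCN : C ≤ N := centralizer_le_normalizer _
    have hCn : (C.subgroupOf N).Normal := by
      refine (normal_subgroupOf_iff_le_normalizer hCN).2 fun g hg => ?_
      rw [mem_normalizer_iff]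
      intro z
      have key : ∀ g ∈ N, ∀ z ∈ C, g * z * g⁻¹ ∈ C := fun g hg z hz => by
        rw [hC, mem_centralizer_iff]
        intro w hw
        have hw' : g⁻¹ * w * g ∈ Q' := by
          simpa using (mem_normalizer_iff.1 (inv_mem hg) w).1 hw
        calc w * (g * z * g⁻¹) = g * ((g⁻¹ * w * g) * z) * g⁻¹ := by group
          _ = g * (z * (g⁻¹ * w * g)) * g⁻¹ := by rw [mem_centralizer_iff.1 hz _ hw']
          _ = _ := by group
      refine ⟨key g hg z, fun hz => ?_⟩
      have := key g⁻¹ (inv_mem hg) _ hz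
      simpa [mul_assoc] using this
    have hyN : (y : G) ∈ N := hKN y.2
    set f := QuotientGroup.mk' (C.subgroupOf N)
    have h1 : f ⟨y, hyN⟩ = 1 := by
      rw [← orderOf_eq_one_iff]
      have hpi : ¬ p ∣ (C.subgroupOf N).index := fun hd => by
        have hd2 : p ∣ B.index := by
          rw [← index_conj_smul x B]
          exact (hd.trans (relIndex_dvd_index_of_le hCN)).trans (index_dvd_of_le hB'C)
        exact hp.ne_one (Nat.eq_one_of_dvd_coprimes hBHall (hBπ p hp hpq hpH) hd2)
      refine Nat.eq_one_of_dvd_coprimes ((hp.coprime_iff_not_dvd.2 hpi).pow_left b) ?_ ?_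
      · refine (orderOf_map_dvd f _).trans ?_
        rw [Subgroup.orderOf_mk, Subgroup.orderOf_coe, hb]
      · rw [index_eq_card]; exact orderOf_dvd_natCard _
    have hyC' : (y : G) ∈ C := (QuotientGroup.eq_one_iff (⟨y, hyN⟩ : N)).1 h1
    exact hyC (mem_centralizer_iff.2 fun z hz =>
      Subtype.ext (mem_centralizer_iff.1 hyC' _ (mem_map_of_mem K.subtype hz)))

/-- Wielandt's theorem on nilpotent Hall subgroups. -/
theorem wielandt_le_conj [Finite G] (H K : Subgroup G) (hH : Group.IsNilpotent H)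
    (hHall : (Nat.card H).Coprime H.index)
    (hπ : ∀ p : ℕ, p.Prime → p ∣ Nat.card K → p ∣ Nat.card H) :
    ∃ x : G, K ≤ MulAut.conj x • H :=
  nilpotent_le_hall_aux _ G H K le_rfl hH (le_hall_aux hH hHall _ K le_rfl hπ) hHall hπ

end Cfsg.Lib.Solv
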