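import Cfsg.Agent.Lib.Solv.MinNormal
import Cfsg.Agent.Lib.Solv.Primitive
import Cfsg.Agent.Lib.Solv.Wielandt
import Cfsg.Agent.Lib.Solv.PGroupBasic
import Cfsg.Agent.Lib.Characters.Burnside

/-!
Groups in which the classes of `p`-regular elements have `p`-power size.
-/

set_option autoImplicit false

namespace Cfsg.Lib.Solv

open Subgroup
open scoped Pointwise

universe u

/-- Every `p`-regular element has centralizer of `p`-power index. -/
def RegularClassesPPower (p : ℕ) (G : Type*) [Group G] : Prop :=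
  ∀ x : G, (orderOf x).Coprime p → ∃ k : ℕ, (centralizer ({x} : Set G)).index = p ^ k

variable {G : Type u} [Group G] [Finite G] {p : ℕ} [hp : Fact p.Prime]

theorem carrier_ncard_eq_index (x : G) :
    (ConjClasses.mk x).carrier.ncard = (centralizer ({x} : Set G)).index := by
  rw [← Nat.card_coe_set_eq, ← Cfsg.Lib.Characters.card_conj_eq_index x]
  refine Nat.card_congr (Equiv.subtypeEquivRight fun y => ?_)
  rw [ConjClasses.mem_carrier_iff_mk_eq, ConjClasses.mk_eq_mk_iff_isConj]
  exact ⟨fun h => h.symm, fun h => h.symm⟩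

theorem regularClasses_normal (h : RegularClassesPPower p G) (N : Subgroup G) [N.Normal] :
    RegularClassesPPower p N := by
  intro x hx
  rw [← orderOf_coe] at hx
  obtain ⟨k, hk⟩ := h x hx
  have e : centralizer ({x} : Set N) = (centralizer ({(x : G)} : Set G)).subgroupOf N := by
    ext y
    simp [mem_subgroupOf, mem_centralizer_singleton_iff, Subtype.ext_iff]
  have hdvd : (centralizer ({x} : Set N)).index ∣ p ^ k := by
    rw [e, ← hk]
    show (centralizer ({(x : G)} : Set G)).relIndex N ∣ _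
    rw [← relIndex_sup_left_normal]
    exact relIndex_dvd_index_of_le le_sup_left
  obtain ⟨i, -, hi⟩ := (Nat.dvd_prime_pow hp.out).1 hdvd
  exact ⟨i, hi⟩

theorem regularClasses_quotient (h : RegularClassesPPower p G) (N : Subgroup G) [N.Normal] :
    RegularClassesPPower p (G ⧸ N) := by
  intro z hz
  obtain ⟨y, rfl⟩ := QuotientGroup.mk_surjective z
  set d := orderOf (y : G ⧸ N) with hd
  obtain ⟨a, m, hm, hn⟩ := Nat.exists_eq_pow_mul_and_not_dvd (orderOf_pos y).ne' p hp.out.ne_one
  have hcop : d.Coprime (p ^ a) := Nat.Coprime.pow_right a hz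
  obtain ⟨t, ht⟩ : ∃ t : ℕ, p ^ a * t ≡ 1 [MOD d] := by
    obtain ⟨e, he1, he2⟩ := Nat.chineseRemainder hcop 1 0
    obtain ⟨t, rfl⟩ := Nat.modEq_zero_iff_dvd.1 he2
    exact ⟨t, he1⟩
  set x := y ^ (p ^ a * t) with hx
  have hxp : (orderOf x).Coprime p := by
    have h1 : x ^ m = 1 := by
      rw [hx, ← pow_mul, show p ^ a * t * m = orderOf y * t by rw [hn]; ring, pow_mul,
        pow_orderOf_eq_one, one_pow]
    exact ((hp.out.coprime_iff_not_dvd.2 hm).symm).coprime_dvd_left (orderOf_dvd_of_pow_eq_one h1)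
  have himg : (x : G ⧸ N) = (y : G ⧸ N) := by
    rw [hx, QuotientGroup.mk_pow]
    conv_rhs => rw [← pow_one (y : G ⧸ N)]
    exact pow_eq_pow_iff_modEq.2 ht
  obtain ⟨k, hk⟩ := h x hxp
  have hle : (centralizer ({x} : Set G)).map (QuotientGroup.mk' N) ≤
      centralizer ({(y : G ⧸ N)} : Set (G ⧸ N)) := by
    rintro _ ⟨c, hc, rfl⟩
    rw [mem_centralizer_singleton_iff, ← himg, QuotientGroup.mk'_apply, ← QuotientGroup.mk_mul,
      ← QuotientGroup.mk_mul, mem_centralizer_singleton_iff.1 hc]
  have hdvd : (centralizer ({(y : G ⧸ N)} : Set (G ⧸ N))).index ∣ p ^ k := by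
    rw [← hk]
    exact (index_dvd_of_le hle).trans
      ((centralizer ({x} : Set G)).index_map_dvd (QuotientGroup.mk'_surjective N))
  obtain ⟨i, -, hi⟩ := (Nat.dvd_prime_pow hp.out).1 hdvd
  exact ⟨i, hi⟩

theorem regularClasses_solvable : ∀ (n : ℕ) (G : Type u) [Group G] [Finite G], Nat.card G ≤ n →
    RegularClassesPPower p G → Group.IsSolvable G := by
  intro n
  induction n with
  | zero => intro G _ _ hn; exact absurd hn (Nat.not_le.2 Nat.card_pos)
  | succ n ih =>
    intro G _ _ hn h
    by_cases hN : ∃ N : Subgroup G, N.Normal ∧ N ≠ ⊥ ∧ N ≠ ⊤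
    · obtain ⟨N, hNn, hb, ht⟩ := hN
      have h1 : Group.IsSolvable N := by
        refine ih N ?_ (regularClasses_normal h N)
        have : Nat.card N < Nat.card G := lt_of_le_of_ne (card_le_card_group N)
          fun e => ht ((card_eq_iff_eq_top N).1 e)
        omega
      have h2 : Group.IsSolvable (G ⧸ N) := by
        refine ih (G ⧸ N) ?_ (regularClasses_quotient h N)
        rw [← index_eq_card]
        have h3 := N.card_mul_index
        have h4 := (one_lt_card_iff_ne_bot N).2 hb
        nlinarith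
      exact Group.isSolvable_of_ker_le_range N.subtype (QuotientGroup.mk' N) (by simp)
    push Not at hN
    rcases subsingleton_or_nontrivial G with hG | hG
    · infer_instance
    haveI : IsSimpleGroup G := ⟨fun N hNn => or_iff_not_imp_left.2 fun hb => hN N hNn hb⟩
    by_cases hreg : ∃ x : G, x ≠ 1 ∧ (orderOf x).Coprime p
    · obtain ⟨x, hx1, hx⟩ := hreg
      obtain ⟨k, hk⟩ := h x hx
      have hprime := Cfsg.Lib.Characters.prime_card_of_prime_pow_class hp.out hx1
        (k := k) (by rw [Cfsg.Lib.Characters.card_conj_eq_index, hk])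
      haveI := Fact.mk hprime
      haveI : IsCyclic G := isCyclic_of_prime_card rfl
      letI := IsCyclic.commGroup (α := G)
      infer_instance
    push Not at hreg
    have hPG : IsPGroup p G := by
      refine IsPGroup.iff_card.2 ⟨_, Nat.eq_prime_pow_of_unique_prime_dvd Nat.card_pos.ne'
        fun {r} hr hrd => ?_⟩
      haveI := Fact.mk hr
      obtain ⟨x, hx⟩ := exists_prime_orderOf_dvd_card' r hrd
      by_contra hne
      refine hreg x (fun e => hr.ne_one (by rw [← hx, e, orderOf_one])) ?_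
      rw [hx]; exact (Nat.coprime_primes hr hp.out).2 hne
    haveI := hPG.isNilpotent
    infer_instance

/-- An abelian Hall `p'`-subgroup of `p`-power index. -/
theorem exists_abelian_hall_of_regularClasses (h : RegularClassesPPower p G) :
    ∃ H : Subgroup G, IsMulCommutative H ∧ ¬ p ∣ Nat.card H ∧ ∃ k : ℕ, H.index = p ^ k := by
  haveI := regularClasses_solvable _ G le_rfl h
  set O := Cfsg.pCore p G with hO
  set F := Cfsg.fittingSubgroup (G ⧸ O) with hF
  have hh := regularClasses_quotient h O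
  have hFp : ¬ p ∣ Nat.card F := by
    intro hd
    obtain ⟨x, hx⟩ := exists_prime_orderOf_dvd_card' (G := F) p hd
    have hz : zpowers (x : G ⧸ O) ≤ F := zpowers_le.2 x.2
    have h2 := le_pCore_of_le_fitting hz
      (IsPGroup.of_card (n := 1) (by rw [Nat.card_zpowers, orderOf_coe, hx, pow_one]) :
        IsPGroup p (zpowers (x : G ⧸ O)))
    rw [pCore_quotient_eq_bot, le_bot_iff, zpowers_eq_bot] at h2
    rw [← orderOf_coe, h2, orderOf_one] at hx
    exact hp.out.ne_one hx.symm
  have hcent : ∀ x : G ⧸ O, (orderOf x).Coprime p → x ∈ centralizer (F : Set (G ⧸ O)) := by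
    intro x hx
    obtain ⟨k, hk⟩ := hh x hx
    have hd1 : (centralizer ({x} : Set (G ⧸ O))).relIndex F ∣ p ^ k := by
      rw [← hk, ← relIndex_sup_left_normal]
      exact relIndex_dvd_index_of_le le_sup_left
    have hd2 : (centralizer ({x} : Set (G ⧸ O))).relIndex F ∣ Nat.card F := relIndex_dvd_card _ _
    have h1 : (centralizer ({x} : Set (G ⧸ O))).relIndex F = 1 :=
      Nat.eq_one_of_dvd_coprimes (Nat.Coprime.pow_left k (hp.out.coprime_iff_not_dvd.2 hFp)) hd1 hd2
    refine mem_centralizer_iff.2 fun f hf => ?_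
    exact mem_centralizer_singleton_iff.1 (relIndex_eq_one.1 h1 hf)
  have hmem : ∀ x : G ⧸ O, (orderOf x).Coprime p → x ∈ F := fun x hx =>
    centralizer_fitting_le (hcent x hx)
  have hFc : IsMulCommutative F := ⟨⟨fun a b => Subtype.ext
    ((mem_centralizer_iff.1 (hcent b ((hp.out.coprime_iff_not_dvd.2 hFp).symm.coprime_dvd_left
      (orderOf_coe b ▸ orderOf_dvd_natCard b)))) a a.2)⟩⟩
  have hFidx : ∀ r : ℕ, r.Prime → r ∣ F.index → r = p := by
    intro r hr hd
    by_contra hne
    haveI := Fact.mk hr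
    let R : Sylow r (G ⧸ O) := default
    refine R.not_dvd_index (hd.trans (index_dvd_of_le fun x hx => hmem x ?_))
    obtain ⟨k, hk⟩ := IsPGroup.iff_orderOf.1 R.isPGroup' ⟨x, hx⟩
    rw [orderOf_mk] at hk
    rw [hk]; exact Nat.Coprime.pow_left _ ((Nat.coprime_primes hr hp.out).2 hne)
  set π := QuotientGroup.mk' O with hπ
  set N := F.comap π with hN
  have hON : O ≤ N := by
    exact (QuotientGroup.ker_mk' O).ge.trans (ker_le_comap π F)
  have hrel : O.relIndex N = Nat.card F := by
    have h1 := card_map_eq_relIndex π N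
    rw [hπ, QuotientGroup.ker_mk', hN,
      map_comap_eq_self_of_surjective (QuotientGroup.mk'_surjective O)] at h1
    exact h1.symm
  obtain ⟨i, hi⟩ := IsPGroup.iff_card.1 (isPGroup_pCore (G := G) p)
  obtain ⟨K, hK⟩ := exists_right_complement'_of_coprime (N := O.subgroupOf N) (by
    rw [card_subgroupOf hON, hi]
    show (p ^ i).Coprime (O.relIndex N)
    rw [hrel]; exact Nat.Coprime.pow_left _ (hp.out.coprime_iff_not_dvd.2 hFp))
  have hHc : Nat.card (K.map N.subtype) = Nat.card F := by
    have h1 := hK.index_eq_card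
    rw [card_map_subtype']
    have h2 := hK.card_mul
    rw [card_subgroupOf hON, card_eq_mul_relIndex hON, hrel] at h2
    exact Nat.eq_of_mul_eq_mul_left Nat.card_pos h2
  refine ⟨K.map N.subtype, ⟨⟨fun a b => ?_⟩⟩, by rw [hHc]; exact hFp, ?_⟩
  · obtain ⟨a', ha', ea⟩ := a.2
    obtain ⟨b', hb', eb⟩ := b.2
    have hab : π ((a' : G) * b' * (a' : G)⁻¹ * (b' : G)⁻¹) = 1 := by
      simp only [map_mul, map_inv]
      rw [commute_of_abelian hFc a'.2 b'.2]
      group
    have hc : a' * b' * a'⁻¹ * b'⁻¹ ∈ O.subgroupOf N ⊓ K :=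
      ⟨(show ((a' * b' * a'⁻¹ * b'⁻¹ : N) : G) ∈ O from (QuotientGroup.eq_one_iff _).1 hab),
        K.mul_mem (K.mul_mem (K.mul_mem ha' hb') (K.inv_mem ha')) (K.inv_mem hb')⟩
    rw [hK.disjoint.eq_bot, mem_bot] at hc
    have hab' : a' * b' = b' * a' := by
      calc a' * b' = (a' * b' * a'⁻¹ * b'⁻¹) * (b' * a') := by group
        _ = _ := by rw [hc, one_mul]
    refine Subtype.ext ?_
    show (a : G) * b = b * a
    rw [← ea, ← eb]
    exact congrArg Subtype.val hab'
  · have hpow : F.index = p ^ F.index.primeFactorsList.length :=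
      Nat.eq_prime_pow_of_unique_prime_dvd index_ne_zero_of_finite fun {r} hr hd => hFidx r hr hd
    refine ⟨i + F.index.primeFactorsList.length, ?_⟩
    refine Nat.eq_of_mul_eq_mul_left (Nat.card_pos (α := F)) ?_
    conv_lhs => rw [← hHc, card_mul_index]
    rw [pow_add, ← hpow, ← hi, ← card_mul_index O, index_eq_card O, ← F.card_mul_index]
    ring

theorem regularClasses_of_abelian_hall {H : Subgroup G} (hH : IsMulCommutative H)
    (hpH : ¬ p ∣ Nat.card H) {k : ℕ} (hk : H.index = p ^ k) : RegularClassesPPower p G := by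
  intro x hx
  have hHall : (Nat.card H).Coprime H.index := by
    rw [hk]; exact Nat.Coprime.pow_right _ (hp.out.coprime_iff_not_dvd.2 hpH).symm
  haveI := hH
  have hnil : Group.IsNilpotent H := by
    letI : CommGroup H := { (inferInstance : Group H) with mul_comm := mul_comm' }
    infer_instance
  obtain ⟨g, hg⟩ := wielandt_le_conj H (zpowers x) hnil hHall (fun r hr hd => by
    rw [Nat.card_zpowers] at hd
    have h1 : r ∣ Nat.card H * H.index := by
      rw [card_mul_index]; exact hd.trans (orderOf_dvd_natCard x)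
    rcases (Nat.Prime.dvd_mul hr).1 h1 with h2 | h2
    · exact h2
    · rw [hk] at h2
      rw [(Nat.prime_dvd_prime_iff_eq hr hp.out).1 (hr.dvd_of_dvd_pow h2)] at hd
      exact absurd (Nat.eq_one_of_dvd_coprimes hx hd dvd_rfl) hp.out.ne_one)
  have hxH := mem_conj_smul.1 (hg (mem_zpowers x))
  have hle : MulAut.conj g • H ≤ centralizer ({x} : Set G) := fun y hy => by
    rw [mem_centralizer_singleton_iff]
    have h3 := commute_of_abelian hH (mem_conj_smul.1 hy) hxH
    calc y * x = g * ((g⁻¹ * y * g) * (g⁻¹ * x * g)) * g⁻¹ := by group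
      _ = g * ((g⁻¹ * x * g) * (g⁻¹ * y * g)) * g⁻¹ := by rw [h3]
      _ = _ := by group
  have hdvd : (centralizer ({x} : Set G)).index ∣ p ^ k := by
    rw [← hk, ← index_conj_smul g H]
    exact index_dvd_of_le hle
  obtain ⟨i, -, hi⟩ := (Nat.dvd_prime_pow hp.out).1 hdvd
  exact ⟨i, hi⟩

end Cfsg.Lib.Solv
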