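import Mathlib
import Cfsg.Prelude.Def_SolvableStructure
import Cfsg.Prelude.Def_Transfer
import Cfsg.Agent.Lib.Solv.Hall
import Cfsg.Agent.Lib.Solv.MinNormal
import Cfsg.Agent.Lib.Transfer.NormalPComplement

/-! Carter subgroups of finite solvable groups. -/

set_option autoImplicit false
open Subgroup
open scoped Pointwise

namespace Cfsg.Lib.Solv.Carter

variable {G : Type*} [Group G]

/-- Being a Carter subgroup, as a predicate local to this file. -/
def IsC (C : Subgroup G) : Prop := Cfsg.IsCarterSubgroup C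

theorem nilpotent_injective {H : Type*} [Group H] (f : G →* H) (hf : Function.Injective f)
    [Group.IsNilpotent H] : Group.IsNilpotent G :=
  Subgroup.isNilpotent_of_ker_le_center f (by rw [(f.ker_eq_bot_iff).2 hf]; exact bot_le)

theorem eq_top_of_selfnorm [Group.IsNilpotent G] {H : Subgroup G}
    (h : normalizer (H : Set G) = H) : H = ⊤ :=
  normalizerCondition_iff_only_full_group_self_normalizing.1 Group.normalizerCondition_of_isNilpotent H h

/-- In a finite nilpotent group the `p`-residual has order prime to `p`. -/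
theorem coprime_pResidual_of_nilpotent [Finite G] [Group.IsNilpotent G] (p : ℕ) [hp : Fact p.Prime] :
    (Nat.card (Cfsg.pResidual p G)).Coprime p := by
  obtain ⟨P⟩ := (inferInstance : Nonempty (Sylow p G))
  have : (P : Subgroup G).Normal := ((Group.isNilpotent_of_finite_tfae (G := G)).out 0 3 :).1 ‹_› p hp P
  obtain ⟨H, hH⟩ := exists_right_complement'_of_coprime (N := (P : Subgroup G)) P.card_coprime_index
  obtain ⟨k, hk⟩ := P.2.exists_card_eq
  have hHi : H.index = p ^ k := by rw [hH.index_eq_card, hk]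
  have hHc : (Nat.card H).Coprime p := by
    rw [← hH.symm.index_eq_card]
    exact ((hp.out.coprime_iff_not_dvd).2 P.not_dvd_index).symm
  have hN : H.Normal := by
    set N := normalizer (H : Set G) with hN
    rw [← normalizer_eq_top_iff, ← hN]
    refine eq_top_of_selfnorm (le_antisymm (fun g hg => ?_) le_normalizer)
    have : (H.subgroupOf N).Normal := (normal_subgroupOf_iff_le_normalizer le_normalizer).2 le_rfl
    obtain ⟨j, -, hj⟩ := (Nat.dvd_prime_pow hp.out).1
      (hHi ▸ relIndex_dvd_index_of_le le_normalizer : H.relIndex N ∣ p ^ k)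
    have key : ∀ y ∈ normalizer (N : Set G), ∀ h ∈ H, y * h * y⁻¹ ∈ H := fun y hy h hh => by
      have hyN : y * h * y⁻¹ ∈ N := (mem_normalizer_iff.1 hy h).1 (le_normalizer hh)
      have := Cfsg.Lib.Transfer.pResidual_le_of_index_eq_pow (H.subgroupOf N) hj
        (Cfsg.Lib.Transfer.coprime_orderOf_mem_pResidual (x := (⟨_, hyN⟩ : N)) (by
          rw [Subgroup.orderOf_mk, show y * h * y⁻¹ = MulAut.conj y h from rfl, MulEquiv.orderOf_eq]
          exact hHc.coprime_dvd_left (H.orderOf_dvd_natCard hh)))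
      exact this
    refine mem_normalizer_iff.2 fun h => ⟨key g hg h, fun hh => ?_⟩
    have := key g⁻¹ (inv_mem hg) _ hh
    simpa [mul_assoc] using this
  exact hHc.coprime_dvd_left
    (card_dvd_of_le (Cfsg.Lib.Transfer.pResidual_le_of_index_eq_pow H hHi))

/-- The conjugate of a Carter subgroup is a Carter subgroup. -/
theorem isC_conj {C : Subgroup G} (h : IsC C) (g : G) : IsC (MulAut.conj g • C) := by
  have := h.1
  refine ⟨Group.nilpotent_of_mulEquiv (Subgroup.equivSMul (MulAut.conj g) C), ?_⟩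
  conv_rhs => rw [← h.2]
  exact (map_equiv_normalizer_eq C (MulAut.conj g)).symm

theorem mem_normalizer_subgroupOf {U C : Subgroup G} (h : C ≤ U) {x : U} :
    x ∈ normalizer ((C.subgroupOf U : Subgroup U) : Set U) ↔ (x : G) ∈ normalizer (C : Set G) := by
  rw [mem_normalizer_iff, mem_normalizer_iff]
  constructor
  · intro hx y
    constructor
    · intro hy; exact (hx ⟨y, h hy⟩).1 hy
    · intro hy
      have hyU : y ∈ U := by
        have := U.mul_mem (U.mul_mem (U.inv_mem x.2) (h hy)) x.2
        simpa [mul_assoc] using this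
      exact (hx ⟨y, hyU⟩).2 hy
  · intro hx y; exact hx (y : G)

theorem isC_subgroupOf {U C : Subgroup G} (hCU : C ≤ U) (hC : Group.IsNilpotent C)
    (hN : U ⊓ normalizer (C : Set G) ≤ C) : IsC (C.subgroupOf U) := by
  refine ⟨Group.nilpotent_of_mulEquiv (subgroupOfEquivOfLe hCU).symm, ?_⟩
  refine le_antisymm (fun x hx => hN ⟨x.2, (mem_normalizer_subgroupOf hCU).1 hx⟩) le_normalizer

theorem isC_subgroupOf' {U C : Subgroup G} (hCU : C ≤ U) (hC : IsC C) : IsC (C.subgroupOf U) :=
  isC_subgroupOf hCU hC.1 (inf_le_right.trans hC.2.le)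

/-- Conjugacy in every proper subgroup makes the product with a normal subgroup self-normalizing. -/
theorem sup_selfnorm {C N : Subgroup G} [N.Normal] (hC : IsC C)
    (hconj : C ⊔ N ≠ ⊤ → ∀ D₁ D₂ : Subgroup ↥(C ⊔ N), IsC D₁ → IsC D₂ →
      ∃ w : ↥(C ⊔ N), MulAut.conj w • D₁ = D₂) :
    normalizer ((C ⊔ N : Subgroup G) : Set G) = C ⊔ N := by
  rcases eq_or_ne (C ⊔ N) ⊤ with hW | hW
  · rw [hW]; exact top_le_iff.1 le_normalizer
  refine le_antisymm (fun g hg => ?_) le_normalizer
  set W := C ⊔ N with hWdef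
  have hCW : C ≤ W := le_sup_left
  set D := MulAut.conj g • C with hD
  have hDW : D ≤ W := by
    rintro x ⟨c, hc, rfl⟩
    exact (mem_normalizer_iff.1 hg c).1 (hCW hc)
  obtain ⟨w, hw⟩ := hconj hW _ _ (isC_subgroupOf' hCW hC) (isC_subgroupOf' hDW (isC_conj hC g))
  have h2 : MulAut.conj (w : G) • C = D := by
    ext x
    constructor
    · rintro ⟨c, hc, rfl⟩
      have : MulAut.conj w (⟨c, hCW hc⟩ : W) ∈ MulAut.conj w • C.subgroupOf W :=
        ⟨⟨c, hCW hc⟩, hc, rfl⟩
      rw [hw] at this
      exact this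
    · intro hx
      have : (⟨x, hDW hx⟩ : W) ∈ MulAut.conj w • C.subgroupOf W := by rw [hw]; exact hx
      obtain ⟨c, hc, e⟩ := this
      exact ⟨(c : G), hc, congrArg Subtype.val e⟩
  have hn : (w : G)⁻¹ * g ∈ normalizer (C : Set G) := by
    rw [← Cfsg.Lib.Solv.conj_smul_eq_self_iff, map_mul, mul_smul, ← hD, ← h2, ← mul_smul,
      ← map_mul, inv_mul_cancel, map_one, one_smul]
  rw [hC.2] at hn
  simpa using W.mul_mem w.2 (hCW hn)

/-- The image of a Carter subgroup in a quotient. -/
theorem isC_map {C N : Subgroup G} [N.Normal] (hC : IsC C)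
    (hconj : C ⊔ N ≠ ⊤ → ∀ D₁ D₂ : Subgroup ↥(C ⊔ N), IsC D₁ → IsC D₂ →
      ∃ w : ↥(C ⊔ N), MulAut.conj w • D₁ = D₂) : IsC (C.map (QuotientGroup.mk' N)) := by
  have := hC.1
  refine ⟨Group.nilpotent_of_surjective _ ((QuotientGroup.mk' N).subgroupMap_surjective C), ?_⟩
  apply comap_injective (QuotientGroup.mk'_surjective N)
  rw [comap_normalizer_eq_of_surjective _ (QuotientGroup.mk'_surjective N), comap_map_eq,
    QuotientGroup.ker_mk', sup_selfnorm hC hconj]

/-- Carter subgroups of a finite solvable group are conjugate. -/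
theorem conj_aux : ∀ (n : ℕ) (G : Type _) [Group G] [Finite G], Nat.card G = n → Group.IsSolvable G →
    ∀ C D : Subgroup G, IsC C → IsC D → ∃ g : G, MulAut.conj g • C = D := by
  intro n
  induction n using Nat.strong_induction_on with
  | _ n ih =>
  intro G _ _ hn hs C D hC hD
  subst hn
  have htriv : ∀ A B : Subgroup G, IsC B → A = ⊤ → Group.IsNilpotent A → B = ⊤ := by
    rintro A B hB rfl hA
    have : Group.IsNilpotent G := Group.isNilpotent_top.1 hA
    exact eq_top_of_selfnorm hB.2
  rcases subsingleton_or_nontrivial G with hG | hG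
  · exact ⟨1, Subsingleton.elim _ _⟩
  obtain ⟨N, hNn, -, hNne, hNmin⟩ :=
    Cfsg.Lib.Solv.exists_minimal_normal_le (N := (⊤ : Subgroup G)) top_ne_bot
  haveI := hNn
  obtain ⟨hNab, p, hp, hNp, hNpow⟩ :=
    Cfsg.Lib.Solv.minimal_normal_elementary hNne inferInstance hNmin
  have hNcomm : ∀ a ∈ N, ∀ b ∈ N, a * b = b * a := fun a ha b hb =>
    congrArg Subtype.val (hNab.is_comm.comm ⟨a, ha⟩ ⟨b, hb⟩)
  haveI := Fact.mk hp
  have hsub : ∀ W : Subgroup G, W ≠ ⊤ → ∀ D₁ D₂ : Subgroup W, IsC D₁ → IsC D₂ →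
      ∃ w : W, MulAut.conj w • D₁ = D₂ := fun W hW =>
    ih _ (lt_of_le_of_ne (card_le_card_group W) fun h => hW (eq_top_of_card_eq W h)) W rfl inferInstance
  have hlt : Nat.card (G ⧸ N) < Nat.card G := by
    rw [← index_eq_card, ← N.card_mul_index]
    exact lt_mul_of_one_lt_left (Nat.pos_of_ne_zero FiniteIndex.index_ne_zero)
      ((one_lt_card_iff_ne_bot N).2 hNne)
  obtain ⟨x, hx⟩ := ih _ hlt (G ⧸ N) rfl inferInstance _ _ (isC_map hC (hsub _)) (isC_map hD (hsub _))
  obtain ⟨g, rfl⟩ := QuotientGroup.mk'_surjective N x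
  set C' := MulAut.conj g • C with hC'def
  have hC' : IsC C' := isC_conj hC g
  have hsup : C' ⊔ N = D ⊔ N := by
    have e : C'.map (QuotientGroup.mk' N) = D.map (QuotientGroup.mk' N) := by
      rw [← hx]
      ext y
      constructor
      · rintro ⟨_, ⟨c, hc, rfl⟩, rfl⟩
        exact ⟨_, ⟨c, hc, rfl⟩, by simp⟩
      · rintro ⟨_, ⟨c, hc, rfl⟩, rfl⟩
        exact ⟨_, ⟨c, hc, rfl⟩, by simp⟩
    have := congrArg (fun S => Subgroup.comap (QuotientGroup.mk' N) S) e
    simpa [comap_map_eq] using this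
  suffices ∃ k : G, MulAut.conj k • C' = D by
    obtain ⟨k, hk⟩ := this
    exact ⟨k * g, by rw [map_mul, mul_smul]; exact hk⟩
  by_cases hW : C' ⊔ N = ⊤
  swap
  · have hCW : C' ≤ C' ⊔ N := le_sup_left
    have hDW : D ≤ C' ⊔ N := hsup ▸ le_sup_left
    obtain ⟨w, hw⟩ := hsub _ hW _ _ (isC_subgroupOf' hCW hC') (isC_subgroupOf' hDW hD)
    refine ⟨(w : G), ?_⟩
    ext x
    constructor
    · rintro ⟨c, hc, rfl⟩
      have : MulAut.conj w (⟨c, hCW hc⟩ : ↥(C' ⊔ N)) ∈ MulAut.conj w • C'.subgroupOf (C' ⊔ N) :=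
        ⟨⟨c, hCW hc⟩, hc, rfl⟩
      rw [hw] at this
      exact this
    · intro hx
      have : (⟨x, hDW hx⟩ : ↥(C' ⊔ N)) ∈ MulAut.conj w • C'.subgroupOf (C' ⊔ N) := by rw [hw]; exact hx
      obtain ⟨c, hc, e⟩ := this
      exact ⟨(c : G), hc, congrArg Subtype.val e⟩
  rcases eq_or_ne C' ⊤ with hCt | hCt
  · exact ⟨1, by rw [map_one, one_smul, hCt, htriv C' D hD hCt hC'.1]⟩
  rcases eq_or_ne D ⊤ with hDt | hDt
  · exact absurd (htriv D C' hC' hDt hD.1) hCt
  -- both are complements to `N`; they are normalizers of Hall `p'`-subgroups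
  have main : ∀ E : Subgroup G, IsC E → E ⊔ N = ⊤ → E ≠ ⊤ →
      ∃ T : Subgroup G, Cfsg.IsPiHall {r : ℕ | r ≠ p} T ∧ normalizer (T : Set G) = E := by
    intro E hE hEN hEt
    have : Group.IsNilpotent E := hE.1
    have hinf : ∀ X : Subgroup G, X ⊔ N = ⊤ → X ≠ ⊤ → X ⊓ N = ⊥ := by
      intro X hX hXt
      have hn : (X ⊓ N).Normal := by
        rw [← normalizer_eq_top_iff, ← top_le_iff, ← hX]
        refine sup_le (fun a ha => ?_) (fun a ha => ?_)
        · refine mem_normalizer_iff.2 fun y => ⟨fun hy => ⟨X.mul_mem (X.mul_mem ha hy.1) (X.inv_mem ha),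
            hNn.conj_mem y hy.2 a⟩, fun hy => ?_⟩
          have h1 : y ∈ X := by
            have := X.mul_mem (X.mul_mem (X.inv_mem ha) hy.1) ha
            simpa [mul_assoc] using this
          have h2 : y ∈ N := by simpa [mul_assoc] using hNn.conj_mem _ hy.2 a⁻¹
          exact ⟨h1, h2⟩
        · refine mem_normalizer_iff.2 fun y => ⟨fun hy => ?_, fun hy => ?_⟩
          · rw [hNcomm a ha y hy.2, mul_inv_cancel_right]; exact hy
          · have h2 : y ∈ N := by simpa [mul_assoc] using hNn.conj_mem _ hy.2 a⁻¹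
            rwa [hNcomm a ha y h2, mul_inv_cancel_right] at hy
      rcases hNmin _ hn inf_le_right with h | h
      · exact h
      · exact absurd (top_le_iff.1 (hX ▸ sup_le le_rfl (h ▸ inf_le_left))) hXt
    have hidx : ∀ X : Subgroup G, X ⊔ N = ⊤ → X ≠ ⊤ → X.index = Nat.card N := by
      intro X hX hXt
      exact (isComplement'_of_disjoint_and_mul_eq_univ (disjoint_iff.2 (hinf X hX hXt))
        (by rw [← mul_normal, hX, coe_top])).symm.index_eq_card
    obtain ⟨k, hk⟩ := hNp.exists_card_eq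
    set T := (Cfsg.pResidual p E).map E.subtype with hT
    have hTE : T ≤ E := map_subtype_le _
    have hTc : (Nat.card T).Coprime p := by
      rw [hT, ← Nat.card_congr (Subgroup.equivMapOfInjective _ _ E.subtype_injective).toEquiv]
      exact coprime_pResidual_of_nilpotent p
    obtain ⟨j, hj⟩ := Cfsg.Lib.Transfer.exists_index_pResidual_eq_pow (G := E) (p := p)
    have hTi : T.index = p ^ (j + k) := by
      rw [hT, index_map_subtype, hj, hidx E hEN hEt, hk, pow_add]
    have hHall : Cfsg.IsPiHall {r : ℕ | r ≠ p} T := by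
      refine ⟨fun r hr hrd => ?_, fun r hr hrp hrd => ?_⟩
      · rintro rfl
        exact hr.ne_one (Nat.eq_one_of_dvd_coprimes hTc hrd dvd_rfl)
      · rw [hTi] at hrd
        exact hrp ((Nat.prime_dvd_prime_iff_eq hr hp).1 (hr.dvd_of_dvd_pow hrd))
    refine ⟨T, hHall, ?_⟩
    have hTn : ((Cfsg.pResidual p E)).Normal := Cfsg.Lib.Transfer.pResidual_normal p
    have hET : E ≤ normalizer (T : Set G) := fun a ha => by
      refine mem_normalizer_iff.2 fun y => ⟨?_, fun hy => ?_⟩
      · rintro ⟨z, hz, rfl⟩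
        exact ⟨⟨a, ha⟩ * z * ⟨a, ha⟩⁻¹, hTn.conj_mem z hz _, rfl⟩
      · obtain ⟨z, hz, e⟩ := hy
        refine ⟨(⟨a, ha⟩ : E)⁻¹ * z * ((⟨a, ha⟩ : E)⁻¹)⁻¹, hTn.conj_mem z hz _, ?_⟩
        simp only [coe_subtype] at e
        simp [e, mul_assoc]
    have hNT : normalizer (T : Set G) ≠ ⊤ := by
      intro h
      rw [normalizer_eq_top_iff] at h
      have hq : IsPGroup p (G ⧸ T) := IsPGroup.of_card (n := j + k) (by rw [← index_eq_card, hTi])
      have : Group.IsNilpotent (G ⧸ T) := hq.isNilpotent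
      refine hEt ?_
      have hself : normalizer ((E.map (QuotientGroup.mk' T) : Subgroup (G ⧸ T)) : Set (G ⧸ T)) =
          E.map (QuotientGroup.mk' T) := by
        apply comap_injective (QuotientGroup.mk'_surjective T)
        rw [comap_normalizer_eq_of_surjective _ (QuotientGroup.mk'_surjective T), comap_map_eq,
          QuotientGroup.ker_mk', sup_eq_left.2 hTE, hE.2]
      have := congrArg (Subgroup.comap (QuotientGroup.mk' T)) (eq_top_of_selfnorm hself)
      rwa [comap_map_eq, comap_top, QuotientGroup.ker_mk', sup_eq_left.2 hTE] at this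
    have hXN : normalizer (T : Set G) ⊔ N = ⊤ := top_le_iff.1 (hEN ▸ sup_le_sup_right hET N)
    refine (eq_of_le_of_card_ge hET ?_).symm
    have e1 := E.card_mul_index
    have e2 := (normalizer (T : Set G)).card_mul_index
    rw [hidx E hEN hEt] at e1
    rw [hidx _ hXN hNT, ← e1] at e2
    exact (Nat.eq_of_mul_eq_mul_right Nat.card_pos e2).le
  obtain ⟨T₁, hT₁, hn₁⟩ := main C' hC' hW hCt
  obtain ⟨T₂, hT₂, hn₂⟩ := main D hD (hsup ▸ hW) hDt
  obtain ⟨k, hk⟩ := Cfsg.Lib.Solv.hall_conj hT₁ hT₂
  refine ⟨k, ?_⟩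
  rw [← hn₁, ← hn₂, ← hk]
  exact map_equiv_normalizer_eq T₁ (MulAut.conj k)

theorem conj_carter [Finite G] [Group.IsSolvable G] {C D : Subgroup G} (hC : IsC C) (hD : IsC D) :
    ∃ g : G, MulAut.conj g • C = D :=
  conj_aux _ G rfl inferInstance C D hC hD

/-- Carter subgroups map to Carter subgroups. -/
theorem carter_map [Finite G] [Group.IsSolvable G] {C : Subgroup G} (hC : IsC C) (N : Subgroup G)
    [N.Normal] : IsC (C.map (QuotientGroup.mk' N)) :=
  isC_map hC fun _ _ _ h₁ h₂ => conj_carter h₁ h₂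

/-- A Carter subgroup covers every nilpotent quotient. -/
theorem sup_eq_top [Finite G] [Group.IsSolvable G] {C : Subgroup G} (hC : IsC C) (N : Subgroup G)
    [N.Normal] [Group.IsNilpotent (G ⧸ N)] : C ⊔ N = ⊤ := by
  have := congrArg (Subgroup.comap (QuotientGroup.mk' N)) (eq_top_of_selfnorm (carter_map hC N).2)
  rwa [comap_map_eq, comap_top, QuotientGroup.ker_mk'] at this

/-- Carter subgroups exist. -/
theorem exists_aux : ∀ (n : ℕ) (G : Type _) [Group G] [Finite G], Nat.card G = n → Group.IsSolvable G →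
    ∃ C : Subgroup G, IsC C := by
  intro n
  induction n using Nat.strong_induction_on with
  | _ n ih =>
  intro G _ _ hn hs
  subst hn
  rcases subsingleton_or_nontrivial G with hG | hG
  · exact ⟨⊤, Group.isNilpotent_top.2 inferInstance, top_le_iff.1 le_normalizer⟩
  obtain ⟨N, hNn, -, hNne, hNmin⟩ :=
    Cfsg.Lib.Solv.exists_minimal_normal_le (N := (⊤ : Subgroup G)) top_ne_bot
  haveI := hNn
  obtain ⟨-, p, hp, hNp, hNpow⟩ := Cfsg.Lib.Solv.minimal_normal_elementary hNne inferInstance hNmin
  haveI := Fact.mk hp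
  have hlt : Nat.card (G ⧸ N) < Nat.card G := by
    rw [← index_eq_card, ← N.card_mul_index]
    exact lt_mul_of_one_lt_left (Nat.pos_of_ne_zero FiniteIndex.index_ne_zero)
      ((one_lt_card_iff_ne_bot N).2 hNne)
  obtain ⟨X, hX⟩ := ih _ hlt (G ⧸ N) rfl inferInstance
  set π := QuotientGroup.mk' N with hπ
  set U := X.comap π with hU
  rcases eq_or_ne U ⊤ with hUt | hUt
  · -- the quotient is nilpotent
    have hXt : X = ⊤ := by
      have := congrArg (Subgroup.map π) hUt
      rwa [hU, map_comap_eq_self_of_surjective (QuotientGroup.mk'_surjective N),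
        ← MonoidHom.range_eq_map, MonoidHom.range_eq_top.2 (QuotientGroup.mk'_surjective N)] at this
    have : Group.IsNilpotent (G ⧸ N) := Group.isNilpotent_top.1 (hXt ▸ hX.1)
    obtain ⟨P⟩ := (inferInstance : Nonempty (Sylow p G))
    have hNP : N ≤ (P : Subgroup G) := hNp.le_sylow_of_normal P
    have hQn : ((P.mapSurjective (QuotientGroup.mk'_surjective N) : Sylow p (G ⧸ N)) :
        Subgroup (G ⧸ N)).Normal :=
      ((Group.isNilpotent_of_finite_tfae (G := G ⧸ N)).out 0 3 :).1 ‹_› p ⟨hp⟩ _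
    have hPn : (P : Subgroup G).Normal := by
      have e : (P : Subgroup G) = ((P.mapSurjective (QuotientGroup.mk'_surjective N) :
          Sylow p (G ⧸ N)) : Subgroup (G ⧸ N)).comap π := by
        show _ = ((P : Subgroup G).map π).comap π
        rw [comap_map_eq, QuotientGroup.ker_mk', sup_eq_left.2 hNP]
      rw [e]; exact hQn.comap π
    obtain ⟨H, hH⟩ := exists_right_complement'_of_coprime (N := (P : Subgroup G)) P.card_coprime_index
    obtain ⟨a, ha⟩ := P.2.exists_card_eq
    have hHc : (Nat.card H).Coprime p := by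
      rw [← hH.symm.index_eq_card]
      exact ((hp.coprime_iff_not_dvd).2 P.not_dvd_index).symm
    set C := normalizer (H : Set G) with hCdef
    have hHn : (H.subgroupOf C).Normal := (normal_subgroupOf_iff_le_normalizer le_normalizer).2 le_rfl
    refine ⟨C, ?_, le_antisymm (fun g hg => ?_) le_normalizer⟩
    · have hq : IsPGroup p (C ⧸ H.subgroupOf C) := by
        obtain ⟨j, -, hj⟩ := (Nat.dvd_prime_pow hp).1
          ((hH.index_eq_card.trans ha) ▸ relIndex_dvd_index_of_le le_normalizer : H.relIndex C ∣ p ^ a)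
        exact IsPGroup.of_card (n := j) (by rw [← index_eq_card]; exact hj)
      have : Group.IsNilpotent (C ⧸ H.subgroupOf C) := hq.isNilpotent
      have : Group.IsNilpotent (G ⧸ (P : Subgroup G)) := by
        have hle : N ≤ (P : Subgroup G).comap (MonoidHom.id G) := hNP
        exact Group.nilpotent_of_surjective (QuotientGroup.map N (P : Subgroup G) (MonoidHom.id G) hle)
          (fun y => by
            obtain ⟨g, rfl⟩ := QuotientGroup.mk'_surjective (P : Subgroup G) y
            exact ⟨QuotientGroup.mk' N g, rfl⟩)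
      refine nilpotent_injective
        (((QuotientGroup.mk' (P : Subgroup G)).comp C.subtype).prod (QuotientGroup.mk' (H.subgroupOf C)))
        ((injective_iff_map_eq_one _).2 fun x hx => ?_)
      have h1 : (x : G) ∈ (P : Subgroup G) := (QuotientGroup.eq_one_iff (x : G)).1 (congrArg Prod.fst hx)
      have h2 : (x : G) ∈ H := (QuotientGroup.eq_one_iff x).1 (congrArg Prod.snd hx)
      have : (x : G) ∈ (P : Subgroup G) ⊓ H := ⟨h1, h2⟩
      rw [hH.disjoint.eq_bot, mem_bot] at this
      exact Subtype.ext this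
    · obtain ⟨j, -, hj⟩ := (Nat.dvd_prime_pow hp).1
        ((hH.index_eq_card.trans ha) ▸ relIndex_dvd_index_of_le le_normalizer : H.relIndex C ∣ p ^ a)
      have key : ∀ y ∈ normalizer (C : Set G), ∀ h ∈ H, y * h * y⁻¹ ∈ H := fun y hy h hh => by
        have hyC : y * h * y⁻¹ ∈ C := (mem_normalizer_iff.1 hy h).1 (le_normalizer hh)
        exact Cfsg.Lib.Transfer.pResidual_le_of_index_eq_pow (H.subgroupOf C) hj
          (Cfsg.Lib.Transfer.coprime_orderOf_mem_pResidual (x := (⟨_, hyC⟩ : C)) (by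
            rw [Subgroup.orderOf_mk, show y * h * y⁻¹ = MulAut.conj y h from rfl, MulEquiv.orderOf_eq]
            exact hHc.coprime_dvd_left (H.orderOf_dvd_natCard hh)))
      refine mem_normalizer_iff.2 fun h => ⟨key g hg h, fun hh => ?_⟩
      have := key g⁻¹ (inv_mem hg) _ hh
      simpa [mul_assoc] using this
  · obtain ⟨C₀, hC₀⟩ := ih _ (lt_of_le_of_ne (card_le_card_group U)
      fun h => hUt (eq_top_of_card_eq U h)) U rfl inferInstance
    set C := C₀.map U.subtype with hC
    have hCU : C ≤ U := map_subtype_le _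
    have hNU : N ≤ U := fun x hx => by
      show π x ∈ X
      rw [show π x = 1 from (QuotientGroup.eq_one_iff x).2 hx]
      exact X.one_mem
    have hXn : Group.IsNilpotent X := hX.1
    -- `C` covers `U / N`
    have : Group.IsNilpotent (U ⧸ N.subgroupOf U) := by
      let f : U →* X := (π.comp U.subtype).codRestrict X fun u => u.2
      have hker : f.ker = N.subgroupOf U := by
        ext u
        rw [MonoidHom.mem_ker, Subtype.ext_iff]
        exact QuotientGroup.eq_one_iff (u : G)
      exact nilpotent_injective ((QuotientGroup.kerLift f).comp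
        (QuotientGroup.quotientMulEquivOfEq hker.symm).toMonoidHom)
        ((QuotientGroup.kerLift_injective f).comp (MulEquiv.injective _))
    have hsupU := sup_eq_top hC₀ (N.subgroupOf U)
    have hCN : C ⊔ N = U := by
      have := congrArg (Subgroup.map U.subtype) hsupU
      rwa [Subgroup.map_sup, ← hC, map_subgroupOf_eq_of_le hNU, ← MonoidHom.range_eq_map, range_subtype] at this
    have : Group.IsNilpotent C₀ := hC₀.1
    refine ⟨C, Group.nilpotent_of_mulEquiv (equivMapOfInjective C₀ _ U.subtype_injective),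
      le_antisymm (fun g hg => ?_) le_normalizer⟩
    have hgU : g ∈ U := by
      have h1 : π g ∈ normalizer (X : Set (G ⧸ N)) := by
        have e : X = C.map π := by
          have := congrArg (Subgroup.map π) hCN
          rw [Subgroup.map_sup, hU, map_comap_eq_self_of_surjective (QuotientGroup.mk'_surjective N)] at this
          rw [← this, (map_eq_bot_iff N).2 (by rw [QuotientGroup.ker_mk']), sup_bot_eq]
        rw [e]
        exact le_normalizer_map π ⟨g, hg, rfl⟩
      rw [hX.2] at h1
      exact h1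
    have h2 : (⟨g, hgU⟩ : U) ∈ normalizer ((C₀ : Subgroup U) : Set U) := by
      have e : C.subgroupOf U = C₀ := by
        rw [hC, subgroupOf, comap_map_eq_self_of_injective U.subtype_injective]
      rw [← e, mem_normalizer_subgroupOf hCU]
      exact hg
    rw [hC₀.2] at h2
    exact ⟨⟨g, hgU⟩, h2, rfl⟩

theorem exists_carter [Finite G] [Group.IsSolvable G] : ∃ C : Subgroup G, IsC C :=
  exists_aux _ G rfl inferInstance

end Cfsg.Lib.Solv.Carter
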