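import Mathlib.GroupTheory.Index
import Mathlib.Tactic.Group
import Mathlib.GroupTheory.GroupAction.Quotient
import Mathlib.Algebra.Order.BigOperators.Group.Finset

/-!
A finite group is not covered by the conjugates of a proper subgroup.
-/

set_option autoImplicit false

namespace Cfsg.Lib.Solv

theorem eq_top_of_forall_conj_mem {G : Type*} [Group G] [Finite G] {H : Subgroup G}
    (h : ∀ g : G, ∃ x : G, x⁻¹ * g * x ∈ H) : H = ⊤ := by
  classical
  letI := Fintype.ofFinite G
  haveI : Finite (G ⧸ H) := inferInstance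
  letI := Fintype.ofFinite (G ⧸ H)
  have hb := MulAction.sum_card_fixedBy_eq_card_orbits_mul_card_group G (G ⧸ H)
  have horb : Fintype.card (MulAction.orbitRel.Quotient G (G ⧸ H)) = 1 := by
    rw [Fintype.card_eq_one_iff]
    refine ⟨Quotient.mk'' ((1 : G) : G ⧸ H), fun q => ?_⟩
    induction q using Quotient.inductionOn' with
    | _ y => exact Quotient.sound' (MulAction.exists_smul_eq G _ y |> fun ⟨g, hg⟩ => ⟨g, hg⟩)
  rw [horb, one_mul] at hb
  have h1 : ∀ g : G, 1 ≤ Fintype.card (MulAction.fixedBy (G ⧸ H) g) := fun g => by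
    obtain ⟨x, hx⟩ := h g
    refine Fintype.card_pos_iff.2 ⟨⟨(x : G ⧸ H), ?_⟩⟩
    show g • (x : G ⧸ H) = x
    rw [MulAction.Quotient.smul_coe, smul_eq_mul, QuotientGroup.eq]
    have e : (g * x)⁻¹ * x = (x⁻¹ * g * x)⁻¹ := by group
    rw [e]; exact H.inv_mem hx
  have h2 : Fintype.card (MulAction.fixedBy (G ⧸ H) (1 : G)) = Fintype.card (G ⧸ H) :=
    Fintype.card_congr ⟨fun y => y.1, fun y => ⟨y, one_smul G y⟩, fun _ => rfl, fun _ => rfl⟩
  by_contra hne
  have hidx : 1 < Fintype.card (G ⧸ H) := by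
    rw [← Nat.card_eq_fintype_card, ← Subgroup.index_eq_card]
    have h0 : H.index ≠ 0 := Subgroup.index_ne_zero_of_finite
    have h3 : H.index ≠ 1 := fun e => hne (Subgroup.index_eq_one.1 e)
    omega
  have h4 : ∑ _g : G, 1 < ∑ g : G, Fintype.card (MulAction.fixedBy (G ⧸ H) g) :=
    Finset.sum_lt_sum (fun g _ => h1 g) ⟨1, Finset.mem_univ _, by rw [h2]; exact hidx⟩
  rw [hb] at h4
  simp at h4

end Cfsg.Lib.Solv
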