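import Mathlib

/-!
A symmetric loopless incidence of a projective plane cannot exist (trace argument).
-/

set_option autoImplicit false

namespace Cfsg.Lib.Solv

/-- No finite graph is regular of degree `m` with any two distinct vertices having exactly one common
neighbour, provided some odd prime divides `m - 1` and there are at least two vertices. -/
theorem false_of_regular_friendship {ι : Type*} [Finite ι] [Nonempty ι] (R : ι → ι → Prop)
    (hsymm : ∀ i j, R i j → R j i) (hirr : ∀ i, ¬ R i i) (m r : ℕ) [hr : Fact r.Prime] (hr2 : r ≠ 2)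
    (hrm : (m : ZMod r) = 1) (hdeg : ∀ i, Nat.card {j // R i j} = m)
    (hone : ∀ i j, i ≠ j → Nat.card {k // R i k ∧ R j k} = 1) : False := by
  classical
  have := Fintype.ofFinite ι
  let A : Matrix ι ι (ZMod r) := Matrix.of fun i j => if R i j then 1 else 0
  let J : Matrix ι ι (ZMod r) := Matrix.of fun _ _ => 1
  have hA2 : A * A = J := by
    ext i k
    simp only [A, J, Matrix.mul_apply, Matrix.of_apply, ite_zero_mul_ite_zero, one_mul]
    rw [Finset.sum_boole]
    rcases eq_or_ne i k with rfl | hne
    · rw [← hrm, ← hdeg i, Nat.card_eq_fintype_card, Fintype.card_subtype]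
      congr 2
      ext j
      simpa using fun h => hsymm _ _ h
    · rw [← Nat.cast_one, ← hone i k hne, Nat.card_eq_fintype_card, Fintype.card_subtype]
      congr 2
      ext j
      simpa using fun _ => ⟨fun h => hsymm _ _ h, fun h => hsymm _ _ h⟩
  have hAJ : A * J = J := by
    ext i k
    simp only [A, J, Matrix.mul_apply, Matrix.of_apply, mul_one]
    rw [Finset.sum_boole, ← hrm, ← hdeg i, Nat.card_eq_fintype_card, Fintype.card_subtype]
  have hA4 : J * J = J := by
    calc J * J = A * A * J := by rw [hA2]
      _ = J := by rw [mul_assoc, hAJ, hAJ]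
  have hn : (Fintype.card ι : ZMod r) = 1 := by
    obtain ⟨i⟩ := ‹Nonempty ι›
    have := congrFun (congrFun hA4 i) i
    simpa [J, Matrix.mul_apply] using this
  have hpow : ∀ k, A ^ (k + 2) = J := by
    intro k
    induction k with
    | zero => rw [pow_two, hA2]
    | succ k ih => rw [pow_succ', ih, hAJ]
  have htr := ZMod.trace_pow_card A
  obtain ⟨k, hk⟩ : ∃ k, r = k + 2 := ⟨r - 2, by have := hr.out.two_le; omega⟩
  rw [show A ^ r = J from hk.symm ▸ hpow k] at htr
  have h0 : Matrix.trace A = 0 := by
    simp [Matrix.trace, A, hirr]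
  rw [h0, zero_pow hr.out.ne_zero] at htr
  have h1 : Matrix.trace J = (Fintype.card ι : ZMod r) := by
    simp [Matrix.trace, J]
  rw [h1, hn] at htr
  exact one_ne_zero htr

end Cfsg.Lib.Solv
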