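import Cfsg.Agent.Lib.PLocal.Thompson
import Cfsg.Agent.Lib.Solv.MinimalNonNilpotent
import Cfsg.Agent.Lib.Solv.Cores
import Cfsg.Agent.S0031
import Cfsg.Agent.S0032

/-!
# A finite group with a fixed-point-free automorphism of prime order is nilpotent (Thompson)
-/

set_option autoImplicit false
set_option linter.unusedSectionVars false
set_option linter.style.haveILetI false

open scoped IsMulCommutative

namespace Cfsg.Lib.Solv.ThompsonKernel

universe u

variable {G : Type u} [Group G] [Finite G]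

/-- The pair `(φ, r)`: `φ` fixes only the identity and `φ^r` is the identity, `r` prime. -/
structure Fpf (φ : G ≃* G) (r : ℕ) : Prop where
  prime : r.Prime
  fpf : ∀ g, φ g = g → g = 1
  period : ∀ g, φ^[r] g = g

/-- A subgroup mapped into itself. -/
def Inv (φ : G ≃* G) (N : Subgroup G) : Prop := ∀ x ∈ N, φ x ∈ N

theorem Inv.map_eq {φ : G ≃* G} {N : Subgroup G} (h : Inv φ N) : N.map (φ : G →* G) = N := by
  refine Subgroup.eq_of_le_of_card_ge ?_ (Subgroup.card_map_of_injective φ.injective).ge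
  rintro _ ⟨x, hx, rfl⟩
  exact h x hx

theorem inv_of_map_eq {φ : G ≃* G} {N : Subgroup G} (h : N.map (φ : G →* G) = N) : Inv φ N :=
  fun x hx => h ▸ Subgroup.mem_map_of_mem (φ : G →* G) hx

theorem inv_of_characteristic {φ : G ≃* G} (N : Subgroup G) [N.Characteristic] : Inv φ N :=
  inv_of_map_eq (Subgroup.characteristic_iff_map_eq.mp inferInstance φ)

theorem iterate_mem {φ : G ≃* G} {N : Subgroup G} (h : Inv φ N) {x : G} (hx : x ∈ N) (i : ℕ) :
    φ^[i] x ∈ N := by
  induction i with
  | zero => exact hx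
  | succ i ih => rw [Function.iterate_succ_apply']; exact h _ ih

theorem Fpf.restrict {φ : G ≃* G} {r : ℕ} (h : Fpf φ r) {N : Subgroup G} (hN : Inv φ N) :
    ∃ ψ : N ≃* N, Fpf ψ r := by
  refine ⟨(φ.subgroupMap N).trans (MulEquiv.subgroupCongr hN.map_eq), h.prime,
    fun g hg => Subtype.ext (h.fpf g (congrArg Subtype.val hg)), fun g => Subtype.ext ?_⟩
  exact (Function.Semiconj.iterate_right (f := (Subtype.val : N → G)) (fun _ => rfl) r g).trans
    (h.period g)

theorem Fpf.quotient {φ : G ≃* G} {r : ℕ} (h : Fpf φ r) (N : Subgroup G) [N.Normal]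
    (hN : Inv φ N) : ∃ ψ : G ⧸ N ≃* G ⧸ N, Fpf ψ r := by
  refine ⟨QuotientGroup.congr N N φ hN.map_eq, h.prime, fun g hg => ?_, fun g => ?_⟩
  · obtain ⟨x, rfl⟩ := QuotientGroup.mk'_surjective N g
    have hx : (φ x)⁻¹ * x ∈ N := QuotientGroup.eq.mp hg
    exact (QuotientGroup.eq_one_iff x).mpr (Cfsg.Agent.S0032.result φ h.fpf N hN x hx)
  · obtain ⟨x, rfl⟩ := QuotientGroup.mk'_surjective N g
    rw [← Function.Semiconj.iterate_right (f := QuotientGroup.mk' N) (ga := φ) (fun _ => rfl) r x, h.period]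

theorem Fpf.iterate_fpf {φ : G ≃* G} {r : ℕ} (h : Fpf φ r) {i : ℕ} (hi : 0 < i) (hir : i < r)
    {g : G} (hg : φ^[i] g = g) : g = 1 := by
  have h1 : Function.IsPeriodicPt φ (Nat.gcd i r) g := Function.IsPeriodicPt.gcd hg (h.period g)
  rw [Nat.Coprime.gcd_eq_one] at h1
  · exact h.fpf g h1
  · exact ((h.prime.coprime_iff_not_dvd).mpr fun hd => (Nat.le_of_dvd hi hd).not_gt hir).symm

theorem prod_orbit_fixed {φ : G ≃* G} {r : ℕ} (h : Fpf φ r) {A : Subgroup G} [IsMulCommutative A]
    (hA : Inv φ A) (w : A) :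
    ∏ i ∈ Finset.range r, (⟨φ^[i] w, iterate_mem hA w.2 i⟩ : A) = 1 := by
  set f : ℕ → A := fun i => ⟨φ^[i] w, iterate_mem hA w.2 i⟩ with hf
  let ψ : A →* A :=
    { toFun := fun x => ⟨φ x, hA x x.2⟩
      map_one' := Subtype.ext (map_one φ)
      map_mul' := fun x y => Subtype.ext (map_mul φ (x : G) y) }
  have hψ : ∀ i, ψ (f i) = f (i + 1) := fun i =>
    Subtype.ext (Function.iterate_succ_apply' φ i w).symm
  have hfix : ψ (∏ i ∈ Finset.range r, f i) = ∏ i ∈ Finset.range r, f i := by
    rw [map_prod, Finset.prod_congr rfl fun i _ => hψ i]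
    have h0 : f r = f 0 := Subtype.ext (h.period w)
    have e1 := Finset.prod_range_succ f r
    have e2 := Finset.prod_range_succ' f r
    rw [e1, h0] at e2
    exact (mul_right_cancel e2).symm
  exact Subtype.ext (h.fpf _ (congrArg Subtype.val hfix))

/-- An invariant subgroup acting without fixed points on an invariant abelian subgroup of coprime
order forces that subgroup to be trivial. -/
theorem eq_bot_of_no_fixed {φ : G ≃* G} {r : ℕ} (h : Fpf φ r) {V Q : Subgroup G} [V.Normal]
    [IsMulCommutative V] (hV : Inv φ V) (hQ : Inv φ Q)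
    (hcop : (Nat.card Q).Coprime (Nat.card V))
    (hfix : ∀ w ∈ V, (∀ q ∈ Q, q * w * q⁻¹ = w) → w = 1) : V = ⊥ := by
  classical
  haveI := Fintype.ofFinite Q
  refine (Subgroup.eq_bot_iff_forall V).mpr fun v hv => ?_
  -- conjugation by `y` on `V`
  let c : G → (V →* V) := fun y =>
    { toFun := fun x => ⟨y * x * y⁻¹, Subgroup.Normal.conj_mem inferInstance _ x.2 y⟩
      map_one' := Subtype.ext (by simp)
      map_mul' := fun a b => Subtype.ext (by simp [mul_assoc]) }
  have hc : ∀ (a b : G) (x : V), c a (c b x) = c (a * b) x := fun a b x =>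
    Subtype.ext (by simp [c, mul_assoc])
  -- sums over `Q` are fixed
  have hB : ∀ w : V, ∏ q : Q, c q w = 1 := by
    intro w
    refine Subtype.ext (hfix _ (∏ q : Q, c q w : V).2 fun q hq => ?_)
    show ((c q (∏ x : Q, c x w) : V) : G) = _
    rw [map_prod]
    congr 1
    rw [← Equiv.prod_comp (Equiv.mulLeft (⟨q, hq⟩ : Q)) (fun x : Q => c x w)]
    exact Finset.prod_congr rfl fun x _ => hc q x w
  let it : ℕ → G → G := fun i x => φ^[i] x
  have hit : ∀ i x, x ∈ V → it i x ∈ V := fun i x hx => iterate_mem hV hx i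
  have hmul : ∀ i a b, φ^[i] (a * b) = φ^[i] a * φ^[i] b := by
    intro i a b
    induction i with
    | zero => rfl
    | succ i ih => rw [Function.iterate_succ_apply', Function.iterate_succ_apply',
        Function.iterate_succ_apply', ih, map_mul]
  have hinv : ∀ i a, φ^[i] a⁻¹ = (φ^[i] a)⁻¹ := by
    intro i a
    induction i with
    | zero => rfl
    | succ i ih => rw [Function.iterate_succ_apply', Function.iterate_succ_apply', ih, map_inv]
  -- the double product
  set D : ℕ → V := fun i => ∏ y : Q, c y ⟨φ^[i] ((y : G)⁻¹ * v * y),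
    hit i _ (by simpa using Subgroup.Normal.conj_mem (inferInstance : V.Normal) v hv (y : G)⁻¹)⟩
  have hD : ∏ i ∈ Finset.range r, D i = 1 := by
    simp only [D]
    rw [Finset.prod_comm]
    refine Finset.prod_eq_one fun y _ => ?_
    rw [← map_prod]
    rw [prod_orbit_fixed h hV ⟨(y : G)⁻¹ * v * y, by
      simpa using Subgroup.Normal.conj_mem (inferInstance : V.Normal) v hv (y : G)⁻¹⟩, map_one]
  have hDi : ∀ i, 0 < i → i < r → D i = 1 := by
    intro i hi hir
    let e : Q → Q := fun y => ⟨(y : G) * (φ^[i] (y : G))⁻¹,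
      Q.mul_mem y.2 (Q.inv_mem (iterate_mem hQ y.2 i))⟩
    have he : Function.Bijective e := by
      refine Finite.injective_iff_bijective.mp fun a b hab => ?_
      have hab' : (a : G) * (φ^[i] (a : G))⁻¹ = (b : G) * (φ^[i] (b : G))⁻¹ :=
        congrArg Subtype.val hab
      have h1 : φ^[i] ((b : G)⁻¹ * a) = (b : G)⁻¹ * a := by
        rw [hmul, hinv]
        calc (φ^[i] (b : G))⁻¹ * φ^[i] (a : G)
            = (b : G)⁻¹ * ((b : G) * (φ^[i] (b : G))⁻¹) * φ^[i] (a : G) := by group
          _ = (b : G)⁻¹ * ((a : G) * (φ^[i] (a : G))⁻¹) * φ^[i] (a : G) := by rw [hab']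
          _ = _ := by group
      exact Subtype.ext (inv_mul_eq_one.mp (h.iterate_fpf hi hir h1)).symm
    rw [← hB ⟨φ^[i] v, hit i v hv⟩]
    refine Fintype.prod_bijective e he _ _ fun y => Subtype.ext ?_
    show (y : G) * φ^[i] ((y : G)⁻¹ * v * y) * (y : G)⁻¹ =
      (y : G) * (φ^[i] (y : G))⁻¹ * φ^[i] v * ((y : G) * (φ^[i] (y : G))⁻¹)⁻¹
    rw [hmul, hmul, hinv]
    group
  rw [Finset.prod_eq_single 0 (fun i hi hi0 => hDi i (Nat.pos_of_ne_zero hi0)
    (Finset.mem_range.mp hi)) (fun h0 => absurd (Finset.mem_range.mpr h.prime.pos) h0)] at hD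
  have hpow : (⟨v, hv⟩ : V) ^ Nat.card Q = 1 := by
    rw [← hD, Nat.card_eq_fintype_card, ← Finset.card_univ, ← Finset.prod_const]
    refine Finset.prod_congr rfl fun y _ => Subtype.ext ?_
    show v = (y : G) * ((y : G)⁻¹ * v * y) * (y : G)⁻¹
    group
  have h1 : orderOf (⟨v, hv⟩ : V) = 1 := Nat.eq_one_of_dvd_coprimes hcop
    (orderOf_dvd_of_pow_eq_one hpow) (orderOf_dvd_natCard _)
  exact congrArg Subtype.val (orderOf_eq_one_iff.mp h1)

theorem isNilpotent_of_normal_sylows
    (h : ∀ (p : ℕ), p.Prime → ∀ P : Sylow p G, (P : Subgroup G).Normal) : Group.IsNilpotent G :=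
  (List.TFAE.out (Group.isNilpotent_of_finite_tfae (G := G)) 0 3 rfl rfl :
    Group.IsNilpotent G ↔ ∀ (p : ℕ) (_hp : Fact p.Prime) (P : Sylow p G), (P : Subgroup G).Normal).mpr
      fun p hp P => h p hp.out P

theorem fpf_isNilpotent_aux : ∀ (n : ℕ) (G : Type u) [Group G] [Finite G], Nat.card G ≤ n →
    ∀ (φ : G ≃* G) (r : ℕ), Fpf φ r → Group.IsNilpotent G := by
  intro n
  induction n with
  | zero => intro G _ _ hn; exact absurd hn (Nat.card_pos (α := G)).not_ge
  | succ n ih =>
  intro G _ _ hn φ r h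
  have hsub : ∀ H : Subgroup G, H ≠ ⊤ → Inv φ H → Group.IsNilpotent H := by
    intro H hH hinv
    obtain ⟨ψ, hψ⟩ := h.restrict hinv
    refine ih H ?_ ψ r hψ
    have : Nat.card H < Nat.card G := lt_of_le_of_ne (Subgroup.card_le_card_group H)
      fun e => hH (Subgroup.eq_top_of_card_eq H e)
    omega
  have hquot : ∀ (N : Subgroup G) [N.Normal], N ≠ ⊥ → Inv φ N → Group.IsNilpotent (G ⧸ N) := by
    intro N _ hN hinv
    obtain ⟨ψ, hψ⟩ := h.quotient N hinv
    refine ih _ ?_ ψ r hψ
    have : Nat.card (G ⧸ N) < Nat.card G := by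
      rw [← N.card_mul_index, Subgroup.index]
      exact lt_mul_of_one_lt_left Nat.card_pos (N.one_lt_card_iff_ne_bot.mpr hN)
    omega
  rcases subsingleton_or_nontrivial G with hs | hs
  · exact isNilpotent_of_normal_sylows fun p _ P =>
      Subgroup.normalizer_eq_top_iff.mp (Subsingleton.elim _ _)
  by_cases hnormal : ∃ N : Subgroup G, N.Normal ∧ N ≠ ⊥ ∧ N ≠ ⊤ ∧ Inv φ N
  swap
  · -- no invariant normal subgroup
    push Not at hnormal
    have hno : ∀ N : Subgroup G, N.Normal → Inv φ N → N ≠ ⊥ → N = ⊤ := fun N hN hi hb => by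
      by_contra ht
      exact hnormal N hN hb ht hi
    by_cases hZ : Subgroup.center G = ⊥
    swap
    · have htop := hno _ inferInstance (inv_of_characteristic _) hZ
      haveI : Group.IsNilpotent (Subgroup.center G) := inferInstance
      exact Group.nilpotent_of_mulEquiv ((MulEquiv.subgroupCongr htop).trans Subgroup.topEquiv)
    have key : ∀ p, p.Prime → p ≠ 2 → p ∣ Nat.card G → IsPGroup p G := by
      intro p hp hp2 hdvd
      haveI := Fact.mk hp
      obtain ⟨P, hP⟩ := Cfsg.Agent.S0031.result φ h.fpf p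
      by_cases hPtop : (P : Subgroup G) = ⊤
      · exact P.2.of_equiv ((MulEquiv.subgroupCongr hPtop).trans Subgroup.topEquiv)
      have hPne : (P : Subgroup G) ≠ ⊥ := P.ne_bot_of_dvd_card hdvd
      have hinj : Set.InjOn (φ : G →* G) (P : Subgroup G) := φ.injective.injOn
      have hcompl : HasNormalPComplement p G := by
        refine Cfsg.Lib.PLocal.thompson_complement_aux hp2 (Nat.card G) G le_rfl ⟨P, ?_, ?_⟩
        · set X := Cfsg.Lib.PLocal.jF p (P : Subgroup G)
          have hX : X.map (φ : G →* G) = X := by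
            rw [← Cfsg.Lib.PLocal.jF_map _ hinj, hP]
          have hNinv : Inv φ (Subgroup.normalizer (X : Set G)) := inv_of_map_eq (by
            rw [show (φ : G →* G) = φ.toMonoidHom from rfl, Subgroup.map_equiv_normalizer_eq X φ,
              show φ.toMonoidHom = (φ : G →* G) from rfl, hX])
          have hne : Subgroup.normalizer (X : Set G) ≠ ⊤ := fun e =>
            hPtop (top_le_iff.mp ((hno X (Subgroup.normalizer_eq_top_iff.mp e) (inv_of_map_eq hX)
              (Cfsg.Lib.PLocal.jF_ne_bot P.2 hPne)).ge.trans (Cfsg.Lib.PLocal.jF_le _)))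
          haveI := hsub _ hne hNinv
          exact Cfsg.Lib.Solv.hasNormalPComplement_of_nilpotent p
        · set X := Cfsg.Lib.PLocal.zc (P : Subgroup G)
          have hX : X.map (φ : G →* G) = X := by
            rw [← Cfsg.Lib.PLocal.zc_map _ hinj, hP]
          have hCinv : Inv φ (Subgroup.centralizer (X : Set G)) := inv_of_map_eq (by
            rw [show (φ : G →* G) = φ.toMonoidHom from rfl,
              Cfsg.Lib.PLocal.map_centralizer_equiv]
            rw [show φ.toMonoidHom = (φ : G →* G) from rfl, hX])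
          have hne : Subgroup.centralizer (X : Set G) ≠ ⊤ := by
            intro e
            refine Cfsg.Lib.PLocal.zc_ne_bot P.2 hPne (le_bot_iff.mp (le_trans ?_ hZ.le))
            exact fun x hx => Subgroup.centralizer_eq_top_iff_subset.mp e hx
          haveI := hsub _ hne hCinv
          exact Cfsg.Lib.Solv.hasNormalPComplement_of_nilpotent p
      rw [Cfsg.Lib.Transfer.hasNormalPComplement_iff_pResidual] at hcompl
      haveI := Cfsg.Lib.Transfer.pResidual_characteristic (G := G) p
      by_cases hR : pResidual p G = ⊥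
      · obtain ⟨k, hk⟩ := Cfsg.Lib.Transfer.exists_index_pResidual_eq_pow (G := G) (p := p)
        refine IsPGroup.of_card (n := k) ?_
        rw [← hk, hR, Subgroup.index_bot]
      · exfalso
        have htop := hno _ inferInstance (inv_of_characteristic _) hR
        rw [htop, Subgroup.card_top] at hcompl
        exact hp.coprime_iff_not_dvd.mp hcompl.symm hdvd
    by_cases h2 : ∃ p, p.Prime ∧ p ≠ 2 ∧ p ∣ Nat.card G
    · obtain ⟨p, hp, hp2, hdvd⟩ := h2
      haveI := Fact.mk hp
      exact (key p hp hp2 hdvd).isNilpotent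
    · push Not at h2
      haveI := Fact.mk Nat.prime_two
      refine (IsPGroup.of_card (p := 2) (n := (Nat.card G).primeFactorsList.length) ?_).isNilpotent
      exact Nat.eq_prime_pow_of_unique_prime_dvd Nat.card_pos.ne' fun {d} hd hdvd => by
        by_contra hne
        exact h2 d hd hne hdvd
  · -- the solvable case
    obtain ⟨N, hNn, hNb, hNt, hNi⟩ := hnormal
    haveI := hNn
    haveI := hsub N hNt hNi
    -- a nontrivial normal invariant abelian subgroup of prime power order
    obtain ⟨p, hp, hdvd⟩ := Nat.exists_prime_and_dvd (n := Nat.card N)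
      (fun e => hNb (Subgroup.card_eq_one.mp e))
    haveI := Fact.mk hp
    obtain ⟨P₁⟩ : Nonempty (Sylow p N) := inferInstance
    haveI hP₁ : (P₁ : Subgroup N).Characteristic :=
      Sylow.characteristic_of_normal P₁ (Cfsg.Lib.Solv.normal_sylow_of_nilpotent P₁)
    haveI : ((P₁ : Subgroup N).map N.subtype).Normal := ConjAct.normal_of_characteristic_of_normal
    have hO : pCore p G ≠ ⊥ := fun e => P₁.ne_bot_of_dvd_card hdvd
      ((Subgroup.map_eq_bot_iff_of_injective _ N.subtype_injective).mp
        (le_bot_iff.mp (e ▸ Cfsg.Lib.Solv.le_pCore inferInstance (P₁.2.map N.subtype))))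
    have hOp : IsPGroup p (pCore p G) := Cfsg.Lib.Solv.isPGroup_pCore p
    haveI hOc : (pCore p G).Characteristic := by
      refine Subgroup.characteristic_iff_map_le.mpr fun ψ => ?_
      exact Cfsg.Lib.Solv.map_pCore_le p ψ.surjective
    haveI : Nontrivial (pCore p G) := (Subgroup.nontrivial_iff_ne_bot _).mpr hO
    set V := (Subgroup.center (pCore p G)).map (pCore p G).subtype with hVdef
    haveI : V.Characteristic := by
      refine Subgroup.characteristic_iff_map_le.mpr fun ψ => ?_
      rintro _ ⟨_, ⟨z, hz, rfl⟩, rfl⟩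
      have hmem : ψ (z : G) ∈ pCore p G :=
        (Subgroup.characteristic_iff_map_eq.mp hOc ψ).le (Subgroup.mem_map_of_mem _ z.2)
      refine ⟨⟨ψ (z : G), hmem⟩, Subgroup.mem_center_iff.mpr fun w => Subtype.ext ?_, rfl⟩
      obtain ⟨u, hu, hu'⟩ := (Subgroup.characteristic_iff_map_eq.mp hOc ψ).ge w.2
      have hcomm := congrArg Subtype.val (Subgroup.mem_center_iff.mp hz ⟨u, hu⟩)
      simp only [Subgroup.coe_mul] at hcomm ⊢
      rw [← hu']
      exact (map_mul ψ u z).symm.trans ((congrArg ψ hcomm).trans (map_mul ψ _ _))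
    have hVle : V ≤ pCore p G := Subgroup.map_subtype_le _
    haveI hVcomm : IsMulCommutative V := by
      refine ⟨⟨fun a b => Subtype.ext ?_⟩⟩
      obtain ⟨x, hx, hxa⟩ := a.2
      obtain ⟨y, -, hyb⟩ := b.2
      show (a : G) * b = b * a
      rw [← hxa, ← hyb]
      exact (congrArg Subtype.val (Subgroup.mem_center_iff.mp hx y)).symm
    have hV : V ≠ ⊥ := by
      haveI := hOp.center_nontrivial
      rw [hVdef, Ne, Subgroup.map_eq_bot_iff_of_injective _ (pCore p G).subtype_injective]
      exact (Subgroup.nontrivial_iff_ne_bot _).mp inferInstance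
    have hVi : Inv φ V := inv_of_characteristic V
    have hVp : IsPGroup p V := hOp.to_le hVle
    haveI := hquot V hV hVi
    refine isNilpotent_of_normal_sylows fun q hq S => ?_
    haveI := Fact.mk hq
    -- it suffices to treat an invariant Sylow subgroup
    suffices ∃ Q : Sylow q G, (Q : Subgroup G).Normal by
      obtain ⟨Q, hQ⟩ := this
      have := Sylow.unique_of_normal Q hQ
      rw [show S = Q from Subsingleton.elim _ _]
      exact hQ
    obtain ⟨Q, hQ⟩ := Cfsg.Agent.S0031.result φ h.fpf q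
    refine ⟨Q, ?_⟩
    set π := QuotientGroup.mk' V
    haveI hQVn : ((Q : Subgroup G).map π).Normal :=
      Cfsg.Lib.Solv.normal_sylow_of_nilpotent (Q.mapSurjective (QuotientGroup.mk'_surjective V))
    have hsup : ((Q : Subgroup G).map π).comap π = (Q : Subgroup G) ⊔ V := by
      rw [Subgroup.comap_map_eq, QuotientGroup.ker_mk']
    haveI hQV : ((Q : Subgroup G) ⊔ V).Normal := hsup ▸ Subgroup.Normal.comap hQVn π
    by_cases hqp : q = p
    · subst hqp
      have hVQ : V ≤ (Q : Subgroup G) := hVle.trans (Cfsg.Lib.Solv.pCore_le_sylow q Q)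
      rwa [sup_eq_left.mpr hVQ] at hQV
    by_cases htop : (Q : Subgroup G) ⊔ V = ⊤
    swap
    · have hinv : Inv φ ((Q : Subgroup G) ⊔ V) := inv_of_map_eq (by
        rw [Subgroup.map_sup, hQ, hVi.map_eq])
      haveI := hsub _ htop hinv
      haveI hc : ((Q.subtype (le_sup_left : (Q : Subgroup G) ≤ (Q : Subgroup G) ⊔ V)) :
          Subgroup ↥((Q : Subgroup G) ⊔ V)).Characteristic :=
        Sylow.characteristic_of_normal _ (Cfsg.Lib.Solv.normal_sylow_of_nilpotent _)
      have := ConjAct.normal_of_characteristic_of_normal (H := (Q : Subgroup G) ⊔ V)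
        (K := ((Q.subtype le_sup_left : Sylow q ↥((Q : Subgroup G) ⊔ V)) : Subgroup _))
      rwa [Sylow.coe_subtype, Subgroup.map_subgroupOf_eq_of_le le_sup_left] at this
    -- `G = Q V`
    set W := V ⊓ Subgroup.centralizer ((Q : Subgroup G) : Set G) with hW
    have hcopQV : (Nat.card (Q : Subgroup G)).Coprime (Nat.card V) := by
      obtain ⟨a, ha⟩ := IsPGroup.iff_card.mp Q.2
      obtain ⟨b, hb⟩ := IsPGroup.iff_card.mp hVp
      rw [ha, hb]
      exact Nat.Coprime.pow a b ((Nat.coprime_primes hq hp).mpr hqp)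
    have hWne : W ≠ ⊥ := by
      intro hW0
      refine hV (eq_bot_of_no_fixed h hVi (inv_of_map_eq hQ) hcopQV fun w hw hfix => ?_)
      rw [← Subgroup.mem_bot, ← hW0]
      exact ⟨hw, Subgroup.mem_centralizer_iff.mpr fun x hx => mul_inv_eq_iff_eq_mul.mp (hfix x hx)⟩
    have hWcenter : W ≤ Subgroup.center G := by
      intro w hw
      have hle : (Q : Subgroup G) ⊔ V ≤ Subgroup.centralizer ({w} : Set G) := by
        refine sup_le (fun x hx => Subgroup.mem_centralizer_singleton_iff.mpr ?_)
          (fun x hx => Subgroup.mem_centralizer_singleton_iff.mpr ?_)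
        · exact Subgroup.mem_centralizer_iff.mp hw.2 x hx
        · exact congrArg Subtype.val (mul_comm (⟨x, hx⟩ : V) ⟨w, hw.1⟩)
      rw [htop] at hle
      exact Subgroup.mem_center_iff.mpr fun g =>
        Subgroup.mem_centralizer_singleton_iff.mp (hle (Subgroup.mem_top g))
    haveI : W.Normal := ⟨fun x hx g => by rwa [Subgroup.mem_center_iff.mp (hWcenter hx) g, mul_inv_cancel_right]⟩
    have hWi : Inv φ W := fun x hx => ⟨hVi x hx.1, Subgroup.mem_centralizer_iff.mpr fun y hy => by
      obtain ⟨z, hz, hzy⟩ := hQ.ge hy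
      rw [← hzy]
      exact (map_mul φ z x).symm.trans
        ((congrArg φ (Subgroup.mem_centralizer_iff.mp hx.2 z hz)).trans (map_mul φ x z))⟩
    haveI := hquot W hWne hWi
    haveI : Group.IsNilpotent G := Subgroup.isNilpotent_of_ker_le_center (QuotientGroup.mk' W)
      (by rw [QuotientGroup.ker_mk']; exact hWcenter)
    exact Cfsg.Lib.Solv.normal_sylow_of_nilpotent Q

/-- Thompson: a fixed-point-free automorphism of prime order forces nilpotency. -/
theorem fpf_isNilpotent {φ : G ≃* G} {r : ℕ} (h : Fpf φ r) : Group.IsNilpotent G :=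
  fpf_isNilpotent_aux (Nat.card G) G le_rfl φ r h

end Cfsg.Lib.Solv.ThompsonKernel
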