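import Cfsg.Agent.Lib.Solv.Coprime2
import Cfsg.Agent.Lib.Solv.Friendship
import Cfsg.Agent.Lib.Transfer.Frobenius
import Cfsg.Agent.Lib.Transfer.Action
import Cfsg.Agent.S0182

/-!
# Groups with a cyclic Sylow `p`-subgroup all whose `p'`-subgroups are abelian
-/

set_option autoImplicit false

namespace Cfsg.Lib.Solv.CycAb

open Subgroup
open scoped Pointwise commutatorElement

universe u

variable {G : Type u} [Group G] [Finite G] {p : ℕ} [hp : Fact p.Prime]

omit hp in
/-- In a cyclic subgroup, subgroups of the same order are equal. -/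
theorem cyc_eq {P U V : Subgroup G} [IsCyclic P] (hU : U ≤ P) (hV : V ≤ P)
    (hc : Nat.card U = Nat.card V) : U = V := by
  classical
  haveI : Fintype P := Fintype.ofFinite _
  set s := Finset.univ.filter (fun z : P => z ^ Nat.card U = 1) with hs
  have hle : s.card ≤ Nat.card U := IsCyclic.card_pow_eq_one_le Nat.card_pos
  set uU := Finset.univ.filter (fun z : P => (z : G) ∈ U) with huU
  have hUc : uU.card = Nat.card U := by
    rw [huU, ← Fintype.card_subtype, ← Nat.card_eq_fintype_card]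
    exact card_subgroupOf hU
  have hpow : ∀ W : Subgroup G, ∀ z ∈ W, z ^ Nat.card W = 1 := fun W z hz =>
    congrArg Subtype.val (pow_card_eq_one' (x := (⟨z, hz⟩ : W)))
  have heq : uU = s := Finset.eq_of_subset_of_card_le (fun z hz => by
    rw [huU, Finset.mem_filter] at hz
    rw [hs, Finset.mem_filter]
    exact ⟨hz.1, Subtype.ext (hpow U _ hz.2)⟩) (hle.trans hUc.ge)
  refine (eq_of_le_of_card_ge (fun z hz => ?_) hc.le).symm
  have : (⟨z, hV hz⟩ : P) ∈ s := by
    rw [hs, Finset.mem_filter, hc]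
    exact ⟨Finset.mem_univ _, Subtype.ext (hpow V z hz)⟩
  rw [← heq, huU, Finset.mem_filter] at this
  exact this.2

/-- A `p'`-element fixing a nontrivial element of a cyclic `p`-group centralizes it. -/
theorem fix_all {P : Subgroup G} [IsCyclic P] (hP : IsPGroup p P) {x : G}
    (hx : x ∈ normalizer (P : Set G)) (hxo : (orderOf x).Coprime p) {u : G} (hu : u ∈ P) (hu1 : u ≠ 1)
    (hxu : x * u = u * x) : x ∈ centralizer (P : Set G) := by
  haveI : IsMulCommutative P := ⟨⟨fun a b => (IsCyclic.commGroup (α := P)).mul_comm a b⟩⟩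
  obtain ⟨k, hk⟩ := IsPGroup.iff_card.1 hP
  obtain ⟨h1, h2⟩ := coprime_abelian_decomposition (zpowers x) P (zpowers_le.2 hx)
    (by rw [Nat.card_zpowers, hk]; exact hxo.pow_right k)
  set C := P ⊓ centralizer (zpowers x : Set G)
  set D := ⁅P, zpowers x⁆
  by_cases hD : D = ⊥
  · rw [hD, sup_bot_eq] at h2
    rw [mem_centralizer_iff]
    intro z hz
    have hzC : z ∈ C := h2.ge hz
    exact (mem_centralizer_iff.1 hzC.2 x (mem_zpowers x)).symm
  exfalso
  have huC : u ∈ C := ⟨hu, mem_centralizer_iff.2 fun w hw => by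
    obtain ⟨i, rfl⟩ := hw
    exact ((show Commute x u from hxu).zpow_left i).eq⟩
  have hC : C ≠ ⊥ := fun h => hu1 (by rw [h, mem_bot] at huC; exact huC)
  have hDP : D ≤ P := commutator_le_of_normalizes (zpowers_le.2 hx)
  have key : ∀ W : Subgroup G, W ≠ ⊥ → W ≤ P → ∃ w ∈ W, orderOf w = p := by
    intro W hW hWP
    obtain ⟨w, hw⟩ := exists_prime_orderOf_dvd_card' (G := W) p
      ((hP.to_le hWP).card_eq_or_dvd.resolve_left fun h => hW (Subgroup.card_eq_one.1 h))
    exact ⟨w, w.2, by rw [Subgroup.orderOf_coe, hw]⟩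
  obtain ⟨a, ha, hao⟩ := key C hC inf_le_left
  obtain ⟨b, hb, hbo⟩ := key D hD hDP
  have he : zpowers a = zpowers b := cyc_eq (P := P) (zpowers_le.2 (inf_le_left (b := centralizer (zpowers x : Set G)) ha))
    (zpowers_le.2 (hDP hb)) (by rw [Nat.card_zpowers, Nat.card_zpowers, hao, hbo])
  have : b ∈ C ⊓ D := ⟨zpowers_le.2 ha (he ▸ mem_zpowers b), hb⟩
  rw [h1, mem_bot] at this
  rw [this, orderOf_one] at hbo
  exact hp.out.one_lt.ne hbo

/-- A minimal counterexample, with a complement `H` of `P` in its normalizer. -/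
structure Bad (P : Sylow p G) (H : Subgroup G) : Prop where
  cyc : IsCyclic P
  hab : ∀ X : Subgroup G, ¬ p ∣ Nat.card X → IsMulCommutative X
  notNormal : ¬ (P : Subgroup G).Normal
  noP' : ∀ K : Subgroup G, K.Normal → ¬ p ∣ Nat.card K → K = ⊥
  noP : ∀ K : Subgroup G, K.Normal → IsPGroup p K → K = ⊥
  sub : ∀ X : Subgroup G, X ≠ ⊤ →
    (∃ K ≤ X, ¬ p ∣ Nat.card K ∧ (∀ z ∈ X, (orderOf z).Coprime p → z ∈ K) ∧ X ≤ normalizer (K : Set G)) ∨
    (∃ R ≤ X, IsPGroup p R ∧ (∀ z ∈ X, (∃ k, orderOf z = p ^ k) → z ∈ R) ∧ X ≤ normalizer (R : Set G))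
  HN : H ≤ normalizer ((P : Subgroup G) : Set G)
  Hp : ¬ p ∣ Nat.card H
  Hconj : ∀ U ≤ normalizer ((P : Subgroup G) : Set G), ¬ p ∣ Nat.card U →
    ∃ n ∈ (P : Subgroup G), U ≤ MulAut.conj n • H
  moves : ∃ x ∈ H, x ∉ centralizer ((P : Subgroup G) : Set G)
  ti : ∀ P1 ≤ (P : Subgroup G), P1 ≠ ⊥ → normalizer (P1 : Set G) ≤ normalizer ((P : Subgroup G) : Set G)
  odd : p ≠ 2

theorem coprime_of_mem {X : Subgroup G} (hX : ¬ p ∣ Nat.card X) {z : G} (hz : z ∈ X) :
    (orderOf z).Coprime p :=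
  (hp.out.coprime_iff_not_dvd.2 fun h => hX (h.trans (X.orderOf_dvd_natCard hz))).symm

theorem eq_one_of_both {X R : Subgroup G} (hX : ¬ p ∣ Nat.card X) (hR : IsPGroup p R) {z : G}
    (hzX : z ∈ X) (hzR : z ∈ R) : z = 1 := by
  obtain ⟨k, hk⟩ := IsPGroup.iff_orderOf.1 hR ⟨z, hzR⟩
  rw [Subgroup.orderOf_mk] at hk
  exact orderOf_eq_one_iff.1 (Nat.eq_one_of_dvd_coprimes ((coprime_of_mem hX hzX).pow_right k) dvd_rfl hk.dvd)

theorem sup_p' {A B : Subgroup G} (hB : B ≤ normalizer (A : Set G)) (hA : ¬ p ∣ Nat.card A)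
    (hBc : ¬ p ∣ Nat.card B) : ¬ p ∣ Nat.card ↥(A ⊔ B) := by
  intro hd
  obtain ⟨⟨z, hz⟩, hzo⟩ := exists_prime_orderOf_dvd_card' p hd
  rw [Subgroup.orderOf_mk] at hzo
  have hz' : z ∈ ((A ⊔ B : Subgroup G) : Set G) := hz
  rw [coe_mul_of_right_le_normalizer_left A B hB] at hz'
  obtain ⟨a, ha, b, hb, e⟩ := hz'
  have key : ∀ m : ℕ, z ^ m * (b ^ m)⁻¹ ∈ A := by
    intro m
    induction m with
    | zero => simp [A.one_mem]
    | succ m ih =>
      have e2 : z ^ (m + 1) * (b ^ (m + 1))⁻¹ = z ^ m * (b ^ m)⁻¹ * (b ^ m * a * (b ^ m)⁻¹) := by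
        rw [← e, pow_succ, pow_succ]
        show (a * b) ^ m * (a * b) * (b ^ m * b)⁻¹ = (a * b) ^ m * (b ^ m)⁻¹ * (b ^ m * a * (b ^ m)⁻¹)
        group
      rw [e2]
      exact mul_mem ih ((mem_normalizer_iff.1 (hB (pow_mem hb m)) a).1 ha)
  have h1 := key (Nat.card B)
  rw [show b ^ Nat.card B = 1 from congrArg Subtype.val (pow_card_eq_one' (x := (⟨b, hb⟩ : B))), inv_one, mul_one] at h1
  have h2 : z ^ Nat.card B = 1 := by
    refine eq_one_of_both hA (IsPGroup.of_card (p := p) (G := zpowers z) (n := 1) (by rw [Nat.card_zpowers, hzo, pow_one])) h1 ?_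
    exact pow_mem (mem_zpowers z) _
  exact hBc (hzo ▸ orderOf_dvd_of_pow_eq_one h2)

theorem mem_sylow {P : Sylow p G} {z : G} (hz : z ∈ normalizer ((P : Subgroup G) : Set G))
    (hk : ∃ k, orderOf z = p ^ k) : z ∈ (P : Subgroup G) := by
  obtain ⟨k, hk⟩ := hk
  have h2 : IsPGroup p ↥((P : Subgroup G) ⊔ zpowers z) :=
    P.isPGroup'.to_sup_of_normal_left' (IsPGroup.of_card (n := k) (by rw [Nat.card_zpowers, hk])) (zpowers_le.2 hz)
  exact P.3 h2 le_sup_left ▸ mem_sup_right (mem_zpowers z)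

theorem order_pow_of_mem {R : Subgroup G} (hR : IsPGroup p R) {z : G} (hz : z ∈ R) : ∃ k, orderOf z = p ^ k := by
  obtain ⟨k, hk⟩ := IsPGroup.iff_orderOf.1 hR ⟨z, hz⟩
  exact ⟨k, by rwa [Subgroup.orderOf_mk] at hk⟩

theorem exists_conj_mem (P : Sylow p G) {u : G} (hu : ∃ k, orderOf u = p ^ k) :
    ∃ g : G, g * u * g⁻¹ ∈ (P : Subgroup G) := by
  obtain ⟨k, hk⟩ := hu
  obtain ⟨P2, hP2⟩ := (IsPGroup.of_card (p := p) (G := zpowers u) (n := k) (by rw [Nat.card_zpowers, hk])).exists_le_sylow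
  obtain ⟨g, hg⟩ := MulAction.exists_smul_eq G P2 P
  refine ⟨g, ?_⟩
  rw [← hg, Sylow.coe_subgroup_smul, mem_pointwise_smul_iff_inv_smul_mem]
  simpa [mul_assoc] using hP2 (mem_zpowers u)

namespace Bad

variable {P : Sylow p G} {H : Subgroup G}

theorem x_notC (h : Bad P H) {x : G} (hxH : x ∈ H) (hxC : x ∉ centralizer ((P : Subgroup G) : Set G))
    {u : G} (hu : u ∈ (P : Subgroup G)) (hxu : x * u = u * x) : u = 1 := by
  haveI := h.cyc
  by_contra hu1
  exact hxC (fix_all P.isPGroup' (h.HN hxH) (coprime_of_mem h.Hp hxH) hu hu1 hxu)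

theorem commutator_disj (h : Bad P H) {v : G} (hv : v ∈ (P : Subgroup G)) (hvH : v ∈ normalizer (H : Set G))
    {z : G} (hz : z ∈ H) : z * v = v * z := by
  have h1 : v * z * v⁻¹ * z⁻¹ ∈ H := mul_mem ((mem_normalizer_iff.1 hvH z).1 hz) (inv_mem hz)
  have h2 : v * z * v⁻¹ * z⁻¹ ∈ (P : Subgroup G) := by
    have : z * v⁻¹ * z⁻¹ ∈ (P : Subgroup G) := (mem_normalizer_iff.1 (h.HN hz) v⁻¹).1 (inv_mem hv)
    simpa [mul_assoc] using mul_mem hv this
  have h3 := eq_one_of_both h.Hp P.isPGroup' h1 h2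
  rw [mul_inv_eq_one, mul_inv_eq_iff_eq_mul] at h3
  exact h3.symm

/-- `v` of `p`-power order normalizing `H` and `N(P)` is trivial. -/
theorem eq_one_of_norm (h : Bad P H) {v : G} (hv : v ∈ (P : Subgroup G)) (hvH : v ∈ normalizer (H : Set G)) : v = 1 := by
  obtain ⟨x, hxH, hxC⟩ := h.moves
  exact h.x_notC hxH hxC hv (h.commutator_disj hv hvH hxH)

theorem center_free (h : Bad P H) {a : G} (ha : a ≠ 1) : centralizer ({a} : Set G) ≠ ⊤ := by
  intro htop
  have hn : (zpowers a).Normal := ⟨fun z hz g => by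
    obtain ⟨i, rfl⟩ := hz
    have : Commute g a := mem_centralizer_singleton_iff.1 (htop ▸ mem_top g)
    rw [(this.zpow_right i).eq, mul_inv_cancel_right]
    exact zpow_mem (mem_zpowers a) i⟩
  obtain ⟨r, hr, hrd⟩ := Nat.exists_prime_and_dvd (fun e => ha (orderOf_eq_one_iff.1 e) : orderOf a ≠ 1)
  set b := a ^ (orderOf a / r) with hb
  have hbo : orderOf b = r := by
    rw [hb, orderOf_pow_of_dvd (Nat.div_pos (Nat.le_of_dvd (orderOf_pos a) hrd) hr.pos).ne' (Nat.div_dvd_of_dvd hrd),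
      Nat.div_div_self hrd (orderOf_pos a).ne']
  have hbn : (zpowers b).Normal := ⟨fun z hz g => by
    obtain ⟨i, rfl⟩ := hz
    have hga : Commute g a := mem_centralizer_singleton_iff.1 (htop ▸ mem_top g)
    rw [(((hga.pow_right (orderOf a / r))).zpow_right i).eq, mul_inv_cancel_right]
    exact zpow_mem (mem_zpowers b) i⟩
  have hb1 : zpowers b ≠ ⊥ := fun e => hr.ne_one (by rw [← hbo, ← Nat.card_zpowers, e, Subgroup.card_bot])
  by_cases hrp : r = p
  · exact hb1 (h.noP _ hbn (IsPGroup.of_card (n := 1) (by rw [Nat.card_zpowers, hbo, hrp, pow_one])))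
  · exact hb1 (h.noP' _ hbn (by rw [Nat.card_zpowers, hbo]; exact fun hd => hrp ((Nat.prime_dvd_prime_iff_eq hp.out hr).1 hd).symm))

theorem commute_H (h : Bad P H) {a b : G} (ha : a ∈ H) (hb : b ∈ H) : a * b = b * a :=
  congrArg Subtype.val ((h.hab H h.Hp).is_comm.comm ⟨a, ha⟩ ⟨b, hb⟩)

theorem cent_le (h : Bad P H) {a : G} (ha : a ∈ H) (haP : a ∈ centralizer ((P : Subgroup G) : Set G)) (ha1 : a ≠ 1) :
    centralizer ({a} : Set G) ≤ normalizer ((P : Subgroup G) : Set G) := by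
  obtain ⟨x, hxH, hxC⟩ := h.moves
  have hPC : (P : Subgroup G) ≤ centralizer ({a} : Set G) := fun u hu =>
    mem_centralizer_singleton_iff.2 (mem_centralizer_iff.1 haP u hu)
  rcases h.sub _ (h.center_free ha1) with ⟨K, -, hK, hKm, hKn⟩ | ⟨R, -, hR, hRm, hRn⟩
  · exfalso
    have hxK : x ∈ K := hKm x (mem_centralizer_singleton_iff.2 (h.commute_H hxH ha)) (coprime_of_mem h.Hp hxH)
    have hPne : (P : Subgroup G) ≠ ⊥ := fun e => h.notNormal (e ▸ inferInstance)
    obtain ⟨u, hu, hu1⟩ : ∃ u ∈ (P : Subgroup G), u ≠ 1 := by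
      by_contra hno
      push Not at hno
      exact hPne ((eq_bot_iff_forall _).2 hno)
    refine hu1 (h.x_notC hxH hxC hu ?_)
    have h1 : u * x * u⁻¹ * x⁻¹ ∈ K := mul_mem ((mem_normalizer_iff.1 (hKn (hPC hu)) x).1 hxK) (inv_mem hxK)
    have h2 : u * x * u⁻¹ * x⁻¹ ∈ (P : Subgroup G) := by
      have : x * u⁻¹ * x⁻¹ ∈ (P : Subgroup G) := (mem_normalizer_iff.1 (h.HN hxH) u⁻¹).1 (inv_mem hu)
      simpa [mul_assoc] using mul_mem hu this
    have h3 := eq_one_of_both hK P.isPGroup' h1 h2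
    rw [mul_inv_eq_one, mul_inv_eq_iff_eq_mul] at h3
    exact h3.symm
  · have hPR : (P : Subgroup G) ≤ R := fun u hu => hRm u (hPC hu) (order_pow_of_mem P.isPGroup' hu)
    exact (P.3 hR hPR) ▸ hRn

theorem mem_H_of_cent (h : Bad P H) {a : G} (haP : a ∈ centralizer ((P : Subgroup G) : Set G))
    (hao : (orderOf a).Coprime p) : a ∈ H := by
  obtain ⟨n, hn, hle⟩ := h.Hconj (zpowers a) (zpowers_le.2 (centralizer_le_normalizer _ haP))
    (by rw [Nat.card_zpowers]; exact hp.out.coprime_iff_not_dvd.1 hao.symm)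
  have h1 : n⁻¹ * a * n ∈ H := mem_conj_smul.1 (hle (mem_zpowers a))
  rwa [mul_assoc, ← mem_centralizer_iff.1 haP n hn, inv_mul_cancel_left] at h1

/-- A prime `q` with abelian Sylow subgroup `Q` in `H` has a `p`-element moving `Q`. -/
theorem exists_mover (h : Bad P H) {q : ℕ} [Fact q.Prime] (hqp : q ≠ p) (hq : q ∣ Nat.card G) (Q : Sylow q G) :
    ∃ v ∈ normalizer ((Q : Subgroup G) : Set G), (∃ k, orderOf v = p ^ k) ∧ v ∉ centralizer ((Q : Subgroup G) : Set G) := by
  by_contra hno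
  push Not at hno
  have hQp : ∀ R : Subgroup G, IsPGroup q R → ¬ p ∣ Nat.card R := fun R hR hd => by
    obtain ⟨k, hk⟩ := IsPGroup.iff_card.1 hR
    exact hqp ((Nat.prime_dvd_prime_iff_eq hp.out Fact.out).1 (hp.out.dvd_of_dvd_pow (hk ▸ hd))).symm
  have hle : normalizer ((Q : Subgroup G) : Set G) ≤ centralizer ((Q : Subgroup G) : Set G) := by
    intro z hz
    refine Cfsg.Lib.Transfer.mem_centralizer_of_prime_parts fun r hr w hw hwo => ?_
    have hwN : w ∈ normalizer ((Q : Subgroup G) : Set G) := zpowers_le.2 hz hw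
    by_cases hrp : r = p
    · exact hno w hwN (hrp ▸ hwo)
    · haveI := Fact.mk hr
      obtain ⟨j, hj⟩ := hwo
      have hU : ¬ p ∣ Nat.card ↥((Q : Subgroup G) ⊔ zpowers w) := by
        refine sup_p' (zpowers_le.2 hwN) (hQp _ Q.isPGroup') fun hd => ?_
        rw [Nat.card_zpowers, hj] at hd
        exact hrp ((Nat.prime_dvd_prime_iff_eq hp.out hr).1 (hp.out.dvd_of_dvd_pow hd)).symm
      rw [mem_centralizer_iff]
      intro y hy
      exact congrArg Subtype.val ((h.hab _ hU).is_comm.comm ⟨y, mem_sup_left hy⟩ ⟨w, mem_sup_right (mem_zpowers w)⟩)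
  obtain ⟨Q', N, hN, hc⟩ := Cfsg.Lib.Transfer.hasNormalPComplement_of_normalizer_le_centralizer Q hle
  obtain ⟨hNc, k, hk⟩ := Cfsg.Lib.Transfer.coprime_card_of_isComplement' hc
  have hNtop : N ≠ ⊤ := by
    intro e
    rw [e, Subgroup.card_top] at hNc
    exact (Fact.out : q.Prime).ne_one (Nat.eq_one_of_dvd_coprimes hNc hq dvd_rfl)
  have hPN : (P : Subgroup G) ≤ N := by
    intro u hu
    rw [← QuotientGroup.eq_one_iff, ← orderOf_eq_one_iff]
    obtain ⟨j, hj⟩ := order_pow_of_mem P.isPGroup' hu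
    refine Nat.eq_one_of_dvd_coprimes (((Nat.coprime_primes hp.out (Fact.out : q.Prime)).2 fun e => hqp e.symm).pow j k)
      (hj ▸ orderOf_map_dvd (QuotientGroup.mk' N) u) ?_
    rw [← hk, index_eq_card]
    exact orderOf_dvd_natCard _
  rcases h.sub N hNtop with ⟨K, hKle, hK, hKm, hKn⟩ | ⟨R, hRle, hR, hRm, hRn⟩
  · have hKnorm : K.Normal := ⟨fun z hz g => hKm _ (hN.conj_mem z (hKle hz) g) (by
      rw [show g * z * g⁻¹ = MulAut.conj g z from rfl, MulEquiv.orderOf_eq]; exact coprime_of_mem hK hz)⟩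
    have hK0 := h.noP' K hKnorm hK
    obtain ⟨x, hxH, hxC⟩ := h.moves
    have hNp : IsPGroup p N := by
      rw [IsPGroup.iff_orderOf]
      intro z
      obtain ⟨a, b, hb, hab⟩ := Nat.exists_eq_pow_mul_and_not_dvd (orderOf_pos (z : G)).ne' p hp.out.ne_one
      have h1 : orderOf ((z : G) ^ p ^ a) = b := by
        rw [orderOf_pow_of_dvd (pow_pos hp.out.pos a).ne' ⟨b, hab⟩, hab, Nat.mul_div_cancel_left _ (pow_pos hp.out.pos a)]
      have h2 := hKm _ (pow_mem z.2 _) (h1 ▸ (hp.out.coprime_iff_not_dvd.2 hb).symm)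
      rw [hK0, mem_bot] at h2
      obtain ⟨c, -, hc'⟩ := (Nat.dvd_prime_pow hp.out).1 (orderOf_dvd_of_pow_eq_one h2)
      exact ⟨c, by rw [← Subgroup.orderOf_coe, hc']⟩
    exact h.notNormal ((P.3 hNp hPN) ▸ hN)
  · have hRP : R = (P : Subgroup G) := P.3 hR fun u hu => hRm u (hPN hu) (order_pow_of_mem P.isPGroup' hu)
    refine h.notNormal (hRP ▸ ⟨fun z hz g => hRm _ (hN.conj_mem z (hRle hz) g) ?_⟩)
    obtain ⟨j, hj⟩ := order_pow_of_mem hR hz
    exact ⟨j, by rw [show g * z * g⁻¹ = MulAut.conj g z from rfl, MulEquiv.orderOf_eq, hj]⟩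

/-- A `p`-element normalizing `N(P)` lies in `P`. -/
theorem mem_of_norm_cent (h : Bad P H) {a w : G} (ha : a ∈ H) (haP : a ∈ centralizer ((P : Subgroup G) : Set G))
    (ha1 : a ≠ 1) (hw : ∃ k, orderOf w = p ^ k) (hb : w * a * w⁻¹ ∈ H)
    (hbP : w * a * w⁻¹ ∈ centralizer ((P : Subgroup G) : Set G)) : w ∈ (P : Subgroup G) := by
  refine mem_sylow ?_ hw
  have hb1 : w * a * w⁻¹ ≠ 1 := fun e => ha1 (by
    have := congrArg (fun z => w⁻¹ * z * w) e
    simpa [mul_assoc] using this)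
  have hle : (P : Subgroup G).map (MulAut.conj w).toMonoidHom ≤ (P : Subgroup G) := by
    rintro _ ⟨u, hu, rfl⟩
    obtain ⟨k, hk⟩ := order_pow_of_mem P.isPGroup' hu
    refine mem_sylow (h.cent_le hb hbP hb1 ?_) ⟨k, by rw [← hk]; exact MulEquiv.orderOf_eq (MulAut.conj w) u⟩
    rw [mem_centralizer_singleton_iff]
    show MulAut.conj w u * MulAut.conj w a = MulAut.conj w a * MulAut.conj w u
    rw [← map_mul, ← map_mul, mem_centralizer_iff.1 haP u hu]
  rw [← conj_smul_eq_self_iff]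
  exact eq_of_le_of_card_ge hle (card_map_of_injective (MulAut.conj w).injective).ge

/-- The local structure when a prime element of `H` centralizes `P`. -/
theorem four (h : Bad P H) {y : G} (hyH : y ∈ H) (hyP : y ∈ centralizer ((P : Subgroup G) : Set G))
    {q : ℕ} (hq : q.Prime) (hyo : orderOf y = q) :
    q = 2 ∧ (∀ a ∈ H, a ^ 2 = 1 → a ∈ centralizer ((P : Subgroup G) : Set G) → a = 1 ∨ a = y) ∧
    (∀ s : G, orderOf s = 2 → ∃ g, g * y * g⁻¹ = s) ∧
    Nat.card {a : G // a ∈ H ∧ a ^ 2 = 1 ∧ a ∉ centralizer ((P : Subgroup G) : Set G)} = 2 := by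
  classical
  haveI := Fact.mk hq
  haveI : Fintype G := Fintype.ofFinite G
  set C := centralizer ((P : Subgroup G) : Set G) with hC
  have hy1 : y ≠ 1 := fun e => hq.ne_one (by rw [← hyo, e, orderOf_one])
  have hqH : q ∣ Nat.card H := hyo ▸ H.orderOf_dvd_natCard hyH
  have hqp : q ≠ p := fun e => h.Hp (e ▸ hqH)
  -- a Sylow q-subgroup inside H
  obtain ⟨Q, hQ⟩ := (IsPGroup.of_card (p := q) (G := zpowers y) (n := 1) (by rw [Nat.card_zpowers, hyo, pow_one])).exists_le_sylow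
  have hQp : ¬ p ∣ Nat.card ↥(Q : Subgroup G) := fun hd => by
    obtain ⟨k, hk⟩ := IsPGroup.iff_card.1 Q.isPGroup'
    exact hqp ((Nat.prime_dvd_prime_iff_eq hp.out hq).1 (hp.out.dvd_of_dvd_pow (hk ▸ hd))).symm
  have hQN : (Q : Subgroup G) ≤ normalizer ((P : Subgroup G) : Set G) := fun z hz => h.cent_le hyH hyP hy1
    (mem_centralizer_singleton_iff.2 (congrArg Subtype.val ((h.hab _ hQp).is_comm.comm ⟨z, hz⟩ ⟨y, hQ (mem_zpowers y)⟩)))
  obtain ⟨n, hn, hQn⟩ := h.Hconj _ hQN hQp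
  set Q1 : Sylow q G := n⁻¹ • Q with hQ1
  have hQ1H : (Q1 : Subgroup G) ≤ H := by
    rw [hQ1, Sylow.coe_subgroup_smul]
    intro z hz
    rw [mem_conj_smul, inv_inv] at hz
    have := hQn hz
    rw [mem_conj_smul] at this
    simpa [mul_assoc] using this
  have hyQ1 : y ∈ (Q1 : Subgroup G) := by
    rw [hQ1, Sylow.coe_subgroup_smul, mem_conj_smul, inv_inv, mem_centralizer_iff.1 hyP n hn, mul_inv_cancel_right]
    exact hQ (mem_zpowers y)
  obtain ⟨v, hvN, hv, hvC⟩ := h.exists_mover hqp (hqH.trans (card_subgroup_dvd_card H)) Q1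
  have hQ1p : ¬ p ∣ Nat.card ↥(Q1 : Subgroup G) := fun hd => h.Hp (hd.trans (card_dvd_of_le hQ1H))
  have hQ1ne : (Q1 : Subgroup G) ≠ ⊥ := fun e => hy1 (by
    have := hyQ1
    rwa [e, mem_bot] at this)
  have hNtop : normalizer ((Q1 : Subgroup G) : Set G) ≠ ⊤ := fun e =>
    hQ1ne (h.noP' _ (normalizer_eq_top_iff.1 e) hQ1p)
  have hHN : H ≤ normalizer ((Q1 : Subgroup G) : Set G) := fun z hz => centralizer_le_normalizer _
    (mem_centralizer_iff.2 fun w hw => h.commute_H (hQ1H hw) hz)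
  have hvH : v ∈ normalizer (H : Set G) := by
    rcases h.sub _ hNtop with ⟨K, hKle, hK, hKm, hKn⟩ | ⟨R, hRle, hR, hRm, hRn⟩
    · have hHK : H ≤ K := fun z hz => hKm z (hHN hz) (coprime_of_mem h.Hp hz)
      have hKN : K ≤ normalizer ((P : Subgroup G) : Set G) := fun z hz => h.cent_le hyH hyP hy1
        (mem_centralizer_singleton_iff.2 (congrArg Subtype.val ((h.hab _ hK).is_comm.comm ⟨z, hz⟩ ⟨y, hHK hyH⟩)))
      obtain ⟨n', -, hle⟩ := h.Hconj K hKN hK
      have : H = K := eq_of_le_of_card_ge hHK ((card_le_of_le hle).trans (card_conj_smul n' H).le)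
      exact this ▸ hKn hvN
    · exfalso
      refine hvC ?_
      rw [mem_centralizer_iff]
      intro z hz
      have hvR : v ∈ R := hRm v hvN hv
      have hzN : z ∈ normalizer ((Q1 : Subgroup G) : Set G) := le_normalizer hz
      have h1 : z * v * z⁻¹ * v⁻¹ ∈ R := mul_mem ((mem_normalizer_iff.1 (hRn hzN) v).1 hvR) (inv_mem hvR)
      have h2 : z * v * z⁻¹ * v⁻¹ ∈ (Q1 : Subgroup G) := by
        have : v * z⁻¹ * v⁻¹ ∈ (Q1 : Subgroup G) := (mem_normalizer_iff.1 hvN z⁻¹).1 (inv_mem hz)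
        simpa [mul_assoc] using mul_mem hz this
      have h3 := eq_one_of_both hQ1p hR h2 h1
      rw [mul_inv_eq_one, mul_inv_eq_iff_eq_mul] at h3
      exact h3
  have hv1 : v ≠ 1 := fun e => hvC (e ▸ one_mem _)
  have hconjH : ∀ i : ℕ, ∀ z ∈ H, v ^ i * z * (v ^ i)⁻¹ ∈ H := fun i z hz =>
    (mem_normalizer_iff.1 (pow_mem hvH i) z).1 hz
  have hdisj : ∀ i : ℕ, ∀ a ∈ H, a ∈ C → a ≠ 1 → v ^ i * a * (v ^ i)⁻¹ ∈ C → v ^ i = 1 := by
    intro i a ha haP ha1 haC
    have hw : ∃ k, orderOf (v ^ i) = p ^ k := by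
      obtain ⟨k, hk⟩ := hv
      obtain ⟨j, -, hj⟩ := (Nat.dvd_prime_pow hp.out).1 (hk ▸ orderOf_pow_dvd (x := v) i)
      exact ⟨j, hj⟩
    exact h.eq_one_of_norm (h.mem_of_norm_cent ha haP ha1 hw (hconjH i a ha) haC) (pow_mem hvH i)
  -- the characteristic elements of order dividing q
  obtain ⟨z, hzP, hzo⟩ : ∃ z ∈ (P : Subgroup G), orderOf z = p := by
    have hd : p ∣ Nat.card ↥(P : Subgroup G) :=
      P.isPGroup'.card_eq_or_dvd.resolve_left fun e => h.notNormal (by rw [Subgroup.card_eq_one.1 e]; infer_instance)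
    obtain ⟨z, hz⟩ := exists_prime_orderOf_dvd_card' (G := (P : Subgroup G)) p hd
    exact ⟨z, z.2, by rw [Subgroup.orderOf_coe, hz]⟩
  have hz1 : z ≠ 1 := fun e => hp.out.ne_one (by rw [← hzo, e, orderOf_one])
  have hex : ∀ a : H, ∃ k : ℕ, (a : G) * z * (a : G)⁻¹ = z ^ k := by
    intro a
    haveI := h.cyc
    have hm : (a : G) * z * (a : G)⁻¹ ∈ (P : Subgroup G) := (mem_normalizer_iff.1 (h.HN a.2) z).1 hzP
    have ho : orderOf ((a : G) * z * (a : G)⁻¹) = p := by rw [← hzo]; exact MulEquiv.orderOf_eq (MulAut.conj (a : G)) z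
    have he : zpowers ((a : G) * z * (a : G)⁻¹) = zpowers z := cyc_eq (P := (P : Subgroup G)) (zpowers_le.2 hm) (zpowers_le.2 hzP)
      (by rw [Nat.card_zpowers, Nat.card_zpowers, ho, hzo])
    obtain ⟨k, hk⟩ : (a : G) * z * (a : G)⁻¹ ∈ Submonoid.powers z :=
      mem_powers_iff_mem_zpowers.2 (he ▸ mem_zpowers _)
    exact ⟨k, hk.symm⟩
  choose k hk using hex
  let χ : H →* ZMod p :=
    { toFun := fun a => (k a : ZMod p)
      map_one' := by
        rw [← Nat.cast_one, ZMod.natCast_eq_natCast_iff]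
        have := hk 1
        rw [OneMemClass.coe_one, one_mul, inv_one, mul_one] at this
        rw [← hzo]
        exact pow_eq_pow_iff_modEq.1 (by rw [pow_one, ← this])
      map_mul' := fun a b => by
        rw [← Nat.cast_mul, ZMod.natCast_eq_natCast_iff]
        rw [← hzo]
        refine pow_eq_pow_iff_modEq.1 ?_
        rw [← hk (a * b), mul_comm, pow_mul]
        calc ((a * b : H) : G) * z * ((a * b : H) : G)⁻¹ = (a : G) * ((b : G) * z * (b : G)⁻¹) * (a : G)⁻¹ := by
              rw [Subgroup.coe_mul]; group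
          _ = (a : G) * z ^ k b * (a : G)⁻¹ := by rw [hk b]
          _ = ((a : G) * z * (a : G)⁻¹) ^ k b := (conj_pow).symm
          _ = (z ^ k a) ^ k b := by rw [hk a]
          _ = (z ^ k b) ^ k a := by rw [← pow_mul, mul_comm, pow_mul] }
  have hker : ∀ a : H, χ a = 1 → (a : G) ∈ C := by
    intro a ha
    haveI := h.cyc
    refine fix_all P.isPGroup' (h.HN a.2) (coprime_of_mem h.Hp a.2) hzP hz1 ?_
    have h1 : z ^ k a = z := by
      conv_rhs => rw [← pow_one z]
      rw [pow_eq_pow_iff_modEq, hzo, ← ZMod.natCast_eq_natCast_iff, Nat.cast_one]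
      exact ha
    have := hk a
    rw [h1, mul_inv_eq_iff_eq_mul] at this
    exact this
  set T := Finset.univ.filter (fun a : H => a ^ q = 1) with hT
  set T0 := T.filter (fun a : H => (a : G) ∈ C) with hT0
  set Rts := (Polynomial.nthRoots q (1 : ZMod p)).toFinset with hRts
  have hRc : Rts.card ≤ q := le_trans (Multiset.toFinset_card_le _) (Polynomial.card_nthRoots q 1)
  have hχT : ∀ a ∈ T, χ a ∈ Rts := by
    intro a ha
    rw [hT, Finset.mem_filter] at ha
    rw [hRts, Multiset.mem_toFinset, Polynomial.mem_nthRoots hq.pos, ← map_pow, ha.2, map_one]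
  -- the conjugation
  have hcv : ∀ i : ℕ, ∀ a ∈ T, (⟨v ^ i * a * (v ^ i)⁻¹, hconjH i a a.2⟩ : H) ∈ T := by
    intro i a ha
    rw [hT, Finset.mem_filter] at ha ⊢
    refine ⟨Finset.mem_univ _, Subtype.ext ?_⟩
    rw [SubmonoidClass.coe_pow, conj_pow, ← SubmonoidClass.coe_pow, ha.2]
    simp
  have hT0c : T0.card ≤ q := by
    refine le_trans (Finset.card_le_card_of_injOn (fun a => χ ⟨v ^ 1 * a * (v ^ 1)⁻¹, hconjH 1 a a.2⟩) ?_ ?_) hRc
    · intro a ha
      exact hχT _ (hcv 1 a (Finset.mem_filter.1 ha).1)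
    · intro a ha b hb hab
      obtain ⟨haT, haC⟩ := Finset.mem_filter.1 ha
      obtain ⟨hbT, hbC⟩ := Finset.mem_filter.1 hb
      by_contra hne
      have h1 : χ ⟨v ^ 1 * (a * b⁻¹ : H) * (v ^ 1)⁻¹, hconjH 1 _ (a * b⁻¹).2⟩ = 1 := by
        have e : (⟨v ^ 1 * (a * b⁻¹ : H) * (v ^ 1)⁻¹, hconjH 1 _ (a * b⁻¹).2⟩ : H) =
            ⟨v ^ 1 * a * (v ^ 1)⁻¹, hconjH 1 a a.2⟩ * (⟨v ^ 1 * b * (v ^ 1)⁻¹, hconjH 1 b b.2⟩)⁻¹ :=
          Subtype.ext (by simp [mul_assoc])
        rw [e, map_mul]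
        have hh : ∀ c : H, χ c * χ c⁻¹ = 1 := fun c => by rw [← map_mul, mul_inv_cancel, map_one]
        exact (congrArg (· * _) hab).trans (hh _)
      have h2 := hdisj 1 ((a : G) * (b : G)⁻¹) (mul_mem a.2 (inv_mem b.2)) (mul_mem haC (inv_mem hbC))
        (fun e => hne (Subtype.ext (mul_inv_eq_one.1 e))) (hker _ h1)
      rw [pow_one] at h2
      exact hv1 h2
  have hTc : T.card ≤ q * T0.card := by
    have h1 : ∀ c ∈ T.image χ, (T.filter fun a => χ a = c).card ≤ T0.card := by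
      intro c hc
      obtain ⟨a0, ha0, rfl⟩ := Finset.mem_image.1 hc
      refine Finset.card_le_card_of_injOn (fun a => a * a0⁻¹) ?_ ?_
      · intro a ha
        obtain ⟨haT, hae⟩ := Finset.mem_filter.1 ha
        rw [hT, Finset.mem_filter] at haT ha0
        refine Finset.mem_filter.2 ⟨?_, hker _ ?_⟩
        · rw [hT, Finset.mem_filter]
          refine ⟨Finset.mem_univ _, ?_⟩
          rw [(show Commute a a0⁻¹ from Subtype.ext (h.commute_H a.2 (a0⁻¹ : H).2)).mul_pow, haT.2, inv_pow, ha0.2, inv_one, mul_one]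
        · rw [map_mul, hae, ← map_mul, mul_inv_cancel, map_one]
      · intro a _ b _ hab
        exact mul_right_cancel hab
    refine (Finset.card_le_mul_card_image T T0.card h1).trans ?_
    rw [mul_comm]
    exact Nat.mul_le_mul_right _ ((Finset.card_le_card (Finset.image_subset_iff.2 hχT)).trans hRc)
  -- the orbit of the powers of y
  set O := (Finset.range p ×ˢ Finset.Ico 1 q).image
    (fun ij : ℕ × ℕ => (⟨v ^ ij.1 * ((⟨y, hyH⟩ : H) ^ ij.2 : H) * (v ^ ij.1)⁻¹, hconjH ij.1 _ ((⟨y, hyH⟩ : H) ^ ij.2).2⟩ : H)) with hO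
  have hvp : ∀ i, i < p → v ^ i = 1 → i = 0 := by
    intro i hi hvi
    by_contra hne
    obtain ⟨e, he⟩ := hv
    rcases e with _ | e
    · exact hv1 (orderOf_eq_one_iff.1 (by rw [he, pow_zero]))
    · have hd : p ∣ i := (dvd_pow_self p (Nat.succ_ne_zero e)).trans (he ▸ orderOf_dvd_of_pow_eq_one hvi)
      exact absurd (Nat.le_of_dvd (Nat.pos_of_ne_zero hne) hd) (by omega)
  have hyj : ∀ j, 1 ≤ j → j < q → y ^ j ≠ 1 := by
    intro j h1 h2 he
    have := Nat.le_of_dvd (by omega) (orderOf_dvd_of_pow_eq_one he)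
    omega
  have hOc : O.card = p * (q - 1) := by
    rw [hO, Finset.card_image_of_injOn, Finset.card_product, Finset.card_range, Nat.card_Ico]
    have main : ∀ i i' j j' : ℕ, i' ≤ i → i < p → 1 ≤ j → j < q →
        v ^ i * y ^ j * (v ^ i)⁻¹ = v ^ i' * y ^ j' * (v ^ i')⁻¹ → i = i' := by
      intro i i' j j' hle hi hj1 hj2 he
      obtain ⟨d, rfl⟩ := Nat.exists_eq_add_of_le hle
      have h2 : v ^ d * y ^ j * (v ^ d)⁻¹ = y ^ j' := by
        rw [pow_add] at he
        have := congrArg (fun w => (v ^ i')⁻¹ * w * v ^ i') he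
        simpa [mul_assoc] using this
      have h3 := hdisj d (y ^ j) (pow_mem hyH j) (pow_mem hyP j) (hyj j hj1 hj2) (h2 ▸ pow_mem hyP j')
      have := hvp d (by omega) h3
      omega
    rintro ⟨i, j⟩ hij ⟨i', j'⟩ hij' he
    simp only [Finset.coe_product, Set.mem_prod, Finset.mem_coe, Finset.mem_range, Finset.mem_Ico] at hij hij'
    have he' : v ^ i * y ^ j * (v ^ i)⁻¹ = v ^ i' * y ^ j' * (v ^ i')⁻¹ := by
      have := congrArg Subtype.val he
      simpa using this
    have hii : i = i' := by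
      rcases le_total i' i with hl | hl
      · exact main i i' j j' hl hij.1 hij.2.1 hij.2.2 he'
      · exact (main i' i j' j hl hij'.1 hij'.2.1 hij'.2.2 he'.symm).symm
    subst hii
    have h4 : y ^ j = y ^ j' := mul_left_cancel (mul_right_cancel he')
    have : j = j' := by
      rw [pow_eq_pow_iff_modEq, hyo] at h4
      exact Nat.ModEq.eq_of_lt_of_lt h4 hij.2.2 hij'.2.2
    rw [this]
  have hOT : O ⊆ T.erase 1 := by
    intro a ha
    obtain ⟨⟨i, j⟩, hij, rfl⟩ := Finset.mem_image.1 ha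
    rw [Finset.mem_product, Finset.mem_range, Finset.mem_Ico] at hij
    refine Finset.mem_erase.2 ⟨fun e => hyj j hij.2.1 hij.2.2 ?_, hcv i _ ?_⟩
    · have := congrArg (fun w : H => (v ^ i)⁻¹ * (w : G) * v ^ i) e
      simpa [mul_assoc] using this
    · rw [hT, Finset.mem_filter]
      refine ⟨Finset.mem_univ _, ?_⟩
      rw [← pow_mul, mul_comm, pow_mul, show (⟨y, hyH⟩ : H) ^ q = 1 from Subtype.ext (by rw [SubmonoidClass.coe_pow, ← hyo, pow_orderOf_eq_one]; rfl), one_pow]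
  have hOcard := Finset.card_le_card hOT
  have h1T : (1 : H) ∈ T := by rw [hT, Finset.mem_filter]; simp
  rw [hOc, Finset.card_erase_of_mem h1T] at hOcard
  -- q divides p - 1
  have hqd : q ∣ p - 1 := by
    have hT2 := hcv 1 (⟨y, hyH⟩ : H) (by rw [hT, Finset.mem_filter]; exact ⟨Finset.mem_univ _, Subtype.ext (by rw [SubmonoidClass.coe_pow, ← hyo, pow_orderOf_eq_one]; rfl)⟩)
    set b : H := ⟨v ^ 1 * y * (v ^ 1)⁻¹, hconjH 1 y hyH⟩
    have hb : χ b ≠ 1 := fun e => hv1 (by simpa using hdisj 1 y hyH hyP hy1 (hker b e))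
    have hbq : χ b ^ q = 1 := by rw [← map_pow, (Finset.mem_filter.1 hT2).2, map_one]
    rw [← orderOf_eq_prime hbq hb]
    exact orderOf_dvd_of_pow_eq_one (ZMod.pow_card_sub_one_eq_one (fun e => by
      rw [e, zero_pow hq.ne_zero] at hbq; exact zero_ne_one hbq))
  have hp3 : 3 ≤ p := by have := hp.out.two_le; have := h.odd; omega
  have hq2 : q = 2 ∧ p = 3 := by
    have hq2le := hq.two_le
    have hqle : q ≤ p - 1 := Nat.le_of_dvd (by omega) hqd
    have hmul : p * (q - 1) + 1 ≤ q * q := by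
      have := hTc.trans (Nat.mul_le_mul_left q hT0c)
      have : 1 ≤ T.card := Finset.card_pos.2 ⟨1, h1T⟩
      omega
    have hpq : p = q + 1 := by
      by_contra hne
      have h1 : (q + 2) * (q - 1) ≤ p * (q - 1) := Nat.mul_le_mul_right _ (by omega)
      obtain ⟨w, rfl⟩ : ∃ w, q = w + 2 := ⟨q - 2, by omega⟩
      rw [show w + 2 - 1 = w + 1 by omega] at h1 hmul
      nlinarith
    rcases hq.eq_two_or_odd with e | e
    · exact ⟨e, by omega⟩
    · rcases hp.out.eq_two_or_odd with e' | e' <;> omega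
  obtain ⟨rfl, hp3'⟩ := hq2
  have hT4 : T.card ≤ 2 * T0.card := hTc
  have hOc3 : O.card = 3 := by rw [hOc, hp3']
  rw [hp3'] at hOcard
  refine ⟨rfl, ?_, ?_, ?_⟩
  · intro a ha ha2 haP
    by_contra hno
    push Not at hno
    have hsub : ({1, ⟨y, hyH⟩, ⟨a, ha⟩} : Finset H) ⊆ T0 := by
      intro w hw
      simp only [Finset.mem_insert, Finset.mem_singleton] at hw
      rw [hT0, Finset.mem_filter, hT, Finset.mem_filter]
      rcases hw with rfl | rfl | rfl
      · exact ⟨⟨Finset.mem_univ _, one_pow _⟩, one_mem C⟩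
      · exact ⟨⟨Finset.mem_univ _, Subtype.ext (by rw [SubmonoidClass.coe_pow, ← hyo, pow_orderOf_eq_one]; rfl)⟩, hyP⟩
      · exact ⟨⟨Finset.mem_univ _, Subtype.ext (by rw [SubmonoidClass.coe_pow, ha2]; rfl)⟩, haP⟩
    have h3 : ({1, ⟨y, hyH⟩, ⟨a, ha⟩} : Finset H).card = 3 := Finset.card_eq_three.2
      ⟨_, _, _, fun e => hy1 (congrArg Subtype.val e).symm, fun e => hno.1 (congrArg Subtype.val e).symm,
        fun e => hno.2 (congrArg Subtype.val e).symm, rfl⟩
    have := Finset.card_le_card hsub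
    omega
  · intro s hs
    obtain ⟨Q2, hQ2⟩ := (IsPGroup.of_card (p := 2) (G := zpowers s) (n := 1) (by rw [Nat.card_zpowers, hs, pow_one])).exists_le_sylow
    obtain ⟨g, hg⟩ := MulAction.exists_smul_eq G Q2 Q1
    have hsH : g * s * g⁻¹ ∈ H := hQ1H (by
      rw [← hg, Sylow.coe_subgroup_smul, mem_conj_smul]
      simpa [mul_assoc] using hQ2 (mem_zpowers s))
    have hso : orderOf (g * s * g⁻¹) = 2 := by rw [← hs]; exact MulEquiv.orderOf_eq (MulAut.conj g) s
    have hmem : (⟨g * s * g⁻¹, hsH⟩ : H) ∈ T.erase 1 := by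
      rw [Finset.mem_erase, hT, Finset.mem_filter]
      refine ⟨fun e => ?_, Finset.mem_univ _, Subtype.ext ?_⟩
      · rw [show g * s * g⁻¹ = 1 from congrArg Subtype.val e, orderOf_one] at hso
        omega
      · rw [SubmonoidClass.coe_pow, ← hso, pow_orderOf_eq_one]; rfl
    have hOe : O = T.erase 1 := Finset.eq_of_subset_of_card_le hOT (by
      rw [Finset.card_erase_of_mem h1T, hOc3]
      have := Nat.mul_le_mul_left 2 hT0c
      omega)
    rw [← hOe] at hmem
    obtain ⟨⟨i, j⟩, hij, he⟩ := Finset.mem_image.1 hmem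
    rw [Finset.mem_product, Finset.mem_range, Finset.mem_Ico] at hij
    obtain rfl : j = 1 := by omega
    refine ⟨g⁻¹ * v ^ i, ?_⟩
    have he' : v ^ i * y * (v ^ i)⁻¹ = g * s * g⁻¹ := by simpa using congrArg Subtype.val he
    calc g⁻¹ * v ^ i * y * (g⁻¹ * v ^ i)⁻¹ = g⁻¹ * (v ^ i * y * (v ^ i)⁻¹) * g := by group
      _ = s := by rw [he']; group
  · have hTe : T.card = 4 ∧ T0.card = 2 := by
      have := Nat.mul_le_mul_left 2 hT0c
      omega
    have hsd : (T \ T0).card = 2 := by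
      rw [Finset.card_sdiff_of_subset (show T0 ⊆ T from Finset.filter_subset _ _)]
      omega
    refine Eq.trans ?_ ((Nat.card_eq_finsetCard (T \ T0)).trans hsd)
    refine Nat.card_congr
      { toFun := fun a => ⟨⟨a.1, a.2.1⟩, ?_⟩
        invFun := fun b => ⟨(b.1 : G), b.1.2, ?_, ?_⟩
        left_inv := fun a => rfl
        right_inv := fun b => rfl }
    · rw [Finset.mem_sdiff, hT0, Finset.mem_filter, hT, Finset.mem_filter]
      exact ⟨⟨Finset.mem_univ _, Subtype.ext (by rw [SubmonoidClass.coe_pow, a.2.2.1]; rfl)⟩, fun hh => a.2.2.2 hh.2⟩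
    · exact congrArg Subtype.val (Finset.mem_filter.1 (Finset.mem_sdiff.1 b.2).1).2
    · exact fun hb => (Finset.mem_sdiff.1 b.2).2 (Finset.mem_filter.2 ⟨(Finset.mem_sdiff.1 b.2).1, hb⟩)

/-- No nontrivial element of `H` centralizes `P`. -/
theorem no_cent (h : Bad P H) {y0 : G} (hy0H : y0 ∈ H) (hy0P : y0 ∈ centralizer ((P : Subgroup G) : Set G)) :
    y0 = 1 := by
  by_contra hy0
  obtain ⟨q, hq, hqd⟩ := Nat.exists_prime_and_dvd (fun e => hy0 (orderOf_eq_one_iff.1 e) : orderOf y0 ≠ 1)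
  obtain ⟨y, hyH, hyP, hyo⟩ : ∃ y ∈ H, y ∈ centralizer ((P : Subgroup G) : Set G) ∧ orderOf y = q := by
    refine ⟨y0 ^ (orderOf y0 / q), pow_mem hy0H _, pow_mem hy0P _, ?_⟩
    rw [orderOf_pow_of_dvd (Nat.div_pos (Nat.le_of_dvd (orderOf_pos y0) hqd) hq.pos).ne' (Nat.div_dvd_of_dvd hqd),
      Nat.div_div_self hqd (orderOf_pos y0).ne']
  obtain ⟨rfl, hT0, hconj, hTc⟩ := h.four hyH hyP hq hyo
  have hy1 : y ≠ 1 := fun e => by rw [e, orderOf_one] at hyo; omega
  have hyy : y * y = 1 := by rw [← pow_two, ← hyo, pow_orderOf_eq_one]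
  have ho2 : ∀ w : G, orderOf w = 2 ↔ w ^ 2 = 1 ∧ w ≠ 1 := fun w => orderOf_eq_prime_iff
  have hsq : ∀ w : G, orderOf w = 2 → w * w = 1 := fun w hw => by rw [← pow_two, ← hw, pow_orderOf_eq_one]
  have hco : ∀ w : G, w ^ 2 = 1 → (orderOf w).Coprime p := fun w hw =>
    Nat.Coprime.coprime_dvd_left (orderOf_dvd_of_pow_eq_one hw) ((Nat.coprime_primes Nat.prime_two hp.out).2 h.odd.symm)
  have hPy : ∀ u ∈ (P : Subgroup G), u * y = y * u := fun u hu => mem_centralizer_iff.1 hyP u hu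
  have hHy : ∀ a ∈ H, a * y = y * a := fun a ha => h.commute_H ha hyH
  have hCN : ∀ w : G, w * y = y * w → w ∈ normalizer ((P : Subgroup G) : Set G) := fun w hw =>
    h.cent_le hyH hyP hy1 (mem_centralizer_singleton_iff.2 hw)
  have hNC : ∀ w ∈ normalizer ((P : Subgroup G) : Set G), w * y = y * w := by
    intro w hw
    have h1 : w * y * w⁻¹ ∈ centralizer ((P : Subgroup G) : Set G) := by
      rw [mem_centralizer_iff]
      intro u hu
      have h2 := hPy _ ((mem_normalizer_iff''.1 hw u).1 hu)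
      calc u * (w * y * w⁻¹) = w * (w⁻¹ * u * w * y) * w⁻¹ := by group
        _ = w * (y * (w⁻¹ * u * w)) * w⁻¹ := by rw [h2]
        _ = w * y * w⁻¹ * u := by group
    have h2 : (w * y * w⁻¹) ^ 2 = 1 := by rw [conj_pow, pow_two, hyy]; simp
    rcases hT0 _ (h.mem_H_of_cent h1 (hco _ h2)) h2 h1 with e | e
    · exact absurd ((conj_eq_one_iff).1 e) hy1
    · exact mul_inv_eq_iff_eq_mul.1 e
  have hN2 : ∀ w ∈ normalizer ((P : Subgroup G) : Set G), w ^ 2 = 1 →
      ∃ n ∈ (P : Subgroup G), ∃ a ∈ H, a ^ 2 = 1 ∧ w = n * a * n⁻¹ := by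
    intro w hw hw2
    obtain ⟨n, hn, hle⟩ := h.Hconj (zpowers w) (zpowers_le.2 hw)
      (by rw [Nat.card_zpowers]; exact hp.out.coprime_iff_not_dvd.1 (hco w hw2).symm)
    refine ⟨n, hn, n⁻¹ * w * n, mem_conj_smul.1 (hle (mem_zpowers w)), ?_, by group⟩
    have := conj_pow (a := n⁻¹) (b := w) (i := 2)
    rw [inv_inv, hw2, mul_one, inv_mul_cancel] at this
    exact this
  have hfree : ∀ a ∈ H, a ^ 2 = 1 → a ∉ centralizer ((P : Subgroup G) : Set G) → ∀ n ∈ (P : Subgroup G),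
      ∀ m ∈ (P : Subgroup G), ∀ b ∈ H, n * a * n⁻¹ = m * b * m⁻¹ → n = m ∧ a = b := by
    intro a ha ha2 haC n hn m hm b hb he
    have h1 : (m⁻¹ * n) * a * (m⁻¹ * n)⁻¹ = b := by
      rw [mul_inv_rev, inv_inv]
      calc m⁻¹ * n * a * (n⁻¹ * m) = m⁻¹ * (n * a * n⁻¹) * m := by group
        _ = b := by rw [he]; group
    have hl : m⁻¹ * n ∈ (P : Subgroup G) := mul_mem (inv_mem hm) hn
    generalize hle : m⁻¹ * n = l at h1 hl
    have h2 : b * a⁻¹ ∈ (P : Subgroup G) := by
      rw [← h1]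
      have : a * l⁻¹ * a⁻¹ ∈ (P : Subgroup G) := (mem_normalizer_iff.1 (h.HN ha) l⁻¹).1 (inv_mem hl)
      simpa [mul_assoc] using mul_mem hl this
    have hba : b = a := mul_inv_eq_one.1 (eq_one_of_both h.Hp P.isPGroup' (mul_mem hb (inv_mem ha)) h2)
    rw [hba, mul_inv_eq_iff_eq_mul] at h1
    have := h.x_notC ha haC hl h1.symm
    rw [← hle, inv_mul_eq_one] at this
    exact ⟨this.symm, hba.symm⟩
  obtain ⟨⟨x1, hx1⟩, ⟨x2, hx2⟩, -, hxu⟩ := Nat.card_eq_two_iff.1 hTc
  have htwo : ∀ a ∈ H, a ^ 2 = 1 → a ∉ centralizer ((P : Subgroup G) : Set G) → a = x1 ∨ a = x2 := by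
    intro a ha ha2 haC
    have := hxu.ge (Set.mem_univ (⟨a, ha, ha2, haC⟩ : {a : G // a ∈ H ∧ a ^ 2 = 1 ∧ a ∉ centralizer ((P : Subgroup G) : Set G)}))
    simpa using this
  -- neighbours of y
  let R : {s : G // orderOf s = 2} → {s : G // orderOf s = 2} → Prop := fun i j => i ≠ j ∧ (i : G) * j = j * i
  have hnb : ∀ w : G, orderOf w = 2 → w ≠ y → w * y = y * w →
      ∃ n ∈ (P : Subgroup G), ∃ a ∈ H, a ^ 2 = 1 ∧ a ∉ centralizer ((P : Subgroup G) : Set G) ∧ w = n * a * n⁻¹ := by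
    intro w hw hwy hc
    obtain ⟨n, hn, a, ha, ha2, e⟩ := hN2 w (hCN w hc) ((ho2 w).1 hw).1
    refine ⟨n, hn, a, ha, ha2, fun haC => ?_, e⟩
    rcases hT0 a ha ha2 haC with rfl | rfl
    · exact ((ho2 w).1 hw).2 (by rw [e]; group)
    · exact hwy (by rw [e, hPy n hn, mul_inv_cancel_right])
  have hdegy : Nat.card {j // R ⟨y, hyo⟩ j} = Nat.card ↥(P : Subgroup G) * 2 := by
    refine Eq.trans ?_ (congrArg (Nat.card ↥(P : Subgroup G) * ·) hTc)
    rw [← Nat.card_prod]
    have hf : ∀ na : ↥(P : Subgroup G) × {a : G // a ∈ H ∧ a ^ 2 = 1 ∧ a ∉ centralizer ((P : Subgroup G) : Set G)},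
        ∃ h2 : orderOf (na.1.1 * na.2.1 * na.1.1⁻¹) = 2,
          R ⟨y, hyo⟩ ⟨na.1.1 * na.2.1 * na.1.1⁻¹, h2⟩ := by
      rintro ⟨⟨n, hn⟩, ⟨a, ha, ha2, haC⟩⟩
      show ∃ h2 : orderOf (n * a * n⁻¹) = 2, R ⟨y, hyo⟩ ⟨n * a * n⁻¹, h2⟩
      refine ⟨(ho2 _).2 ⟨by rw [conj_pow, ha2, mul_one, mul_inv_cancel],
        fun e => haC (by rw [(conj_eq_one_iff).1 e]; exact one_mem _)⟩, fun e => ?_, ?_⟩
      · have e' : y = n * a * n⁻¹ := congrArg Subtype.val e
        refine haC ?_
        have : a = n⁻¹ * y * n := by rw [e']; group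
        rw [this, mul_assoc, ← hPy _ hn, inv_mul_cancel_left]
        exact hyP
      · show y * (n * a * n⁻¹) = n * a * n⁻¹ * y
        calc y * (n * a * n⁻¹) = (y * n) * a * n⁻¹ := by group
          _ = n * (y * a) * n⁻¹ := by rw [← hPy _ hn]; group
          _ = n * a * (y * n⁻¹) := by rw [← hHy _ ha]; group
          _ = n * a * (n⁻¹ * y) := by rw [← hPy _ (inv_mem hn)]
          _ = n * a * n⁻¹ * y := by group
    choose f1 f2 using hf
    refine (Nat.card_eq_of_bijective (fun na => (⟨⟨_, f1 na⟩, f2 na⟩ : {j // R ⟨y, hyo⟩ j})) ⟨?_, ?_⟩).symm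
    · intro na nb e
      have e' : na.1.1 * na.2.1 * na.1.1⁻¹ = nb.1.1 * nb.2.1 * nb.1.1⁻¹ := congrArg (fun z => (z.1 : G)) e
      obtain ⟨e1, e2⟩ := hfree _ na.2.2.1 na.2.2.2.1 na.2.2.2.2 _ na.1.2 _ nb.1.2 _ nb.2.2.1 e'
      exact Prod.ext (Subtype.ext e1) (Subtype.ext e2)
    · rintro ⟨⟨w, hw⟩, hne, hc⟩
      obtain ⟨n, hn, a, ha, ha2, haC, e⟩ := hnb w hw (fun e => hne (Subtype.ext e.symm)) hc.symm
      exact ⟨(⟨n, hn⟩, ⟨a, ha, ha2, haC⟩), Subtype.ext (Subtype.ext e.symm)⟩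
  -- unique common neighbour of two commuting involutions
  have hcomm : ∀ t k : G, orderOf t = 2 → orderOf k = 2 → t ≠ y → k ≠ y → t ≠ k → t * y = y * t →
      k * y = y * k → t * k = k * t → k = t * y := by
    intro t k ht hk hty hky htk htc hkc htkc
    obtain ⟨n, hn, a, ha, ha2, haC, et⟩ := hnb t ht hty htc
    obtain ⟨m, hm, b, hb, hb2, hbC, ek⟩ := hnb k hk hky hkc
    have hay : a * y ∈ H ∧ (a * y) ^ 2 = 1 ∧ a * y ∉ centralizer ((P : Subgroup G) : Set G) :=
      ⟨mul_mem ha hyH, by rw [(show Commute a y from hHy a ha).mul_pow, ha2, one_mul, pow_two, hyy],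
        fun hh => haC (by simpa using mul_mem hh (inv_mem hyP))⟩
    have hne : a ≠ a * y := fun e => hy1 (left_eq_mul.1 e)
    obtain ⟨e, he, hbe⟩ : ∃ e, (e = 1 ∨ e = y) ∧ b = a * e := by
      rcases htwo a ha ha2 haC with h1 | h1 <;> rcases htwo _ hay.1 hay.2.1 hay.2.2 with h2 | h2 <;>
        rcases htwo b hb hb2 hbC with h3 | h3 <;>
        first
        | exact absurd (h1.trans h2.symm) hne
        | exact ⟨1, Or.inl rfl, by rw [mul_one]; exact h3.trans h1.symm⟩
        | exact ⟨y, Or.inr rfl, h3.trans h2.symm⟩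
    have heH : e ∈ H := by rcases he with rfl | rfl; exacts [one_mem _, hyH]
    have hPe : ∀ u ∈ (P : Subgroup G), u * e = e * u := by
      rcases he with rfl | rfl
      · intro u _; rw [mul_one, one_mul]
      · exact hPy
    have hk' : k = m * a * m⁻¹ * e := by
      rw [ek, hbe, mul_assoc m a e |>.symm, mul_assoc (m * a) e, ← hPe _ (inv_mem hm)]
      group
    set l := n⁻¹ * m with hl
    have hlP : l ∈ (P : Subgroup G) := mul_mem (inv_mem hn) hm
    have haa : Commute a (l * a * l⁻¹) := by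
      have h1 : Commute t k := htkc
      have hte : Commute t e := by
        rcases he with rfl | rfl
        · exact Commute.one_right t
        · exact htc
      have h2 : Commute t (m * a * m⁻¹) := by
        have : m * a * m⁻¹ = k * e⁻¹ := by rw [hk', mul_inv_cancel_right]
        rw [this]
        exact h1.mul_right hte.inv_right
      have h3 := (Commute.conj_iff n⁻¹).2 h2
      rw [et] at h3
      have e1 : n⁻¹ * (n * a * n⁻¹) * n⁻¹⁻¹ = a := by group
      have e2 : n⁻¹ * (m * a * m⁻¹) * n⁻¹⁻¹ = l * a * l⁻¹ := by rw [hl]; group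
      rwa [e1, e2] at h3
    have hl1 : a * l⁻¹ * a⁻¹ ∈ (P : Subgroup G) := (mem_normalizer_iff.1 (h.HN ha) l⁻¹).1 (inv_mem hlP)
    have h4 : l * (a * l⁻¹ * a⁻¹) = 1 := h.x_notC ha haC (mul_mem hlP hl1) (by
      have h5 := haa.mul_right (Commute.refl a).inv_right
      rw [show l * (a * l⁻¹ * a⁻¹) = l * a * l⁻¹ * a⁻¹ by group]
      exact h5.eq)
    have hla : a * l = l * a := by
      have h6 : l * a * l⁻¹ = a := by
        calc l * a * l⁻¹ = l * (a * l⁻¹ * a⁻¹) * a := by group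
          _ = a := by rw [h4, one_mul]
      exact (mul_inv_eq_iff_eq_mul.1 h6).symm
    have hnm : n = m := inv_mul_eq_one.1 (h.x_notC ha haC hlP hla)
    rw [← hnm, ← et] at hk'
    rcases he with rfl | rfl
    · exact absurd (by rw [hk', mul_one]) htk
    · exact hk'
  -- a common neighbour of two non-commuting involutions
  have hnc : ∀ s t : G, orderOf s = 2 → orderOf t = 2 → s * t ≠ t * s →
      ∃ k, orderOf k = 2 ∧ k ≠ s ∧ k ≠ t ∧ s * k = k * s ∧ t * k = k * t ∧
        ∀ k', orderOf k' = 2 → s * k' = k' * s → t * k' = k' * t → k' = k := by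
    intro s t hs ht hst
    have hss := hsq s hs
    have htt := hsq t ht
    have hsi : s⁻¹ = s := inv_eq_of_mul_eq_one_right hss
    have hti : t⁻¹ = t := inv_eq_of_mul_eq_one_right htt
    have hsu : s * (s * t) * s⁻¹ = (s * t)⁻¹ := by rw [mul_inv_rev, hsi, hti, ← mul_assoc s s t, hss, one_mul]
    have htu : t * (s * t) * t⁻¹ = (s * t)⁻¹ := by rw [mul_inv_rev, hsi, hti, mul_assoc t, mul_assoc s t t, htt, mul_one]
    have hpd : p ∣ orderOf (s * t) := by
      by_contra hno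
      refine hst ?_
      have hsN : zpowers s ≤ normalizer (zpowers (s * t) : Set G) := by
        rw [zpowers_le, ← conj_smul_eq_self_iff]
        refine eq_of_le_of_card_ge ?_ (card_conj_smul s (zpowers (s * t))).ge
        intro w hw
        rw [mem_conj_smul] at hw
        obtain ⟨i, hi⟩ := hw
        have : w = (s * (s * t) * s⁻¹) ^ i := by
          rw [conj_zpow]
          simp only at hi
          rw [hi]; group
        rw [this, hsu]
        exact zpow_mem (inv_mem (mem_zpowers _)) i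
      have hX := sup_p' hsN (by rwa [Nat.card_zpowers]) (by
        rw [Nat.card_zpowers, hs]
        exact fun hd => h.odd ((Nat.prime_dvd_prime_iff_eq hp.out Nat.prime_two).1 hd))
      have htX : t ∈ zpowers (s * t) ⊔ zpowers s := by
        have h2 := mul_mem (mem_sup_right (S := zpowers (s * t)) (mem_zpowers s))
          (mem_sup_left (T := zpowers s) (mem_zpowers (s * t)))
        rwa [← mul_assoc, hss, one_mul] at h2
      exact congrArg Subtype.val ((h.hab _ hX).is_comm.comm ⟨s, mem_sup_right (mem_zpowers s)⟩ ⟨t, htX⟩)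
    set z := (s * t) ^ (orderOf (s * t) / p) with hz
    have hzo : orderOf z = p := by
      rw [hz, orderOf_pow_of_dvd (Nat.div_pos (Nat.le_of_dvd (orderOf_pos _) hpd) hp.out.pos).ne' (Nat.div_dvd_of_dvd hpd),
        Nat.div_div_self hpd (orderOf_pos _).ne']
    have hsz : s * z * s⁻¹ = z⁻¹ := by rw [hz, ← conj_pow, hsu, inv_pow]
    have htz : t * z * t⁻¹ = z⁻¹ := by rw [hz, ← conj_pow, htu, inv_pow]
    obtain ⟨g, hg⟩ := exists_conj_mem P (u := z) ⟨1, by rw [hzo, pow_one]⟩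
    set z' := g * z * g⁻¹ with hz'
    have hz'o : orderOf z' = p := by rw [← hzo]; exact MulEquiv.orderOf_eq (MulAut.conj g) z
    have hz'1 : z' ≠ 1 := fun e => hp.out.ne_one (by rw [← hz'o, e, orderOf_one])
    have hinv : ∀ r : G, r * z * r⁻¹ = z⁻¹ → orderOf r = 2 →
        (g * r * g⁻¹) * y = y * (g * r * g⁻¹) ∧ g * r * g⁻¹ ≠ y := by
      intro r hr _
      have h1 : (g * r * g⁻¹) * z' * (g * r * g⁻¹)⁻¹ = z'⁻¹ := by
        rw [hz']
        calc g * r * g⁻¹ * (g * z * g⁻¹) * (g * r * g⁻¹)⁻¹ = g * (r * z * r⁻¹) * g⁻¹ := by group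
          _ = (g * z * g⁻¹)⁻¹ := by rw [hr]; group
      refine ⟨hNC _ (h.ti (zpowers z') (zpowers_le.2 hg) (zpowers_ne_bot.2 hz'1) ?_), fun e => ?_⟩
      · rw [← conj_smul_eq_self_iff]
        refine eq_of_le_of_card_ge ?_ (card_conj_smul _ (zpowers z')).ge
        intro w hw
        rw [mem_conj_smul] at hw
        obtain ⟨i, hi⟩ := hw
        have : w = (g * r * g⁻¹ * z' * (g * r * g⁻¹)⁻¹) ^ i := by
          rw [conj_zpow]
          simp only at hi
          rw [hi]; group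
        rw [this, h1]
        exact zpow_mem (inv_mem (mem_zpowers _)) i
      · rw [e, ← hPy z' hg, mul_inv_cancel_right] at h1
        have h2 : z' ^ 2 = 1 := by rw [pow_two]; exact mul_eq_one_iff_eq_inv.2 h1
        have h3 := orderOf_dvd_of_pow_eq_one h2
        rw [hz'o] at h3
        exact h.odd ((Nat.prime_dvd_prime_iff_eq hp.out Nat.prime_two).1 h3)
    obtain ⟨hsy, hsne⟩ := hinv s hsz hs
    obtain ⟨hty, htne⟩ := hinv t htz ht
    have hk2 : orderOf (g⁻¹ * y * g) = 2 := by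
      rw [← hyo]; convert MulEquiv.orderOf_eq (MulAut.conj g⁻¹) y using 2; simp
    refine ⟨g⁻¹ * y * g, hk2, fun e => hsne (by rw [← e]; group), fun e => htne (by rw [← e]; group), ?_, ?_, ?_⟩
    · calc s * (g⁻¹ * y * g) = g⁻¹ * (g * s * g⁻¹ * y) * g := by group
        _ = g⁻¹ * y * g * s := by rw [hsy]; group
    · calc t * (g⁻¹ * y * g) = g⁻¹ * (g * t * g⁻¹ * y) * g := by group
        _ = g⁻¹ * y * g * t := by rw [hty]; group
    · intro k hk hsk htk
      have hkst : Commute k (s * t) := (show Commute k s from hsk.symm).mul_right (show Commute k t from htk.symm)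
      have hkz : Commute k z := hkst.pow_right _
      have hk'z : Commute (g * k * g⁻¹) z' := (Commute.conj_iff g).2 hkz
      have hk'2 : (g * k * g⁻¹) ^ 2 = 1 := by rw [conj_pow, ((ho2 k).1 hk).1, mul_one, mul_inv_cancel]
      have hk'N : g * k * g⁻¹ ∈ normalizer ((P : Subgroup G) : Set G) :=
        h.ti (zpowers z') (zpowers_le.2 hg) (zpowers_ne_bot.2 hz'1) (centralizer_le_normalizer _
          (mem_centralizer_iff.2 fun w hw => by
            obtain ⟨i, rfl⟩ := hw
            exact ((hk'z.zpow_right i).eq).symm))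
      haveI := h.cyc
      have hk'C := fix_all P.isPGroup' hk'N (hco _ hk'2) hg hz'1 hk'z.eq
      rcases hT0 _ (h.mem_H_of_cent hk'C (hco _ hk'2)) hk'2 hk'C with e | e
      · exact absurd ((conj_eq_one_iff).1 e) ((ho2 k).1 hk).2
      · rw [← e]; group
  -- the friendship graph
  have hPpos : p ≤ Nat.card ↥(P : Subgroup G) := by
    refine Nat.le_of_dvd Nat.card_pos (P.isPGroup'.card_eq_or_dvd.resolve_left fun e => h.notNormal ?_)
    rw [Subgroup.card_eq_one.1 e]; infer_instance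
  have hp2 := hp.out.two_le
  set N := Nat.card ↥(P : Subgroup G) * 2 with hN
  haveI : Fact (N - 1).minFac.Prime := ⟨Nat.minFac_prime (by omega)⟩
  have hrd : (N - 1).minFac ∣ N - 1 := Nat.minFac_dvd _
  have hr2 : (N - 1).minFac ≠ 2 := fun e => by
    rw [e] at hrd
    omega
  haveI : Nonempty {s : G // orderOf s = 2} := ⟨⟨y, hyo⟩⟩
  refine false_of_regular_friendship R (fun i j hij => ⟨hij.1.symm, hij.2.symm⟩) (fun i hi => hi.1 rfl) N
    (N - 1).minFac hr2 ?_ ?_ ?_
  · exact ((ZMod.natCast_eq_natCast_iff N 1 _).2 ((Nat.modEq_iff_dvd' (by omega)).2 hrd).symm).trans Nat.cast_one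
  · intro i
    obtain ⟨g, hg⟩ := hconj i i.2
    rw [← hdegy]
    refine (Nat.card_congr (Equiv.subtypeEquiv
      (Equiv.subtypeEquiv (MulAut.conj g).toEquiv fun w => by
        show orderOf w = 2 ↔ orderOf (MulAut.conj g w) = 2
        rw [MulEquiv.orderOf_eq]) fun j => ?_)).symm
    show (_ ≠ _ ∧ _) ↔ _ ≠ _ ∧ _
    have hgi : (i : G) = MulAut.conj g y := hg.symm
    refine and_congr (not_congr ⟨fun e => Subtype.ext (by rw [hgi]; exact congrArg (fun w : G => MulAut.conj g w) (congrArg Subtype.val e)),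
      fun e => Subtype.ext ((MulAut.conj g).injective (hgi.symm.trans (congrArg Subtype.val e)))⟩) ?_
    show y * (j : G) = j * y ↔ (i : G) * MulAut.conj g j = MulAut.conj g j * i
    rw [hgi, ← map_mul, ← map_mul]
    exact (MulAut.conj g).injective.eq_iff.symm
  · rintro ⟨s, hs⟩ ⟨t, ht⟩ hne
    have hst' : s ≠ t := fun e => hne (Subtype.ext e)
    rw [Nat.card_eq_one_iff_unique]
    by_cases hc : s * t = t * s
    · obtain ⟨g, hg⟩ := hconj s hs
      have hsi : s⁻¹ = s := inv_eq_of_mul_eq_one_right (hsq s hs)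
      have hst1 : orderOf (s * t) = 2 := (ho2 _).2 ⟨by
        rw [(show Commute s t from hc).mul_pow, ((ho2 s).1 hs).1, ((ho2 t).1 ht).1, one_mul],
        fun e => hst' (by rw [← hsi]; exact inv_eq_of_mul_eq_one_right e)⟩
      constructor
      · have hu : ∀ k : {k // R ⟨s, hs⟩ k ∧ R ⟨t, ht⟩ k}, (k.1 : G) = s * t := by
          rintro ⟨⟨k, hk⟩, ⟨hks, hksc⟩, hkt, hktc⟩
          show k = s * t
          have hgy : ∀ w : G, orderOf w = 2 → orderOf (g⁻¹ * w * g) = 2 := fun w hw => by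
            rw [← hw]; convert MulEquiv.orderOf_eq (MulAut.conj g⁻¹) w using 2; simp
          have hcy : ∀ w : G, s * w = w * s → (g⁻¹ * w * g) * y = y * (g⁻¹ * w * g) := fun w hw => by
            calc g⁻¹ * w * g * y = g⁻¹ * (w * (g * y * g⁻¹)) * g := by group
              _ = g⁻¹ * ((g * y * g⁻¹) * w) * g := by rw [hg, hw]
              _ = y * (g⁻¹ * w * g) := by group
          have hney : ∀ w : G, w ≠ s → g⁻¹ * w * g ≠ y := fun w hw e => hw (by rw [← hg, ← e]; group)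
          have h1 := hcomm (g⁻¹ * t * g) (g⁻¹ * k * g) (hgy t ht) (hgy k hk) (hney t (Ne.symm hst'))
            (hney k (fun e => hks (Subtype.ext e.symm))) (fun e => hkt (Subtype.ext (mul_left_cancel (mul_right_cancel e))))
            (hcy t hc) (hcy k hksc) (by
              calc g⁻¹ * t * g * (g⁻¹ * k * g) = g⁻¹ * (t * k) * g := by group
                _ = g⁻¹ * (k * t) * g := by rw [show t * k = k * t from hktc]
                _ = g⁻¹ * k * g * (g⁻¹ * t * g) := by group)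
          calc k = g * (g⁻¹ * k * g) * g⁻¹ := by group
            _ = t * (g * y * g⁻¹) := by rw [h1]; group
            _ = s * t := by rw [hg, hc]
        exact ⟨fun a b => Subtype.ext (Subtype.ext ((hu a).trans (hu b).symm))⟩
      · refine ⟨⟨⟨s * t, hst1⟩, ⟨fun e => ((ho2 t).1 ht).2 ?_, ?_⟩, ⟨fun e => ((ho2 s).1 hs).2 ?_, ?_⟩⟩⟩
        · exact left_eq_mul.1 (congrArg Subtype.val e)
        · exact ((Commute.refl s).mul_right (show Commute s t from hc)).eq
        · exact right_eq_mul.1 (congrArg Subtype.val e)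
        · exact ((show Commute t s from hc.symm).mul_right (Commute.refl t)).eq
    · obtain ⟨k, hk, hks, hkt, hskc, htkc, huniq⟩ := hnc s t hs ht hc
      refine ⟨⟨fun a b => Subtype.ext (Subtype.ext ((huniq _ a.1.2 a.2.1.2 a.2.2.2).trans (huniq _ b.1.2 b.2.1.2 b.2.2.2).symm))⟩,
        ⟨⟨⟨k, hk⟩, ⟨fun e => hks (congrArg Subtype.val e).symm, hskc⟩, ⟨fun e => hkt (congrArg Subtype.val e).symm, htkc⟩⟩⟩⟩

/-- The centralizer of a nontrivial element of `P` is contained in `P`. -/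
theorem cent_mem_P (h : Bad P H) {u z : G} (hu : u ∈ (P : Subgroup G)) (hu1 : u ≠ 1) (hz : z * u = u * z) :
    z ∈ (P : Subgroup G) := by
  haveI := h.cyc
  have hzN : z ∈ normalizer ((P : Subgroup G) : Set G) := h.ti (zpowers u) (zpowers_le.2 hu) (zpowers_ne_bot.2 hu1)
    (centralizer_le_normalizer _ (mem_centralizer_iff.2 fun w hw => by
      obtain ⟨i, rfl⟩ := hw
      exact (((show Commute z u from hz).zpow_right i).eq).symm))
  obtain ⟨a, b, hb, hab⟩ := Nat.exists_eq_pow_mul_and_not_dvd (orderOf_pos z).ne' p hp.out.ne_one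
  have h1 : orderOf (z ^ p ^ a) = b := by
    rw [orderOf_pow_of_dvd (pow_pos hp.out.pos a).ne' ⟨b, hab⟩, hab, Nat.mul_div_cancel_left _ (pow_pos hp.out.pos a)]
  have hco : (orderOf (z ^ p ^ a)).Coprime p := h1 ▸ (hp.out.coprime_iff_not_dvd.2 hb).symm
  have h2 := fix_all P.isPGroup' (pow_mem hzN _) hco hu hu1 ((show Commute z u from hz).pow_left _).eq
  have h3 := h.no_cent (h.mem_H_of_cent h2 hco) h2
  obtain ⟨c, -, hc⟩ := (Nat.dvd_prime_pow hp.out).1 (orderOf_dvd_of_pow_eq_one h3)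
  exact mem_sylow hzN ⟨c, hc⟩

theorem cent_pel (h : Bad P H) {u z : G} (hu : ∃ k, orderOf u = p ^ k) (hu1 : u ≠ 1) (hz : z * u = u * z) :
    ∃ k, orderOf z = p ^ k := by
  obtain ⟨g, hg⟩ := exists_conj_mem P hu
  have h1 : g * z * g⁻¹ ∈ (P : Subgroup G) := h.cent_mem_P hg (fun e => hu1 ((conj_eq_one_iff).1 e))
    ((Commute.conj_iff g).2 hz).eq
  obtain ⟨k, hk⟩ := order_pow_of_mem P.isPGroup' h1
  exact ⟨k, by rw [← hk]; exact (MulEquiv.orderOf_eq (MulAut.conj g) z).symm⟩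

/-- A nontrivial element of order prime to `p` has abelian centralizer of order prime to `p`. -/
theorem cent_p' (h : Bad P H) {x : G} (hx1 : x ≠ 1) (hx : ¬ ∃ k, orderOf x = p ^ k) :
    ¬ p ∣ Nat.card (centralizer ({x} : Set G)) ∧
      ∀ a b : G, a * x = x * a → b * x = x * b → a * b = b * a := by
  have h1 : ¬ p ∣ Nat.card (centralizer ({x} : Set G)) := by
    intro hd
    obtain ⟨v, hv⟩ := exists_prime_orderOf_dvd_card' p hd
    rw [← Subgroup.orderOf_coe] at hv
    have hv1 : (v : G) ≠ 1 := fun e => hp.out.ne_one (by rw [← hv, e, orderOf_one])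
    exact hx (h.cent_pel ⟨1, by rw [hv, pow_one]⟩ hv1 (mem_centralizer_singleton_iff.1 v.2).symm)
  exact ⟨h1, fun a b ha hb => congrArg Subtype.val ((h.hab _ h1).is_comm.comm
    ⟨a, mem_centralizer_singleton_iff.2 ha⟩ ⟨b, mem_centralizer_singleton_iff.2 hb⟩)⟩

theorem not_pel_of_inv (h : Bad P H) {t : G} (ht : orderOf t = 2) : ¬ ∃ k, orderOf t = p ^ k := by
  rintro ⟨k, hk⟩
  rw [ht] at hk
  rcases k with _ | k
  · simp at hk
  · exact h.odd ((Nat.prime_dvd_prime_iff_eq hp.out Nat.prime_two).1 (hk ▸ dvd_pow_self p (Nat.succ_ne_zero k)))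

theorem even_card (h : Bad P H) : 2 ∣ Nat.card G := by
  classical
  by_contra ho
  have hodd : Odd (Nat.card G) := Nat.odd_iff.2 (by omega)
  haveI := h.cyc
  have hCA : ∀ x : G, x ≠ 1 → ∀ a ∈ centralizer ({x} : Set G), ∀ b ∈ centralizer ({x} : Set G), a * b = b * a := by
    intro x hx1 a ha b hb
    rw [mem_centralizer_singleton_iff] at ha hb
    by_cases hx : ∃ k, orderOf x = p ^ k
    · obtain ⟨g, hg⟩ := exists_conj_mem P hx
      have hne : g * x * g⁻¹ ≠ 1 := fun e => hx1 ((conj_eq_one_iff).1 e)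
      have ha' := h.cent_mem_P hg hne ((Commute.conj_iff g).2 ha).eq
      have hb' := h.cent_mem_P hg hne ((Commute.conj_iff g).2 hb).eq
      haveI : IsMulCommutative (P : Subgroup G) := ⟨⟨fun a b => (IsCyclic.commGroup (α := (P : Subgroup G))).mul_comm a b⟩⟩
      have := congrArg Subtype.val (IsMulCommutative.is_comm.comm (⟨_, ha'⟩ : (P : Subgroup G)) ⟨_, hb'⟩)
      exact ((Commute.conj_iff g).1 this).eq
    · exact (h.cent_p' hx1 hx).2 a b ha hb
  haveI := Cfsg.Agent.S0182.result hodd hCA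
  haveI : Nontrivial G := by
    by_contra hn
    rw [not_nontrivial_iff_subsingleton] at hn
    exact h.notNormal ⟨fun z hz g => by rwa [Subsingleton.elim (g * z * g⁻¹) z]⟩
  obtain ⟨A, hAn, hA1, hAab⟩ : ∃ A : Subgroup G, A.Normal ∧ A ≠ ⊥ ∧ ∀ a ∈ A, ∀ b ∈ A, a * b = b * a := by
    have hex : ∃ n, derivedSeries G n = ⊥ := (Group.isSolvable_def G).1 inferInstance
    have h0 : Nat.find hex ≠ 0 := fun e => by
      have := Nat.find_spec hex
      rw [e, derivedSeries_zero] at this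
      exact top_ne_bot this
    obtain ⟨m, hm⟩ := Nat.exists_eq_succ_of_ne_zero h0
    refine ⟨derivedSeries G m, derivedSeries_normal G m, Nat.find_min hex (by omega), fun a ha b hb => ?_⟩
    have := Nat.find_spec hex
    rw [hm, derivedSeries_succ, commutator_eq_bot_iff_le_centralizer] at this
    exact mem_centralizer_iff.1 (this hb) a ha
  by_cases hd : p ∣ Nat.card A
  · let K : Subgroup G :=
      { carrier := {a | a ∈ A ∧ a ^ p = 1}
        one_mem' := ⟨A.one_mem, one_pow _⟩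
        mul_mem' := fun {a b} ha hb => ⟨mul_mem ha.1 hb.1, by
          rw [(show Commute a b from hAab a ha.1 b hb.1).mul_pow, ha.2, hb.2, one_mul]⟩
        inv_mem' := fun {a} ha => ⟨inv_mem ha.1, by rw [inv_pow, ha.2, inv_one]⟩ }
    have hKn : K.Normal := ⟨fun a ha g => ⟨hAn.conj_mem a ha.1 g, by rw [conj_pow, ha.2, mul_one, mul_inv_cancel]⟩⟩
    have hKp : IsPGroup p K := fun a => ⟨1, Subtype.ext (by
      rw [pow_one, SubmonoidClass.coe_pow]; exact a.2.2)⟩
    obtain ⟨v, hv⟩ := exists_prime_orderOf_dvd_card' p hd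
    rw [← Subgroup.orderOf_coe] at hv
    have hvK : (v : G) ∈ K := ⟨v.2, by rw [← hv, pow_orderOf_eq_one]⟩
    rw [h.noP K hKn hKp, mem_bot] at hvK
    rw [hvK, orderOf_one] at hv
    exact hp.out.one_lt.ne hv
  · exact hA1 (h.noP' A hAn hd)

theorem single_class (h : Bad P H) {s t : G} (hs : orderOf s = 2) (ht : orderOf t = 2) (hne : s * t ≠ t * s) :
    (∃ k, orderOf (s * t) = p ^ k) ∧ s * t ≠ 1 ∧ ∃ g, g * s * g⁻¹ = t := by
  have hss : s * s = 1 := by rw [← pow_two, ← hs, pow_orderOf_eq_one]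
  have htt : t * t = 1 := by rw [← pow_two, ← ht, pow_orderOf_eq_one]
  have hsi : s⁻¹ = s := inv_eq_of_mul_eq_one_right hss
  have hti : t⁻¹ = t := inv_eq_of_mul_eq_one_right htt
  set u := s * t with hu
  have hu1 : u ≠ 1 := fun e => hne (show s * t = t * s by
    rw [(inv_eq_of_mul_eq_one_right (show s * t = 1 from e)).symm.trans hsi])
  have hsu : s * u * s⁻¹ = u⁻¹ := by rw [hu, mul_inv_rev, hsi, hti, ← mul_assoc s s t, hss, one_mul]
  have hpel : ∃ k, orderOf u = p ^ k := by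
    by_contra hu2
    obtain ⟨hC, hC2⟩ := h.cent_p' hu1 hu2
    have hsN : zpowers s ≤ normalizer (zpowers u : Set G) := by
      rw [zpowers_le, ← conj_smul_eq_self_iff]
      refine eq_of_le_of_card_ge ?_ (card_conj_smul s (zpowers u)).ge
      intro w hw
      rw [mem_conj_smul] at hw
      obtain ⟨i, hi⟩ := hw
      have : w = (s * u * s⁻¹) ^ i := by
        rw [conj_zpow]
        simp only at hi
        rw [hi]; group
      rw [this, hsu]
      exact zpow_mem (inv_mem (mem_zpowers _)) i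
    have hX := sup_p' hsN (fun hd => hC (hd.trans (card_dvd_of_le (zpowers_le.2 (mem_centralizer_singleton_iff.2 rfl)))))
      (by rw [Nat.card_zpowers, hs]
          exact fun hd => h.odd ((Nat.prime_dvd_prime_iff_eq hp.out Nat.prime_two).1 hd))
    have htX : t ∈ zpowers u ⊔ zpowers s := by
      have h2 := mul_mem (mem_sup_right (S := zpowers u) (mem_zpowers s))
        (mem_sup_left (T := zpowers s) (mem_zpowers u))
      rwa [hu, ← mul_assoc, hss, one_mul] at h2
    exact hne (congrArg Subtype.val ((h.hab _ hX).is_comm.comm ⟨s, mem_sup_right (mem_zpowers s)⟩ ⟨t, htX⟩))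
  refine ⟨hpel, hu1, ?_⟩
  obtain ⟨k, hk⟩ := hpel
  obtain ⟨l, hl⟩ : Odd (orderOf u) := hk ▸ (hp.out.odd_of_ne_two h.odd).pow
  refine ⟨u ^ l, ?_⟩
  have h1 : s * (u ^ l)⁻¹ = u ^ l * s := by
    rw [← inv_pow, ← hsu, conj_pow, hsi, ← mul_assoc, ← mul_assoc, hss, one_mul]
  have h2 : u ^ (2 * l) = u⁻¹ := eq_inv_of_mul_eq_one_left (by rw [← pow_succ, ← hl, pow_orderOf_eq_one])
  rw [mul_assoc, h1, ← mul_assoc, ← pow_add, show l + l = 2 * l by omega, h2, hu, mul_inv_rev, hsi, hti, mul_assoc, hss, mul_one]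

theorem exists_noncomm (h : Bad P H) {t : G} (ht : orderOf t = 2) : ∃ r, orderOf r = 2 ∧ t * r ≠ r * t := by
  by_contra hno
  push Not at hno
  have hC := (h.cent_p' (fun e => by rw [e, orderOf_one] at ht; omega) (h.not_pel_of_inv ht))
  have hmem : ∀ a : G, a ^ 2 = 1 → a * t = t * a := by
    intro a ha
    by_cases ha1 : a = 1
    · rw [ha1, one_mul, mul_one]
    · exact (hno a (orderOf_eq_prime ha ha1)).symm
  let A : Subgroup G :=
    { carrier := {a | a ^ 2 = 1}
      one_mem' := one_pow _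
      mul_mem' := fun {a b} ha hb => by
        show (a * b) ^ 2 = 1
        rw [(show Commute a b from hC.2 a b (hmem a ha) (hmem b hb)).mul_pow, show a ^ 2 = 1 from ha,
          show b ^ 2 = 1 from hb, one_mul]
      inv_mem' := fun {a} ha => by
        show a⁻¹ ^ 2 = 1
        rw [inv_pow, show a ^ 2 = 1 from ha, inv_one] }
  have hAn : A.Normal := ⟨fun a ha g => by
    show (g * a * g⁻¹) ^ 2 = 1
    rw [conj_pow, show a ^ 2 = 1 from ha, mul_one, mul_inv_cancel]⟩
  have hA : A = ⊥ := h.noP' A hAn fun hd => hC.1 (hd.trans (card_dvd_of_le fun a ha =>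
    mem_centralizer_singleton_iff.2 (hmem a ha)))
  have : t ∈ A := by show t ^ 2 = 1; rw [← ht, pow_orderOf_eq_one]
  rw [hA, mem_bot] at this
  rw [this, orderOf_one] at ht
  omega

theorem conj_invol (h : Bad P H) {s t : G} (hs : orderOf s = 2) (ht : orderOf t = 2) : ∃ g, g * s * g⁻¹ = t := by
  by_cases hst : s * t = t * s
  · obtain ⟨r, hr, hsr⟩ := h.exists_noncomm hs
    have htr : r * t ≠ t * r := by
      intro e
      exact hsr ((h.cent_p' (fun e => by rw [e, orderOf_one] at ht; omega) (h.not_pel_of_inv ht)).2 s r hst e)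
    obtain ⟨-, -, g1, hg1⟩ := h.single_class hs hr hsr
    obtain ⟨-, -, g2, hg2⟩ := h.single_class hr ht htr
    exact ⟨g2 * g1, by rw [← hg2, ← hg1]; group⟩
  · exact (h.single_class hs ht hst).2.2

end Bad

theorem card_modEq_fix {R : Subgroup G} (hR : IsPGroup p R) (S : G → Prop)
    (hS : ∀ r ∈ R, ∀ x, S x → S (r * x * r⁻¹)) :
    Nat.card {x // S x} ≡ Nat.card {x // S x ∧ ∀ r ∈ R, r * x = x * r} [MOD p] := by
  let act : MulAction R {x // S x} :=
    { smul := fun r x => ⟨(r : G) * x * (r : G)⁻¹, hS r r.2 x x.2⟩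
      one_smul := fun x => Subtype.ext (by show ((1 : R) : G) * x * ((1 : R) : G)⁻¹ = x; simp)
      mul_smul := fun a b x => Subtype.ext (by
        show ((a * b : R) : G) * x * ((a * b : R) : G)⁻¹ = a * (b * x * (b : G)⁻¹) * (a : G)⁻¹
        rw [Subgroup.coe_mul]; group) }
  refine (hR.card_modEq_card_fixedPoints {x // S x}).trans ?_
  refine congrArg (· % p) ?_
  refine Nat.card_congr
    { toFun := fun x => ⟨(x : {x // S x}).1, (x : {x // S x}).2, fun r hr => mul_inv_eq_iff_eq_mul.1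
        (congrArg Subtype.val (x.2 ⟨r, hr⟩))⟩
      invFun := fun x => ⟨⟨x.1, x.2.1⟩, fun r => Subtype.ext (mul_inv_eq_iff_eq_mul.2 (x.2.2 r r.2))⟩
      left_inv := fun x => rfl
      right_inv := fun x => rfl }

namespace Bad

variable {P : Sylow p G} {H : Subgroup G}

theorem card_commuting (h : Bad P H) {t : G} (ht : orderOf t = 2) :
    p ∣ Nat.card {s : G // orderOf s = 2 ∧ s * t = t * s} := by
  classical
  obtain ⟨Q, hQ⟩ := (IsPGroup.of_card (p := 2) (G := zpowers t) (n := 1) (by rw [Nat.card_zpowers, ht, pow_one])).exists_le_sylow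
  have hp2 : ¬ p ∣ 2 := fun hd => h.odd ((Nat.prime_dvd_prime_iff_eq hp.out Nat.prime_two).1 hd)
  have hQp : ¬ p ∣ Nat.card ↥(Q : Subgroup G) := fun hd => by
    obtain ⟨k, hk⟩ := IsPGroup.iff_card.1 Q.isPGroup'
    exact hp2 (hp.out.dvd_of_dvd_pow (hk ▸ hd))
  have htQ : t ∈ (Q : Subgroup G) := hQ (mem_zpowers t)
  have ht1 : t ≠ 1 := fun e => by rw [e, orderOf_one] at ht; omega
  have hC := h.cent_p' ht1 (h.not_pel_of_inv ht)
  have hQt : ∀ z ∈ (Q : Subgroup G), z * t = t * z := fun z hz =>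
    congrArg Subtype.val ((h.hab _ hQp).is_comm.comm ⟨z, hz⟩ ⟨t, htQ⟩)
  have hin : ∀ s : G, orderOf s = 2 → s * t = t * s → s ∈ (Q : Subgroup G) := fun s hs hst =>
    mem_sylow (p := 2) (centralizer_le_normalizer _ (mem_centralizer_iff.2 fun z hz => hC.2 z s (hQt z hz) hst))
      ⟨1, by rw [hs, pow_one]⟩
  obtain ⟨v, hvN, hv, hvC⟩ := h.exists_mover (q := 2) h.odd.symm (ht ▸ orderOf_dvd_natCard t) Q
  have hv1 : v ≠ 1 := fun e => hvC (e ▸ one_mem _)
  have hvp : IsPGroup p (zpowers v) := by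
    obtain ⟨k, hk⟩ := hv
    exact IsPGroup.of_card (n := k) (by rw [Nat.card_zpowers, hk])
  have hmod := card_modEq_fix hvp (fun s => orderOf s = 2 ∧ s * t = t * s) (fun r hr x hx => by
    have h1 : r * x * r⁻¹ ∈ (Q : Subgroup G) :=
      (mem_normalizer_iff.1 (zpowers_le.2 hvN hr) x).1 (hin x hx.1 hx.2)
    exact ⟨by rw [← hx.1]; exact MulEquiv.orderOf_eq (MulAut.conj r) x, hQt _ h1⟩)
  haveI : IsEmpty {s : G // (orderOf s = 2 ∧ s * t = t * s) ∧ ∀ r ∈ zpowers v, r * s = s * r} :=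
    ⟨fun s => h.not_pel_of_inv s.2.1.1 (h.cent_pel hv hv1 (s.2.2 v (mem_zpowers v)).symm)⟩
  rw [Nat.card_of_isEmpty (α := {s : G // (orderOf s = 2 ∧ s * t = t * s) ∧ ∀ r ∈ zpowers v, r * s = s * r})] at hmod
  exact Nat.modEq_zero_iff_dvd.1 hmod

theorem false (h : Bad P H) : False := by
  classical
  haveI : Fintype G := Fintype.ofFinite G
  haveI := h.cyc
  obtain ⟨t0, ht0⟩ := exists_prime_orderOf_dvd_card' 2 h.even_card
  set I := Finset.univ.filter (fun s : G => orderOf s = 2) with hI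
  set Ct : G → Finset G := fun t => Finset.univ.filter (fun s : G => orderOf s = 2 ∧ s * t = t * s) with hCt
  have hsq : ∀ w : G, orderOf w = 2 → w * w = 1 := fun w hw => by rw [← pow_two, ← hw, pow_orderOf_eq_one]
  have hcard : ∀ (S : G → Prop) [DecidablePred S], (Finset.univ.filter S).card = Nat.card {x // S x} := fun S _ => by
    rw [Nat.card_eq_fintype_card, Fintype.card_subtype]
  -- |P| divides the number of involutions
  have hA := (h.cent_p' (fun e => by rw [e, orderOf_one] at ht0; omega) (h.not_pel_of_inv ht0)).1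
  have hIA : I.card * Nat.card (centralizer ({t0} : Set G)) = Nat.card G := by
    rw [hI, hcard, ← Subgroup.index_mul_card (centralizer ({t0} : Set G))]
    congr 1
    let f : G ⧸ centralizer ({t0} : Set G) → {x : G // orderOf x = 2} := Quotient.lift
      (fun g => (⟨g * t0 * g⁻¹, by rw [← ht0]; exact MulEquiv.orderOf_eq (MulAut.conj g) t0⟩ : {x : G // orderOf x = 2}))
      (fun a b hab => Subtype.ext (by
        have h1 : a⁻¹ * b ∈ centralizer ({t0} : Set G) := QuotientGroup.leftRel_apply.1 hab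
        rw [mem_centralizer_singleton_iff] at h1
        show a * t0 * a⁻¹ = b * t0 * b⁻¹
        calc a * t0 * a⁻¹ = a * (t0 * (a⁻¹ * b)) * b⁻¹ := by group
          _ = b * t0 * b⁻¹ := by rw [← h1]; group))
    rw [Subgroup.index_eq_card]
    refine (Nat.card_eq_of_bijective f ⟨?_, ?_⟩).symm
    · intro x y hxy
      induction x using QuotientGroup.induction_on with | H a => ?_
      induction y using QuotientGroup.induction_on with | H b => ?_
      have e : a * t0 * a⁻¹ = b * t0 * b⁻¹ := congrArg Subtype.val hxy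
      rw [QuotientGroup.eq, mem_centralizer_singleton_iff]
      calc a⁻¹ * b * t0 = a⁻¹ * (b * t0 * b⁻¹) * b := by group
        _ = t0 * (a⁻¹ * b) := by rw [← e]; group
    · rintro ⟨s, hs⟩
      obtain ⟨g, hg⟩ := h.conj_invol ht0 hs
      exact ⟨QuotientGroup.mk g, Subtype.ext hg⟩
  have hPI : Nat.card ↥(P : Subgroup G) ∣ I.card := by
    obtain ⟨k, hk⟩ := IsPGroup.iff_card.1 P.isPGroup'
    refine ((hp.out.coprime_iff_not_dvd.2 hA).pow_left k |>.dvd_of_dvd_mul_right (?_ : p ^ k ∣ _)) |> (hk ▸ ·)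
    rw [hIA, ← hk]
    exact card_subgroup_dvd_card _
  have hpP : p ∣ Nat.card ↥(P : Subgroup G) :=
    P.isPGroup'.card_eq_or_dvd.resolve_left fun e => h.notNormal (by rw [Subgroup.card_eq_one.1 e]; infer_instance)
  -- inverted p-elements
  set U := Finset.univ.filter (fun u : G => u ≠ 1 ∧ (∃ k, orderOf u = p ^ k) ∧ ∃ s, orderOf s = 2 ∧ s * u * s⁻¹ = u⁻¹) with hU
  obtain ⟨r, hr, htr⟩ := h.exists_noncomm ht0
  have hne2 : ∀ u : G, u ≠ 1 → (∃ k, orderOf u = p ^ k) → u ≠ u⁻¹ := by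
    intro u hu1 ⟨k, hk⟩ e
    have h2 : u ^ 2 = 1 := by rw [pow_two]; exact mul_eq_one_iff_eq_inv.2 e
    exact h.not_pel_of_inv (orderOf_eq_prime h2 hu1) ⟨k, hk⟩
  -- some involution inverts P
  obtain ⟨i0, hi0, hinvP⟩ : ∃ i0, orderOf i0 = 2 ∧ ∀ n ∈ (P : Subgroup G), i0 * n * i0⁻¹ = n⁻¹ := by
    obtain ⟨hu, hu1, -⟩ := h.single_class ht0 hr htr
    obtain ⟨g, hg⟩ := exists_conj_mem P hu
    set u' := g * (t0 * r) * g⁻¹ with hu'
    set i := g * t0 * g⁻¹ with hi
    have hio : orderOf i = 2 := by rw [← ht0]; exact MulEquiv.orderOf_eq (MulAut.conj g) t0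
    have hu'1 : u' ≠ 1 := fun e => hu1 ((conj_eq_one_iff).1 e)
    have hiu : i * u' * i⁻¹ = u'⁻¹ := by
      have hti : t0⁻¹ = t0 := inv_eq_of_mul_eq_one_right (hsq _ ht0)
      have hri : r⁻¹ = r := inv_eq_of_mul_eq_one_right (hsq _ hr)
      rw [hi, hu']
      calc g * t0 * g⁻¹ * (g * (t0 * r) * g⁻¹) * (g * t0 * g⁻¹)⁻¹ = g * ((t0 * t0) * r * t0⁻¹) * g⁻¹ := by group
        _ = g * (r⁻¹ * t0⁻¹) * g⁻¹ := by rw [hsq _ ht0, one_mul, hri]
        _ = (g * (t0 * r) * g⁻¹)⁻¹ := by group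
    have hiN : i ∈ normalizer ((P : Subgroup G) : Set G) := by
      refine h.ti (zpowers u') (zpowers_le.2 hg) (zpowers_ne_bot.2 hu'1) ?_
      rw [← conj_smul_eq_self_iff]
      refine eq_of_le_of_card_ge ?_ (card_conj_smul _ (zpowers u')).ge
      intro w hw
      rw [mem_conj_smul] at hw
      obtain ⟨j, hj⟩ := hw
      have : w = (i * u' * i⁻¹) ^ j := by
        rw [conj_zpow]
        simp only at hj
        rw [hj]; group
      rw [this, hiu]
      exact zpow_mem (inv_mem (mem_zpowers _)) j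
    refine ⟨i, hio, fun n hn => ?_⟩
    have hii : i⁻¹ = i := inv_eq_of_mul_eq_one_right (hsq _ hio)
    have hn' : i * n * i⁻¹ ∈ (P : Subgroup G) := (mem_normalizer_iff.1 hiN n).1 hn
    haveI : IsMulCommutative (P : Subgroup G) := ⟨⟨fun a b => (IsCyclic.commGroup (α := (P : Subgroup G))).mul_comm a b⟩⟩
    have hcn : n * (i * n * i⁻¹) = i * n * i⁻¹ * n :=
      congrArg Subtype.val (IsMulCommutative.is_comm.comm (⟨n, hn⟩ : (P : Subgroup G)) ⟨_, hn'⟩)
    have hfix : i * (n * (i * n * i⁻¹)) = n * (i * n * i⁻¹) * i := by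
      rw [← mul_inv_eq_iff_eq_mul]
      conv_rhs => rw [hcn]
      calc i * (n * (i * n * i⁻¹)) * i⁻¹ = i * n * i * n * (i⁻¹ * i⁻¹) := by group
        _ = i * n * i * n := by rw [hii, hsq _ hio, mul_one]
        _ = i * n * i⁻¹ * n := by rw [hii]
    by_contra hne
    have hm1 : n * (i * n * i⁻¹) ≠ 1 := fun e => hne (eq_inv_of_mul_eq_one_right e)
    exact h.not_pel_of_inv hio (order_pow_of_mem P.isPGroup' (h.cent_mem_P (mul_mem hn hn') hm1 hfix))
  -- the number of inverting involutions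
  have hfib : ∀ u ∈ U, (I.filter fun s => s * u * s⁻¹ = u⁻¹).card = Nat.card ↥(P : Subgroup G) := by
    intro u hu
    obtain ⟨-, hu1, hup, s0, hs0, hs0u⟩ := Finset.mem_filter.1 hu
    obtain ⟨g, hg⟩ := exists_conj_mem P hup
    set u' := g * u * g⁻¹ with hu'
    have hu'1 : u' ≠ 1 := fun e => hu1 ((conj_eq_one_iff).1 e)
    rw [hI, Finset.filter_filter, hcard]
    have hi0i : i0⁻¹ = i0 := inv_eq_of_mul_eq_one_right (hsq _ hi0)
    have hord : ∀ n ∈ (P : Subgroup G), orderOf (g⁻¹ * (i0 * n) * g) = 2 := by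
      intro n hn
      have e1 : orderOf (i0 * n) = 2 := by
        refine orderOf_eq_prime ?_ fun e => ?_
        · rw [pow_two]
          calc i0 * n * (i0 * n) = i0 * n * i0⁻¹ * n := by rw [hi0i, ← mul_assoc]
            _ = 1 := by rw [hinvP n hn, inv_mul_cancel]
        · exact h.not_pel_of_inv hi0 (order_pow_of_mem P.isPGroup' (by
            rw [eq_inv_of_mul_eq_one_left e]; exact inv_mem hn))
      rw [← e1]; convert MulEquiv.orderOf_eq (MulAut.conj g⁻¹) (i0 * n) using 2; simp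
    haveI : IsMulCommutative (P : Subgroup G) := ⟨⟨fun a b => (IsCyclic.commGroup (α := (P : Subgroup G))).mul_comm a b⟩⟩
    have hsinv : ∀ n ∈ (P : Subgroup G), g⁻¹ * (i0 * n) * g * u * (g⁻¹ * (i0 * n) * g)⁻¹ = u⁻¹ := by
      intro n hn
      have hcn : n * u' = u' * n :=
        congrArg Subtype.val (IsMulCommutative.is_comm.comm (⟨n, hn⟩ : (P : Subgroup G)) ⟨_, hg⟩)
      calc g⁻¹ * (i0 * n) * g * u * (g⁻¹ * (i0 * n) * g)⁻¹ = g⁻¹ * (i0 * (n * (g * u * g⁻¹) * n⁻¹) * i0⁻¹) * g := by group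
        _ = g⁻¹ * (i0 * u' * i0⁻¹) * g := by rw [← hu', hcn, mul_inv_cancel_right]
        _ = u⁻¹ := by rw [hinvP u' hg, hu']; group
    refine (Nat.card_eq_of_bijective (fun n : ↥(P : Subgroup G) =>
      (⟨g⁻¹ * (i0 * (n : G)) * g, hord n n.2, hsinv n n.2⟩ : {x : G // orderOf x = 2 ∧ x * u * x⁻¹ = u⁻¹})) ⟨?_, ?_⟩).symm
    · intro a b e
      exact Subtype.ext (mul_left_cancel (mul_left_cancel (mul_right_cancel (congrArg Subtype.val e))))
    · rintro ⟨s, hs, hsu⟩
      have hmem : i0 * (g * s * g⁻¹) ∈ (P : Subgroup G) := by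
        refine h.cent_mem_P hg hu'1 ?_
        have h3 : g * s * g⁻¹ * u' * (g * s * g⁻¹)⁻¹ = u'⁻¹ := by
          rw [hu']
          calc g * s * g⁻¹ * (g * u * g⁻¹) * (g * s * g⁻¹)⁻¹ = g * (s * u * s⁻¹) * g⁻¹ := by group
            _ = (g * u * g⁻¹)⁻¹ := by rw [hsu]; group
        calc i0 * (g * s * g⁻¹) * u' = i0 * (g * s * g⁻¹ * u' * (g * s * g⁻¹)⁻¹) * (g * s * g⁻¹) := by group
          _ = i0 * u'⁻¹ * i0⁻¹ * (i0 * (g * s * g⁻¹)) := by rw [h3]; group
          _ = u' * (i0 * (g * s * g⁻¹)) := by rw [hinvP _ (inv_mem hg), inv_inv]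
      refine ⟨⟨_, hmem⟩, Subtype.ext ?_⟩
      show g⁻¹ * (i0 * (i0 * (g * s * g⁻¹))) * g = s
      rw [← mul_assoc i0 i0, hsq _ hi0, one_mul]; group
  -- double counting
  set Pr := (I ×ˢ I).filter (fun st : G × G => st.1 * st.2 ≠ st.2 * st.1) with hPr
  have hc1 : Pr.card = U.card * Nat.card ↥(P : Subgroup G) := by
    have hmap : ∀ st ∈ Pr, st.1 * st.2 ∈ U := by
      rintro ⟨s, t⟩ hst
      rw [hPr, Finset.mem_filter, Finset.mem_product, hI, Finset.mem_filter, Finset.mem_filter] at hst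
      obtain ⟨hu, hu1, -⟩ := h.single_class hst.1.1.2 hst.1.2.2 hst.2
      rw [hU, Finset.mem_filter]
      refine ⟨Finset.mem_univ _, hu1, hu, s, hst.1.1.2, ?_⟩
      rw [mul_inv_rev, inv_eq_of_mul_eq_one_right (hsq _ hst.1.1.2), inv_eq_of_mul_eq_one_right (hsq _ hst.1.2.2),
        ← mul_assoc s s t, hsq _ hst.1.1.2, one_mul]
    rw [Finset.card_eq_sum_card_fiberwise hmap, Finset.sum_const_nat]
    intro u hu
    rw [← hfib u hu]
    obtain ⟨-, hu1, hup, -⟩ := Finset.mem_filter.1 hu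
    refine Finset.card_bij' (fun st _ => st.1) (fun s _ => (s, s * u)) ?_ ?_ ?_ ?_
    · rintro ⟨s, t⟩ hst
      simp only [hPr, hI, Finset.mem_filter, Finset.mem_product, Finset.mem_univ, true_and] at hst ⊢
      obtain ⟨⟨⟨hs, ht⟩, -⟩, rfl⟩ := hst
      refine ⟨hs, ?_⟩
      rw [mul_inv_rev, inv_eq_of_mul_eq_one_right (hsq _ hs), inv_eq_of_mul_eq_one_right (hsq _ ht),
        ← mul_assoc s s t, hsq _ hs, one_mul]
    · intro s hs
      simp only [hPr, hI, Finset.mem_filter, Finset.mem_product, Finset.mem_univ, true_and] at hs ⊢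
      obtain ⟨hs, hsu⟩ := hs
      have hsi : s⁻¹ = s := inv_eq_of_mul_eq_one_right (hsq _ hs)
      rw [hsi] at hsu
      refine ⟨⟨⟨hs, orderOf_eq_prime ?_ fun e => h.not_pel_of_inv hs ?_⟩, ?_⟩, by rw [← mul_assoc, hsq _ hs, one_mul]⟩
      · rw [pow_two]
        calc s * u * (s * u) = s * u * s * u := by group
          _ = 1 := by rw [hsu, inv_mul_cancel]
      · rw [eq_inv_of_mul_eq_one_left e, orderOf_inv]; exact hup
      · rw [← mul_assoc, hsq _ hs, one_mul, hsu]
        exact hne2 u hu1 hup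
    · rintro ⟨s, t⟩ hst
      simp only [hPr, hI, Finset.mem_filter, Finset.mem_product, Finset.mem_univ, true_and] at hst
      obtain ⟨⟨⟨hs, -⟩, -⟩, rfl⟩ := hst
      show (s, s * (s * t)) = (s, t)
      rw [← mul_assoc, hsq _ hs, one_mul]
    · intro s _; rfl
  have hc2 : Pr.card + I.card * (Ct t0).card = I.card * I.card := by
    have h1 : ((I ×ˢ I).filter (fun st : G × G => ¬ st.1 * st.2 ≠ st.2 * st.1)).card = I.card * (Ct t0).card := by
      have hmap : ∀ st ∈ (I ×ˢ I).filter (fun st : G × G => ¬ st.1 * st.2 ≠ st.2 * st.1), st.2 ∈ I := fun st hst =>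
        (Finset.mem_product.1 (Finset.mem_filter.1 hst).1).2
      rw [Finset.card_eq_sum_card_fiberwise hmap, Finset.sum_const_nat]
      intro t ht
      rw [hI, Finset.mem_filter] at ht
      obtain ⟨g, hg⟩ := h.conj_invol ht0 ht.2
      refine Finset.card_bij' (fun st _ => g⁻¹ * st.1 * g) (fun s _ => (g * s * g⁻¹, t)) ?_ ?_ ?_ ?_
      · rintro ⟨s, t'⟩ hst
        simp only [hI, hCt, Finset.mem_filter, Finset.mem_product, Finset.mem_univ, true_and, not_not] at hst ⊢
        obtain ⟨⟨⟨hs, -⟩, hc⟩, rfl⟩ := hst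
        refine ⟨by rw [← hs]; convert MulEquiv.orderOf_eq (MulAut.conj g⁻¹) s using 2; simp, ?_⟩
        calc g⁻¹ * s * g * t0 = g⁻¹ * (s * (g * t0 * g⁻¹)) * g := by group
          _ = g⁻¹ * ((g * t0 * g⁻¹) * s) * g := by rw [hg, hc]
          _ = t0 * (g⁻¹ * s * g) := by group
      · intro s hs
        simp only [hI, hCt, Finset.mem_filter, Finset.mem_product, Finset.mem_univ, true_and, not_not] at hs ⊢
        refine ⟨⟨⟨(MulEquiv.orderOf_eq (MulAut.conj g) s).trans hs.1, ht.2⟩, ?_⟩, trivial⟩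
        rw [← hg]; exact ((Commute.conj_iff g).2 hs.2).eq
      · rintro ⟨s, t'⟩ hst
        simp only [Finset.mem_filter] at hst
        obtain ⟨-, rfl⟩ := hst
        simp [mul_assoc]
      · intro s _
        simp [mul_assoc]
    have h2 := Finset.card_filter_add_card_filter_not (s := I ×ˢ I) (fun st : G × G => st.1 * st.2 ≠ st.2 * st.1)
    rw [h1, Finset.card_product, ← hPr] at h2
    exact h2
  -- the congruence
  have hUmod : p ∣ U.card + 1 := by
    have hmod := card_modEq_fix P.isPGroup'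
      (fun u : G => u ≠ 1 ∧ (∃ k, orderOf u = p ^ k) ∧ ∃ s, orderOf s = 2 ∧ s * u * s⁻¹ = u⁻¹) (fun n _ u hu => by
      obtain ⟨hu1, ⟨k, hk⟩, s, hs, hsu⟩ := hu
      refine ⟨fun e => hu1 ((conj_eq_one_iff).1 e), ⟨k, by rw [← hk]; exact MulEquiv.orderOf_eq (MulAut.conj n) u⟩,
        n * s * n⁻¹, by rw [← hs]; exact MulEquiv.orderOf_eq (MulAut.conj n) s, ?_⟩
      calc n * s * n⁻¹ * (n * u * n⁻¹) * (n * s * n⁻¹)⁻¹ = n * (s * u * s⁻¹) * n⁻¹ := by group
        _ = (n * u * n⁻¹)⁻¹ := by rw [hsu]; group)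
    rw [← hcard, ← hU] at hmod
    obtain ⟨z, hz, hz1⟩ : ∃ z ∈ (P : Subgroup G), z ≠ 1 := by
      by_contra hno
      push Not at hno
      exact h.notNormal (((eq_bot_iff_forall _).2 hno) ▸ inferInstance)
    have hfix : Nat.card {x : G // (x ≠ 1 ∧ (∃ k, orderOf x = p ^ k) ∧ ∃ s, orderOf s = 2 ∧ s * x * s⁻¹ = x⁻¹) ∧
        ∀ r ∈ (P : Subgroup G), r * x = x * r} + 1 = Nat.card ↥(P : Subgroup G) := by
      have e1 : Nat.card {x : G // (x ≠ 1 ∧ (∃ k, orderOf x = p ^ k) ∧ ∃ s, orderOf s = 2 ∧ s * x * s⁻¹ = x⁻¹) ∧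
          ∀ r ∈ (P : Subgroup G), r * x = x * r} = ((Finset.univ.filter fun x : G => x ∈ (P : Subgroup G)).erase 1).card := by
        rw [← hcard]
        congr 1
        ext x
        simp only [Finset.mem_filter, Finset.mem_univ, true_and, Finset.mem_erase]
        constructor
        · rintro ⟨⟨hx1, -⟩, hxr⟩
          exact ⟨hx1, h.cent_mem_P hz hz1 (hxr z hz).symm⟩
        · rintro ⟨hx1, hx⟩
          haveI : IsMulCommutative (P : Subgroup G) := ⟨⟨fun a b => (IsCyclic.commGroup (α := (P : Subgroup G))).mul_comm a b⟩⟩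
          exact ⟨⟨hx1, order_pow_of_mem P.isPGroup' hx, i0, hi0, hinvP x hx⟩, fun r hr =>
            congrArg Subtype.val (IsMulCommutative.is_comm.comm (⟨r, hr⟩ : (P : Subgroup G)) ⟨x, hx⟩)⟩
      rw [e1, Finset.card_erase_add_one (by simp), hcard]
    rw [Nat.ModEq] at hmod
    have h1 : p ∣ Nat.card ↥(P : Subgroup G) := hpP
    rw [← hfix] at h1
    exact Nat.modEq_zero_iff_dvd.1 ((Nat.ModEq.add_right 1 hmod).trans (Nat.modEq_zero_iff_dvd.2 h1))
  have ha : p ∣ (Ct t0).card := by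
    rw [hCt]
    simp only
    rw [hcard]
    exact h.card_commuting ht0
  obtain ⟨c, hc⟩ := hPI
  have hPpos : 0 < Nat.card ↥(P : Subgroup G) := Nat.card_pos
  have hUp : p ∣ U.card := by
    have h3 : U.card + c * (Ct t0).card = c * (Nat.card ↥(P : Subgroup G) * c) := by
      rw [hc1, hc] at hc2
      refine Nat.eq_of_mul_eq_mul_left hPpos ?_
      linarith
    exact (Nat.dvd_add_left (ha.mul_left c)).1 (h3 ▸ (hpP.mul_right c).mul_left c)
  have h4 := Nat.dvd_sub hUmod hUp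
  rw [Nat.add_sub_cancel_left, Nat.dvd_one] at h4
  exact hp.out.ne_one h4

end Bad

theorem comm_of_cyclic {X : Subgroup G} (hX : IsCyclic X) {a b : G} (ha : a ∈ X) (hb : b ∈ X) : a * b = b * a :=
  congrArg Subtype.val ((IsCyclic.commGroup (α := X)).mul_comm ⟨a, ha⟩ ⟨b, hb⟩)

theorem coprime_card {X : Subgroup G} (hX : ¬ p ∣ Nat.card X) (P : Sylow p G) :
    (Nat.card X).Coprime (Nat.card ↥(P : Subgroup G)) := by
  obtain ⟨k, hk⟩ := IsPGroup.iff_card.1 P.isPGroup'
  rw [hk]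
  exact (hp.out.coprime_iff_not_dvd.2 hX).symm.pow_right k

/-- The dichotomy. -/
theorem main (n : ℕ) : ∀ (G : Type u) [Group G] [Finite G], Nat.card G ≤ n → ∀ P : Sylow p G, IsCyclic P →
    (∀ X : Subgroup G, ¬ p ∣ Nat.card X → IsMulCommutative X) →
    Cfsg.HasNormalPComplement p G ∨ (P : Subgroup G).Normal := by
  induction n with
  | zero => intro G _ _ h; have := Nat.card_pos (α := G); omega
  | succ n ih =>
  intro G _ _ hn P hcyc hab
  by_contra hno
  push Not at hno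
  obtain ⟨hnc, hnn⟩ := hno
  haveI := hcyc
  have hsub : ∀ X : Subgroup G, X ≠ ⊤ →
      (∃ K ≤ X, ¬ p ∣ Nat.card K ∧ (∀ z ∈ X, (orderOf z).Coprime p → z ∈ K) ∧ X ≤ normalizer (K : Set G)) ∨
      (∃ R ≤ X, IsPGroup p R ∧ (∀ z ∈ X, (∃ k, orderOf z = p ^ k) → z ∈ R) ∧ X ≤ normalizer (R : Set G)) := by
    intro X hX
    have hlt : Nat.card X < Nat.card G :=
      lt_of_le_of_ne (Nat.le_of_dvd Nat.card_pos X.card_subgroup_dvd_card) (fun e => hX (X.eq_top_of_card_eq e))
    obtain ⟨PX⟩ : Nonempty (Sylow p X) := inferInstance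
    have hPXc : IsCyclic PX := by
      obtain ⟨Q, hQ⟩ := (PX.isPGroup'.map X.subtype).exists_le_sylow
      obtain ⟨g, hg⟩ := MulAction.exists_smul_eq G P Q
      haveI : IsCyclic Q := by
        rw [← hg]
        exact (P.equiv (g • P)).isCyclic.1 hcyc
      haveI : IsCyclic ((PX : Subgroup X).map X.subtype) := isCyclic_of_injective (inclusion hQ) (inclusion_injective hQ)
      exact ((PX : Subgroup X).equivMapOfInjective X.subtype X.subtype_injective).isCyclic.2 inferInstance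
    have hXab : ∀ Y : Subgroup X, ¬ p ∣ Nat.card Y → IsMulCommutative Y := by
      intro Y hY
      have h1 := hab (Y.map X.subtype) (by rwa [card_map_of_injective X.subtype_injective])
      refine ⟨⟨fun a b => Subtype.ext (Subtype.ext ?_)⟩⟩
      have e := congrArg Subtype.val (h1.is_comm.comm ⟨_, mem_map_of_mem X.subtype a.2⟩ ⟨_, mem_map_of_mem X.subtype b.2⟩)
      simpa using e
    rcases ih X (by omega) PX hPXc hXab with ⟨PX', N, hN, hc⟩ | hnorm
    · left
      obtain ⟨hNc, k, hk⟩ := Cfsg.Lib.Transfer.coprime_card_of_isComplement' hc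
      refine ⟨N.map X.subtype, map_subtype_le N, ?_, ?_, ?_⟩
      · rw [card_map_of_injective X.subtype_injective]
        exact hp.out.coprime_iff_not_dvd.1 hNc.symm
      · intro z hz hzo
        refine ⟨⟨z, hz⟩, ?_, rfl⟩
        show (⟨z, hz⟩ : X) ∈ N
        rw [← QuotientGroup.eq_one_iff, ← orderOf_eq_one_iff]
        refine Nat.eq_one_of_dvd_coprimes (hzo.pow_right k)
          ((orderOf_map_dvd (QuotientGroup.mk' N) (⟨z, hz⟩ : X)).trans (Subgroup.orderOf_mk z hz).dvd) ?_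
        rw [← hk, index_eq_card]
        exact orderOf_dvd_natCard _
      · intro z hz
        rw [mem_normalizer_iff]
        intro w
        constructor
        · rintro ⟨a, ha, rfl⟩
          exact ⟨⟨z, hz⟩ * a * ⟨z, hz⟩⁻¹, hN.conj_mem a ha _, rfl⟩
        · rintro ⟨a, ha, e⟩
          refine ⟨⟨z, hz⟩⁻¹ * a * ⟨z, hz⟩, by simpa using hN.conj_mem a ha (⟨z, hz⟩ : X)⁻¹, ?_⟩
          show z⁻¹ * (a : G) * z = w
          rw [show (a : G) = z * w * z⁻¹ from e]; group
    · right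
      refine ⟨(PX : Subgroup X).map X.subtype, map_subtype_le _, PX.isPGroup'.map _, ?_, ?_⟩
      · intro z hz hzo
        exact ⟨⟨z, hz⟩, mem_sylow (P := PX) (by rw [normalizer_eq_top_iff.2 hnorm]; exact mem_top _)
          (by simpa [Subgroup.orderOf_mk] using hzo), rfl⟩
      · intro z hz
        rw [mem_normalizer_iff]
        intro w
        constructor
        · rintro ⟨a, ha, rfl⟩
          exact ⟨⟨z, hz⟩ * a * ⟨z, hz⟩⁻¹, hnorm.conj_mem a ha _, rfl⟩
        · rintro ⟨a, ha, e⟩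
          refine ⟨⟨z, hz⟩⁻¹ * a * ⟨z, hz⟩, ?_, ?_⟩
          · have h5 := hnorm.conj_mem a ha (⟨z, hz⟩ : X)⁻¹
            rw [inv_inv] at h5
            exact h5
          show z⁻¹ * (a : G) * z = w
          rw [show (a : G) = z * w * z⁻¹ from e]; group
  have hpG : p ∣ Nat.card G := by
    by_contra hd
    obtain ⟨k, hk⟩ := IsPGroup.iff_card.1 P.isPGroup'
    have : Nat.card ↥(P : Subgroup G) = 1 := by
      rcases k with _ | k
      · rw [hk, pow_zero]
      · exact absurd ((dvd_pow_self p (Nat.succ_ne_zero k)).trans (hk ▸ card_subgroup_dvd_card _)) hd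
    exact hnn (by rw [Subgroup.card_eq_one.1 this]; infer_instance)
  have hnle : ¬ normalizer ((P : Subgroup G) : Set G) ≤ centralizer ((P : Subgroup G) : Set G) := fun h =>
    hnc (Cfsg.Lib.Transfer.hasNormalPComplement_of_normalizer_le_centralizer P h)
  have hodd : p ≠ 2 := by
    intro e
    refine hnle (IsCyclic.normalizer_le_centralizer (P := P) ?_ hcyc)
    subst e
    exact (Nat.minFac_eq_two_iff _).2 hpG
  -- complement of P in its normalizer
  set NP := normalizer ((P : Subgroup G) : Set G) with hNP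
  have hPNP : (P : Subgroup G) ≤ NP := le_normalizer
  haveI : ((P : Subgroup G).subgroupOf NP).Normal := normal_in_normalizer
  have hcopN : (Nat.card ((P : Subgroup G).subgroupOf NP)).Coprime ((P : Subgroup G).subgroupOf NP).index :=
    (P.subtype hPNP).card_coprime_index
  obtain ⟨H0, hH0⟩ := Subgroup.exists_right_complement'_of_coprime hcopN
  set H := H0.map NP.subtype with hH
  have hHle : H ≤ NP := map_subtype_le _
  have hHc : (Nat.card H).Coprime (Nat.card ↥(P : Subgroup G)) := by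
    rw [hH, card_map_of_injective NP.subtype_injective, ← hH0.symm.index_eq_card]
    rwa [Nat.coprime_comm, card_subgroupOf hPNP] at hcopN
  have hPp : p ∣ Nat.card ↥(P : Subgroup G) :=
    P.isPGroup'.card_eq_or_dvd.resolve_left fun e => hnn (by rw [Subgroup.card_eq_one.1 e]; infer_instance)
  have hHp : ¬ p ∣ Nat.card H := fun hd =>
    hp.out.one_lt.ne' (Nat.eq_one_of_dvd_coprimes hHc hd hPp)
  have hsup : H ⊔ (P : Subgroup G) = NP := by
    have := congrArg (Subgroup.map NP.subtype) hH0.sup_eq_top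
    rw [Subgroup.map_sup, ← MonoidHom.range_eq_map, range_subtype, map_subgroupOf_eq_of_le hPNP] at this
    rw [hH, sup_comm]; exact this
  have hsolvP : Group.IsSolvable ↥(P : Subgroup G) :=
    letI := IsCyclic.commGroup (α := (P : Subgroup G))
    inferInstance
  have hconj : ∀ U ≤ NP, ¬ p ∣ Nat.card U → ∃ n ∈ (P : Subgroup G), U ≤ MulAut.conj n • H := fun U hU hUp =>
    Cfsg.Lib.Solv.exists_conj_le (P : Subgroup G) H U hHle (hU.trans hsup.ge) hHc (coprime_card hUp P) (Or.inl hsolvP)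
  obtain ⟨x, hxH, hxC⟩ : ∃ x ∈ H, x ∉ centralizer ((P : Subgroup G) : Set G) := by
    by_contra hno
    push Not at hno
    refine hnle (le_trans hsup.ge (sup_le hno ?_))
    exact fun u hu => mem_centralizer_iff.2 fun w hw => comm_of_cyclic hcyc hw hu
  have hxN : x ∈ NP := hHle hxH
  have hxo : (orderOf x).Coprime p := coprime_of_mem hHp hxH
  have hnofix : ∀ u ∈ (P : Subgroup G), x * u = u * x → u = 1 := fun u hu hxu => by
    by_contra hu1
    exact hxC (fix_all P.isPGroup' hxN hxo hu hu1 hxu)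
  -- every normal p'-subgroup is trivial
  have hnoP' : ∀ K : Subgroup G, K.Normal → ¬ p ∣ Nat.card K → K = ⊥ := by
    intro K hKn hK
    by_contra hKne
    have hKnorm : ∀ X : Subgroup G, X ≤ normalizer (K : Set G) := fun X => by
      rw [normalizer_eq_top_iff.2 hKn]; exact le_top
    have hCn : (centralizer (K : Set G)).Normal := inferInstance
    have hp'C : ∀ z : G, (orderOf z).Coprime p → z ∈ centralizer (K : Set G) := by
      intro z hz
      have hX := sup_p' (hKnorm (zpowers z)) hK (by rw [Nat.card_zpowers]; exact hp.out.coprime_iff_not_dvd.1 hz.symm)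
      exact mem_centralizer_iff.2 fun w hw =>
        congrArg Subtype.val ((hab _ hX).is_comm.comm ⟨w, mem_sup_left hw⟩ ⟨z, mem_sup_right (mem_zpowers z)⟩)
    have hPC : (P : Subgroup G) ≤ centralizer (K : Set G) := by
      haveI : IsMulCommutative (P : Subgroup G) := ⟨⟨fun a b => (IsCyclic.commGroup (α := (P : Subgroup G))).mul_comm a b⟩⟩
      obtain ⟨-, h2⟩ := coprime_abelian_decomposition (zpowers x) (P : Subgroup G) (zpowers_le.2 hxN)
        (by rw [Nat.card_zpowers]; obtain ⟨k, hk⟩ := IsPGroup.iff_card.1 P.isPGroup'; rw [hk]; exact hxo.pow_right k)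
      conv_lhs => rw [← h2]
      refine sup_le ?_ ?_
      · intro u hu
        rw [hnofix u hu.1 (mem_centralizer_iff.1 hu.2 x (mem_zpowers x))]
        exact one_mem _
      · refine (commutator_le).2 fun u _ w hw => ?_
        have hwC : w ∈ centralizer (K : Set G) := zpowers_le.2 (hp'C x hxo) hw
        rw [commutatorElement_def]
        exact mul_mem (hCn.conj_mem w hwC u) (inv_mem hwC)
    have hcent : ∀ g : G, g ∈ centralizer (K : Set G) := by
      intro g
      refine Cfsg.Lib.Transfer.mem_centralizer_of_prime_parts fun r hr y _ ⟨k, hk⟩ => ?_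
      by_cases hrp : r = p
      · obtain ⟨a, ha⟩ := exists_conj_mem P (u := y) ⟨k, hrp ▸ hk⟩
        have := hCn.conj_mem _ (hPC ha) a⁻¹
        simpa [mul_assoc] using this
      · exact hp'C y (hk ▸ ((Nat.coprime_primes hr hp.out).2 hrp).pow_left k)
    have hlt : Nat.card (G ⧸ K) < Nat.card G := by
      rw [← Subgroup.card_mul_index K, ← index_eq_card]
      have h1 := K.one_lt_card_iff_ne_bot.2 hKne
      have h2 : 0 < K.index := Nat.pos_of_ne_zero index_ne_zero_of_finite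
      exact lt_mul_of_one_lt_left h2 h1
    set π := QuotientGroup.mk' K
    have hπ : Function.Surjective π := QuotientGroup.mk'_surjective K
    set Pb := P.mapSurjective hπ with hPb
    have hPbc : IsCyclic Pb := by
      rw [hPb, Sylow.coe_mapSurjective]
      exact isCyclic_of_surjective (π.subgroupMap (P : Subgroup G)) (π.subgroupMap_surjective _)
    have hab' : ∀ X : Subgroup (G ⧸ K), ¬ p ∣ Nat.card X → IsMulCommutative X := by
      intro X hX
      have hc : Nat.card (X.comap π) = Nat.card X * Nat.card K := by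
        have h1 := Subgroup.index_comap_of_surjective (H := X) hπ
        have h2 := Subgroup.card_mul_index (X.comap π)
        have h3 := Subgroup.card_mul_index X
        have h4 := Subgroup.card_mul_index K
        rw [h1, ← h4, index_eq_card K, ← h3] at h2
        refine Nat.eq_of_mul_eq_mul_right (Nat.pos_of_ne_zero (index_ne_zero_of_finite (H := X))) ?_
        rw [h2]; ring
      have h1 := hab (X.comap π) (by rw [hc]; exact fun hd => (hp.out.dvd_mul.1 hd).elim hX hK)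
      refine ⟨⟨fun a b => Subtype.ext ?_⟩⟩
      obtain ⟨a', ha'⟩ := hπ a
      obtain ⟨b', hb'⟩ := hπ b
      have e := congrArg (fun z => π (Subtype.val z)) (h1.is_comm.comm
        ⟨a', mem_comap.2 (ha' ▸ a.2)⟩ ⟨b', mem_comap.2 (hb' ▸ b.2)⟩)
      simp only [Subgroup.coe_mul, map_mul, ha', hb'] at e
      exact e
    rcases ih (G ⧸ K) (by omega) Pb hPbc hab' with ⟨P', N, hN, hc⟩ | hnorm
    · refine hnc ⟨P, N.comap π, Subgroup.Normal.comap hN π, ?_⟩
      obtain ⟨hNc, k, hk⟩ := Cfsg.Lib.Transfer.coprime_card_of_isComplement' hc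
      have h1 : (N.comap π).index = N.index := Subgroup.index_comap_of_surjective (H := N) hπ
      have hcard : Nat.card (N.comap π) = Nat.card N * Nat.card K := by
        refine Nat.eq_of_mul_eq_mul_right (Nat.pos_of_ne_zero (index_ne_zero_of_finite (H := N))) ?_
        conv_lhs => rw [← h1, Subgroup.card_mul_index, ← Subgroup.card_mul_index K, index_eq_card K,
          ← Subgroup.card_mul_index N]
        ring
      have hp' : ¬ p ∣ Nat.card (N.comap π) := by
        rw [hcard]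
        exact fun hd => (hp.out.dvd_mul.1 hd).elim (hp.out.coprime_iff_not_dvd.1 hNc.symm) hK
      refine isComplement'_of_coprime ?_ (coprime_card hp' P)
      rw [← Subgroup.card_mul_index (N.comap π)]
      congr 1
      have e2 := P.card_eq_multiplicity
      have e3 := Subgroup.card_mul_index (N.comap π)
      rw [h1, hk] at e3
      rw [h1, hk, e2]
      congr 1
      rw [← e3, Nat.factorization_mul Nat.card_pos.ne' (pow_pos hp.out.pos k).ne', Finsupp.add_apply,
        Nat.factorization_eq_zero_of_not_dvd hp', hp.out.factorization_pow, Finsupp.single_eq_same, zero_add]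
    · refine hnn ⟨fun u hu g => ?_⟩
      obtain ⟨j, hj⟩ := order_pow_of_mem P.isPGroup' hu
      have hm : π (g * u * g⁻¹) ∈ (Pb : Subgroup (G ⧸ K)) := by
        rw [map_mul, map_mul, map_inv]
        exact hnorm.conj_mem _ (by rw [hPb, Sylow.coe_mapSurjective]; exact mem_map_of_mem π hu) _
      rw [hPb, Sylow.coe_mapSurjective] at hm
      obtain ⟨v, hv, e⟩ := hm
      have hK' : v⁻¹ * (g * u * g⁻¹) ∈ K := QuotientGroup.eq.1 e
      refine mem_sylow ?_ ⟨j, by rw [← hj]; exact MulEquiv.orderOf_eq (MulAut.conj g) u⟩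
      have : g * u * g⁻¹ = v * (v⁻¹ * (g * u * g⁻¹)) := by group
      rw [this]
      refine mul_mem (hPNP hv) (centralizer_le_normalizer _ (mem_centralizer_iff.2 fun w _ => ?_))
      exact (mem_centralizer_iff.1 (hcent w) _ hK').symm
  have hnormalN : ∀ N : Subgroup G, N.Normal → N ≠ ⊤ → (P : Subgroup G) ≤ N → False := by
    intro N hN hNtop hPN
    rcases hsub N hNtop with ⟨K, hKle, hK, hKm, -⟩ | ⟨R, hRle, hR, hRm, -⟩
    · have hKnorm : K.Normal := ⟨fun z hz g => hKm _ (hN.conj_mem z (hKle hz) g) (by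
        rw [show g * z * g⁻¹ = MulAut.conj g z from rfl, MulEquiv.orderOf_eq]; exact coprime_of_mem hK hz)⟩
      have hK0 := hnoP' K hKnorm hK
      have hNp : IsPGroup p N := by
        rw [IsPGroup.iff_orderOf]
        intro z
        obtain ⟨a, b, hb, hab⟩ := Nat.exists_eq_pow_mul_and_not_dvd (orderOf_pos (z : G)).ne' p hp.out.ne_one
        have h1 : orderOf ((z : G) ^ p ^ a) = b := by
          rw [orderOf_pow_of_dvd (pow_pos hp.out.pos a).ne' ⟨b, hab⟩, hab, Nat.mul_div_cancel_left _ (pow_pos hp.out.pos a)]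
        have h2 := hKm _ (pow_mem z.2 _) (h1 ▸ (hp.out.coprime_iff_not_dvd.2 hb).symm)
        rw [hK0, mem_bot] at h2
        obtain ⟨c, -, hc'⟩ := (Nat.dvd_prime_pow hp.out).1 (orderOf_dvd_of_pow_eq_one h2)
        exact ⟨c, by rw [← Subgroup.orderOf_coe, hc']⟩
      exact hnn ((P.3 hNp hPN) ▸ hN)
    · have hRP : R = (P : Subgroup G) := P.3 hR fun u hu => hRm u (hPN hu) (order_pow_of_mem P.isPGroup' hu)
      refine hnn (hRP ▸ ⟨fun z hz g => hRm _ (hN.conj_mem z (hRle hz) g) ?_⟩)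
      obtain ⟨j, hj⟩ := order_pow_of_mem hR hz
      exact ⟨j, by rw [show g * z * g⁻¹ = MulAut.conj g z from rfl, MulEquiv.orderOf_eq, hj]⟩
  have hnoP : ∀ R : Subgroup G, R.Normal → IsPGroup p R → R = ⊥ := by
    intro R hRn hR
    by_contra hRne
    have hRP : R ≤ (P : Subgroup G) := fun u hu =>
      mem_sylow (by
        have h1 : R ⊔ (P : Subgroup G) = P := P.3 (hR.to_sup_of_normal_left P.isPGroup') le_sup_right
        exact hPNP (h1 ▸ mem_sup_left hu)) (order_pow_of_mem hR hu)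
    refine hnormalN (centralizer (R : Set G)) inferInstance (fun e => ?_) ?_
    · obtain ⟨u, hu, hu1⟩ : ∃ u ∈ R, u ≠ 1 := by
        by_contra hno
        push Not at hno
        exact hRne ((eq_bot_iff_forall _).2 hno)
      exact hu1 (hnofix u (hRP hu) (mem_centralizer_iff.1 (e ▸ mem_top x) u hu).symm)
    · exact fun u hu => mem_centralizer_iff.2 fun w hw => comm_of_cyclic hcyc (hRP hw) hu
  have hti : ∀ P1 ≤ (P : Subgroup G), P1 ≠ ⊥ → normalizer (P1 : Set G) ≤ NP := by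
    intro P1 hP1 hP1ne
    have htop : normalizer (P1 : Set G) ≠ ⊤ := fun e =>
      hP1ne (hnoP P1 (normalizer_eq_top_iff.1 e) (P.isPGroup'.to_le hP1))
    have hPN1 : (P : Subgroup G) ≤ normalizer (P1 : Set G) := fun u hu => centralizer_le_normalizer _
      (mem_centralizer_iff.2 fun w hw => comm_of_cyclic hcyc (hP1 hw) hu)
    have hx1 : x ∈ normalizer (P1 : Set G) := by
      rw [← conj_smul_eq_self_iff]
      refine cyc_eq (P := (P : Subgroup G)) ?_ hP1 (card_conj_smul x P1)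
      intro w hw
      rw [mem_conj_smul] at hw
      have := (mem_normalizer_iff.1 hxN _).1 (hP1 hw)
      simpa [mul_assoc] using this
    rcases hsub _ htop with ⟨K, -, hK, hKm, hKn⟩ | ⟨R, -, hR, hRm, hRn⟩
    · exfalso
      have hxK := hKm x hx1 hxo
      obtain ⟨u, hu, hu1⟩ : ∃ u ∈ (P : Subgroup G), u ≠ 1 := by
        by_contra hno
        push Not at hno
        exact hnn (((eq_bot_iff_forall _).2 hno) ▸ inferInstance)
      refine hu1 (hnofix u hu ?_)
      have h1 : u * x * u⁻¹ * x⁻¹ ∈ K := mul_mem ((mem_normalizer_iff.1 (hKn (hPN1 hu)) x).1 hxK) (inv_mem hxK)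
      have h2 : u * x * u⁻¹ * x⁻¹ ∈ (P : Subgroup G) := by
        have : x * u⁻¹ * x⁻¹ ∈ (P : Subgroup G) := (mem_normalizer_iff.1 hxN u⁻¹).1 (inv_mem hu)
        simpa [mul_assoc] using mul_mem hu this
      have h3 := eq_one_of_both hK P.isPGroup' h1 h2
      rw [mul_inv_eq_one, mul_inv_eq_iff_eq_mul] at h3
      exact h3.symm
    · have hPR : (P : Subgroup G) ≤ R := fun u hu => hRm u (hPN1 hu) (order_pow_of_mem P.isPGroup' hu)
      have e := P.3 hR hPR
      rw [e] at hRn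
      exact le_trans le_rfl hRn
  exact (Bad.mk (H := H) hcyc hab hnn hnoP' hnoP hsub hHle hHp hconj ⟨x, hxH, hxC⟩ hti hodd).false

end Cfsg.Lib.Solv.CycAb
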