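import Mathlib
import Cfsg.Agent.Lib.Solv.Frobenius
import Cfsg.Agent.Lib.ZStar.UniqueInvolution
import Cfsg.Agent.Lib.TwoFus.CyclicSylow

/-! Structure of Frobenius complements: Sylow subgroups and centre. -/

set_option autoImplicit false
open Subgroup
open scoped commutatorElement

namespace Cfsg.Lib.Solv.FrobCompl

variable {G : Type*} [Group G] [Finite G]

/-- The complement acts fixed-point-freely on a nontrivial abelian subgroup. -/
theorem exists_abelian_fpf (K H : Subgroup G) [K.Normal] (hc : IsComplement' K H) (hK : K ≠ ⊥)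
    (hH : H ≠ ⊥) (hfpf : ∀ h ∈ H, h ≠ 1 → K ⊓ centralizer ({h} : Set G) = ⊥) :
    ∃ V : Subgroup G, V ≠ ⊥ ∧ IsMulCommutative V ∧ H ≤ normalizer (V : Set G) ∧
      ∀ h ∈ H, h ≠ 1 → V ⊓ centralizer ({h} : Set G) = ⊥ := by
  obtain ⟨V, hVK, hV, hVc, hN⟩ :=
    exists_invariant_abelian (isFrobeniusComplement_of_fpf hc hK hH hfpf) hc
  exact ⟨V, hV, hVc, hN, fun h hh h1 => le_bot_iff.1 ((inf_le_inf_right _ hVK).trans (hfpf h hh h1).le)⟩

variable {H V : Subgroup G} [IsMulCommutative V]

/-- Commuting elements of the same prime order generate the same subgroup. -/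
theorem mem_zpowers_of_commute (hV : V ≠ ⊥) (hN : H ≤ normalizer (V : Set G))
    (hfpf : ∀ h ∈ H, h ≠ 1 → V ⊓ centralizer ({h} : Set G) = ⊥) {p : ℕ} (hp : p.Prime)
    {x y : G} (hx : x ∈ H) (hy : y ∈ H) (ox : orderOf x = p) (oy : orderOf y = p)
    (hxy : Commute x y) : y ∈ zpowers x := by
  set A := zpowers x ⊔ zpowers y with hA
  have hAH : A ≤ H := sup_le (zpowers_le.2 hx) (zpowers_le.2 hy)
  have hcl : A = closure {x, y} := by
    rw [hA, zpowers_eq_closure, zpowers_eq_closure, ← Subgroup.closure_union]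
    rfl
  have hAc : IsMulCommutative A := by
    rw [hcl]
    refine isMulCommutative_closure ?_
    rintro a (rfl | rfl) b (rfl | rfl)
    exacts [rfl, hxy.eq, hxy.eq.symm, rfl]
  have hcyc := fpf_isCyclic A V hV (hAH.trans hN) (fun a ha => hfpf a (hAH ha)) (Or.inl hAc)
  have hxA : x ∈ A := le_sup_left (b := zpowers y) (mem_zpowers x)
  have hyA : y ∈ A := le_sup_right (a := zpowers x) (mem_zpowers y)
  set x' : A := ⟨x, hxA⟩
  set y' : A := ⟨y, hyA⟩
  have : zpowers y' = zpowers x' := by
    refine Cfsg.Lib.TwoFus.eq_of_card_eq_cyclic ?_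
    rw [Nat.card_zpowers, Nat.card_zpowers, ← orderOf_coe, ← orderOf_coe]
    exact oy.trans ox.symm
  obtain ⟨i, hi⟩ := this.le (mem_zpowers y')
  exact ⟨i, congrArg Subtype.val hi⟩

/-- In a `p`-subgroup the subgroup of order `p` is unique. -/
theorem mem_zpowers_of_pgroup (hV : V ≠ ⊥) (hN : H ≤ normalizer (V : Set G))
    (hfpf : ∀ h ∈ H, h ≠ 1 → V ⊓ centralizer ({h} : Set G) = ⊥) {p : ℕ} [hp : Fact p.Prime]
    (P : Subgroup H) (hP : IsPGroup p P) {x y : P} (ox : orderOf x = p) (oy : orderOf y = p) :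
    y ∈ zpowers x := by
  have : Nontrivial P := ⟨x, 1, fun e => by rw [e, orderOf_one] at ox; exact hp.out.ne_one ox.symm⟩
  have := hP.center_nontrivial
  obtain ⟨n, hn, hcard⟩ := (hP.to_subgroup (center P)).nontrivial_iff_card.1 this
  obtain ⟨z, hz⟩ := exists_prime_orderOf_dvd_card' (G := center P) p (hcard ▸ dvd_pow_self p hn.ne')
  have oz : orderOf (z : P) = p := by rw [orderOf_coe]; exact hz
  have key : ∀ w : P, orderOf w = p → zpowers w = zpowers (z : P) := by
    intro w ow
    have hcm : Commute ((z : P) : G) ((w : P) : G) :=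
      congrArg (fun t : P => ((t : H) : G)) (mem_center_iff.1 z.2 w).symm
    have h := mem_zpowers_of_commute hV hN hfpf hp.out (x := ((z : P) : G)) (y := ((w : P) : G))
      (z : P).1.2 w.1.2 (by rw [orderOf_coe, orderOf_coe]; exact oz)
      (by rw [orderOf_coe, orderOf_coe]; exact ow) hcm
    obtain ⟨i, hi⟩ := h
    have hwz : w ∈ zpowers (z : P) := ⟨i, Subtype.ext (Subtype.ext (by simpa using hi))⟩
    refine eq_of_le_of_card_ge (zpowers_le.2 hwz) ?_
    rw [Nat.card_zpowers, Nat.card_zpowers, oz, ow]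
  rw [key x ox, ← key y oy]
  exact mem_zpowers y

/-- Elements of distinct prime orders normalizing one another commute. -/
theorem commute_of_normalizes (hV : V ≠ ⊥) (hN : H ≤ normalizer (V : Set G))
    (hfpf : ∀ h ∈ H, h ≠ 1 → V ⊓ centralizer ({h} : Set G) = ⊥) {p q : ℕ} (hp : p.Prime)
    (hq : q.Prime) (hpq : p ≠ q) {z h : G} (hz : z ∈ H) (hh : h ∈ H) (oz : orderOf z = p)
    (oh : orderOf h = q) (hn : h ∈ normalizer ((zpowers z : Subgroup G) : Set G)) :
    Commute z h := by
  set A := zpowers z ⊔ zpowers h with hA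
  have hAH : A ≤ H := sup_le (zpowers_le.2 hz) (zpowers_le.2 hh)
  have hcop : (Nat.card (zpowers h)).Coprime (Nat.card (zpowers z)) := by
    rw [Nat.card_zpowers, Nat.card_zpowers, oz, oh]
    exact (Nat.coprime_primes hq hp).2 (Ne.symm hpq)
  have hcard : Nat.card A = p * q := by
    have h1 : (zpowers z).relIndex A = (zpowers z).relIndex (zpowers h) := by
      have hzN : zpowers z ≤ normalizer ((zpowers z : Subgroup G) : Set G) := le_normalizer
      have hhN := zpowers_le.2 hn
      have : ((zpowers z).subgroupOf (normalizer ((zpowers z : Subgroup G) : Set G))).Normal :=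
        (normal_subgroupOf_iff_le_normalizer hzN).2 le_rfl
      rw [← relIndex_subgroupOf (K := A) (sup_le hzN hhN), hA, subgroupOf_sup hzN hhN,
        relIndex_sup_left, relIndex_subgroupOf hhN]
    have hd : zpowers z ⊓ zpowers h = ⊥ := inf_eq_bot_of_coprime hcop.symm
    have h2 : (zpowers z).relIndex (zpowers h) = q := by
      rw [← inf_relIndex_right, hd, relIndex_bot_left, Nat.card_zpowers, oh]
    rw [← relIndex_bot_left, ← relIndex_mul_relIndex ⊥ (zpowers z) A bot_le le_sup_left,
      relIndex_bot_left, Nat.card_zpowers, oz, h1, h2]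
  have hcyc := fpf_isCyclic A V hV (hAH.trans hN) (fun a ha => hfpf a (hAH ha))
    (Or.inr ⟨p, q, hp, hq, hcard⟩)
  have h3 := hcyc.isMulCommutative
  exact congrArg Subtype.val (h3.is_comm.comm
    (⟨z, le_sup_left (b := zpowers h) (mem_zpowers z)⟩ : A)
    ⟨h, le_sup_right (a := zpowers z) (mem_zpowers h)⟩)

omit [IsMulCommutative V] in
/-- An element normalizing a cyclic group, of coprime order, fixing all elements of prime order
centralizes it. -/
theorem commute_of_fixes_prime {a c : G} (hn : c ∈ normalizer ((zpowers a : Subgroup G) : Set G))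
    (hcop : (orderOf c).Coprime (orderOf a))
    (hfix : ∀ y ∈ zpowers a, (orderOf y).Prime → Commute c y) : Commute c a := by
  obtain ⟨k, hk⟩ := mem_zpowers_iff.1 ((mem_normalizer_iff.1 hn a).1 (mem_zpowers a))
  set r := orderOf c with hr
  set n := orderOf a with hnn
  have hpow : ∀ j : ℕ, c ^ j * a * (c ^ j)⁻¹ = a ^ (k ^ j) := by
    intro j
    induction j with
    | zero => simp
    | succ j ih =>
      calc c ^ (j + 1) * a * (c ^ (j + 1))⁻¹ = c * (c ^ j * a * (c ^ j)⁻¹) * c⁻¹ := by
            rw [pow_succ']; group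
        _ = c * a ^ (k ^ j) * c⁻¹ := by rw [ih]
        _ = (c * a * c⁻¹) ^ (k ^ j) := by rw [conj_zpow]
        _ = _ := by rw [← hk, ← zpow_mul, pow_succ']
  have h1 : (n : ℤ) ∣ k ^ r - 1 := by
    have h := hpow r
    rw [hr, pow_orderOf_eq_one, one_mul, inv_one, mul_one] at h
    apply orderOf_dvd_iff_zpow_eq_one.2
    rw [zpow_sub, zpow_one, hr, ← h, mul_inv_cancel]
  rw [← mul_geom_sum] at h1
  have h2 : IsCoprime (n : ℤ) (∑ i ∈ Finset.range r, k ^ i) := by
    rw [Int.isCoprime_iff_nat_coprime, Int.natAbs_natCast]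
    refine Nat.coprime_of_dvd fun p hp hpn hps => ?_
    have := Fact.mk hp
    obtain ⟨m, hm⟩ := hpn
    have hn0 : 0 < n := orderOf_pos a
    have oy : orderOf (a ^ m) = p := by
      rw [orderOf_pow_of_dvd (by rintro rfl; simp at hm; omega) (Dvd.intro_left p hm.symm), ← hnn, hm,
        Nat.mul_div_cancel _ (by rcases Nat.eq_zero_or_pos m with rfl | h; · simp at hm; omega
                                 · exact h)]
    have hfy := hfix _ (pow_mem (mem_zpowers a) m) (oy ▸ hp)
    have e : (a ^ m) ^ k = (a ^ m) ^ (1 : ℤ) := by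
      rw [zpow_one]
      calc (a ^ m) ^ k = (a ^ k) ^ m := by
            rw [← zpow_natCast, ← zpow_natCast (a ^ k), ← zpow_mul, ← zpow_mul, mul_comm]
        _ = (c * a * c⁻¹) ^ m := by rw [hk]
        _ = c * a ^ m * c⁻¹ := conj_pow
        _ = a ^ m := by rw [hfy.eq, mul_inv_cancel_right]
    rw [zpow_eq_zpow_iff_modEq, oy, ← ZMod.intCast_eq_intCast_iff] at e
    have hsum : ((∑ i ∈ Finset.range r, k ^ i : ℤ) : ZMod p) = r := by
      rw [Int.cast_sum]
      simp [e]
    have h0 : ((∑ i ∈ Finset.range r, k ^ i : ℤ) : ZMod p) = 0 :=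
      (ZMod.intCast_zmod_eq_zero_iff_dvd _ p).2 (Int.natCast_dvd.2 hps)
    rw [hsum, ZMod.natCast_eq_zero_iff] at h0
    exact hp.ne_one (Nat.eq_one_of_dvd_coprimes hcop h0 ⟨m, hm⟩)
  have h3 := h2.dvd_of_dvd_mul_right h1
  have h4 : a ^ k = a := by
    have h5 := orderOf_dvd_iff_zpow_eq_one.1 h3
    rwa [zpow_sub, zpow_one, mul_inv_eq_one] at h5
  show c * a = a * c
  exact mul_inv_eq_iff_eq_mul.1 (hk.symm.trans h4)

/-- A Frobenius complement has nontrivial centre. -/
theorem center_ne_bot (hV : V ≠ ⊥) (hH : H ≠ ⊥) (hN : H ≤ normalizer (V : Set G))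
    (hfpf : ∀ h ∈ H, h ≠ 1 → V ⊓ centralizer ({h} : Set G) = ⊥) : center H ≠ ⊥ := by
  classical
  rw [Subgroup.ne_bot_iff_exists_ne_one]
  by_cases h2 : 2 ∣ Nat.card H
  · have := Fact.mk Nat.prime_two
    obtain ⟨s, hs⟩ := exists_prime_orderOf_dvd_card' (G := H) 2 h2
    have hinv : ∀ t : H, orderOf t = 2 → ∀ v ∈ V, (t : G) * v * (t : G)⁻¹ = v⁻¹ := by
      intro t ht v hv
      have ht1 : (t : G) ≠ 1 := fun e => by
        rw [← orderOf_coe, e, orderOf_one] at ht; exact absurd ht (by norm_num)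
      have htt : (t : G) * t = 1 := by
        rw [← pow_two, ← ht, ← orderOf_coe, pow_orderOf_eq_one]
      have htv : (t : G) * v * (t : G)⁻¹ ∈ V := (mem_normalizer_iff.1 (hN t.2) v).1 hv
      set w := v * ((t : G) * v * (t : G)⁻¹) with hw
      have hwV : w ∈ V := mul_mem hv htv
      have hcomm : v * ((t : G) * v * (t : G)⁻¹) = (t : G) * v * (t : G)⁻¹ * v :=
        congrArg Subtype.val (IsMulCommutative.is_comm.comm (⟨v, hv⟩ : V) ⟨_, htv⟩)
      have hti : (t : G)⁻¹ = t := inv_eq_of_mul_eq_one_right htt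
      have hwt : w * (t : G) = (t : G) * w := by
        calc w * (t : G) = (t : G) * v * (t : G)⁻¹ * v * t := by rw [hw, hcomm]
          _ = (t : G) * v * ((t : G) * v * (t : G)⁻¹) := by rw [hti]; simp only [mul_assoc]
          _ = (t : G) * w := by rw [hw]; simp only [mul_assoc]
      have hw1 : w ∈ V ⊓ centralizer ({(t : G)} : Set G) := ⟨hwV, mem_centralizer_singleton_iff.2 hwt⟩
      rw [hfpf t t.2 ht1, mem_bot, hw] at hw1
      exact eq_inv_of_mul_eq_one_right hw1
    have huniq : ∀ t : H, orderOf t = 2 → t = s := by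
      intro t ht
      by_contra hts
      obtain ⟨v, hv, hv1⟩ := V.bot_or_exists_ne_one.resolve_left hV
      have hd1 : (s : G)⁻¹ * t ≠ 1 := fun e => hts (Subtype.ext (inv_mul_eq_one.1 e).symm)
      have hmem : v ∈ V ⊓ centralizer ({(s : G)⁻¹ * t} : Set G) :=
        ⟨hv, mem_centralizer_singleton_iff.2 (by
          calc v * ((s : G)⁻¹ * t) = (s : G)⁻¹ * ((s : G) * v * (s : G)⁻¹) * t := by group
            _ = (s : G)⁻¹ * ((t : G) * v * (t : G)⁻¹) * t := by rw [hinv s hs v hv, hinv t ht v hv]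
            _ = _ := by group)⟩
      rw [hfpf _ (H.mul_mem (H.inv_mem s.2) t.2) hd1, mem_bot] at hmem
      exact hv1 hmem
    refine ⟨⟨s, mem_center_iff.2 fun g => ?_⟩, fun e => ?_⟩
    · have h := huniq (g * s * g⁻¹) ((MulAut.conj g).orderOf_eq s ▸ hs)
      exact mul_inv_eq_iff_eq_mul.1 h
    · rw [show s = 1 from congrArg Subtype.val e, orderOf_one] at hs
      exact absurd hs (by norm_num)
  · have hZ : IsZGroup H := by
      rw [isZGroup_iff]
      intro p hp P
      have := Fact.mk hp
      rcases Cfsg.Lib.ZStar.isCyclic_or_inverted P.2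
        (fun x y => mem_zpowers_of_pgroup hV hN hfpf _ P.2) with h | ⟨rfl, a, -, ha, -⟩
      · exact h
      · exfalso
        obtain ⟨j, hj⟩ := P.2.exists_orderOf_eq_pow a
        have hj0 : j ≠ 0 := by rintro rfl; rw [hj] at ha; norm_num at ha
        refine h2 (((dvd_pow_self 2 hj0).trans ?_).trans (card_subgroup_dvd_card (P : Subgroup H)))
        rw [← hj]
        exact orderOf_dvd_natCard a
    have : Nontrivial H := (nontrivial_iff_ne_bot H).2 hH
    set D := commutator H with hD
    have : IsCyclic D := IsZGroup.isCyclic_commutator H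
    obtain ⟨a, ha⟩ := IsCyclic.exists_generator (α := D)
    obtain ⟨C, hC⟩ := exists_right_complement'_of_coprime (N := D) (IsZGroup.coprime_commutator_index H)
    have hCne : C ≠ ⊥ := by
      rintro rfl
      have := hC.sup_eq_top
      rw [sup_bot_eq] at this
      exact (IsZGroup.commutator_lt (G := H)).ne this
    have hCnt : Nontrivial C := (nontrivial_iff_ne_bot C).2 hCne
    obtain ⟨r, hr, hrC⟩ := Nat.exists_prime_and_dvd (Finite.one_lt_card (α := C)).ne'
    have := Fact.mk hr
    obtain ⟨c', hc'⟩ := exists_prime_orderOf_dvd_card' (G := C) r hrC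
    set c : H := (c' : H) with hcdef
    have oc : orderOf c = r := by rw [hcdef, orderOf_coe]; exact hc'
    have haz : zpowers (a : H) = D := by
      refine le_antisymm (zpowers_le.2 a.2) fun d hd => ?_
      obtain ⟨i, hi⟩ := ha ⟨d, hd⟩
      exact ⟨i, congrArg Subtype.val hi⟩
    have hCab : ∀ x ∈ C, ∀ y ∈ C, x * y = y * x := by
      intro x hx y hy
      have hmem : ⁅x, y⁆ ∈ D ⊓ C := ⟨commutator_mem_commutator (mem_top x) (mem_top y),
        C.mul_mem (C.mul_mem (C.mul_mem hx hy) (C.inv_mem hx)) (C.inv_mem hy)⟩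
      rw [hC.disjoint.eq_bot, mem_bot, commutatorElement_eq_one_iff_mul_comm] at hmem
      exact hmem
    have hca : Commute c (a : H) := by
      refine commute_of_fixes_prime ?_ ?_ fun y hy hyp => ?_
      · rw [haz, normalizer_eq_top]; exact mem_top c
      · rw [oc]
        refine Nat.Coprime.coprime_dvd_left (?_ : r ∣ D.index) ?_
        · rw [← hC.symm.index_eq_card] at hrC; exact hrC
        · refine Nat.Coprime.coprime_dvd_right ?_ (IsZGroup.coprime_commutator_index H).symm
          rw [orderOf_coe]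
          exact orderOf_dvd_natCard a
      · have hne : orderOf y ≠ r := by
          intro e
          have h3 : r ∣ Nat.card D := e ▸ D.orderOf_dvd_natCard (haz ▸ hy)
          rw [← hC.symm.index_eq_card] at hrC
          exact hr.ne_one (Nat.eq_one_of_dvd_coprimes (IsZGroup.coprime_commutator_index H) h3 hrC)
        have hzc : (zpowers y).Normal := by
          refine ⟨fun z hz g => ?_⟩
          have hyD : y ∈ D := haz ▸ hy
          have hle : zpowers (g * y * g⁻¹) ≤ D :=
            zpowers_le.2 ((inferInstance : D.Normal).conj_mem y hyD g)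
          have e : (zpowers (g * y * g⁻¹)).subgroupOf D = (zpowers y).subgroupOf D := by
            refine Cfsg.Lib.TwoFus.eq_of_card_eq_cyclic ?_
            rw [Nat.card_congr (subgroupOfEquivOfLe hle).toEquiv,
              Nat.card_congr (subgroupOfEquivOfLe (zpowers_le.2 hyD)).toEquiv, Nat.card_zpowers,
              Nat.card_zpowers]
            exact (MulAut.conj g).orderOf_eq y
          rw [subgroupOf_inj, inf_eq_left.2 hle, inf_eq_left.2 (zpowers_le.2 hyD)] at e
          obtain ⟨i, rfl⟩ := hz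
          show g * y ^ i * g⁻¹ ∈ zpowers y
          rw [← e, ← conj_zpow]
          exact ⟨i, rfl⟩
        have h := commute_of_normalizes hV hN hfpf (q := r) hyp hr hne (z := (y : G)) (h := (c : G))
          y.2 c.2 (orderOf_coe y) (by rw [orderOf_coe]; exact oc) ?_
        · exact Subtype.ext h.symm.eq
        · have key : ∀ d : H, ∀ g ∈ zpowers (y : G), (d : G) * g * (d : G)⁻¹ ∈ zpowers (y : G) := by
            rintro d _ ⟨i, rfl⟩
            obtain ⟨j, hj⟩ := hzc.conj_mem (y ^ i) ⟨i, rfl⟩ d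
            exact ⟨j, by simpa using congrArg Subtype.val hj⟩
          refine mem_normalizer_iff.2 fun g => ⟨key c g, fun hg => ?_⟩
          have h5 := key c⁻¹ _ hg
          simpa [mul_assoc] using h5
    refine ⟨⟨c, mem_center_iff.2 fun g => ?_⟩, fun e => ?_⟩
    · have hg : g ∈ D ⊔ C := hC.sup_eq_top ▸ mem_top g
      have hle : D ⊔ C ≤ centralizer ({c} : Set H) := by
        refine sup_le ?_ fun x hx => mem_centralizer_singleton_iff.2 (hCab x hx c c'.2)
        rw [← haz]
        exact zpowers_le.2 (mem_centralizer_singleton_iff.2 hca.symm.eq)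
      exact mem_centralizer_singleton_iff.1 (hle hg)
    · rw [show c = 1 from congrArg Subtype.val e, orderOf_one] at oc
      exact hr.ne_one oc.symm

end Cfsg.Lib.Solv.FrobCompl
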