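import Mathlib

/-!
The Lie ring associated with the lower central series of a group.
-/

set_option autoImplicit false

namespace Cfsg.Lib.Solv.GroupLie

open scoped commutatorElement

universe u

variable (G : Type u) [Group G]

/-- The lower central series of the whole group. -/
abbrev gamma (i : ℕ) : Subgroup G := (⊤ : Subgroup G).lowerCentralSeries i

variable {G}

theorem gamma_mono {i j : ℕ} (h : i ≤ j) : gamma G j ≤ gamma G i := Subgroup.lowerCentralSeries_antitone _ h

theorem comm_mem_succ {i : ℕ} {g : G} (hg : g ∈ gamma G i) (h : G) : ⁅g, h⁆ ∈ gamma G (i + 1) :=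
  Subgroup.commutator_mem_commutator hg (Subgroup.mem_top h)

theorem gamma_commutator_le : ∀ (j i : ℕ), ⁅gamma G i, gamma G j⁆ ≤ gamma G (i + j + 1) := by
  intro j
  induction j with
  | zero => exact fun i => le_rfl
  | succ j ih =>
    intro i
    set N := gamma G (i + (j + 1) + 1)
    haveI : N.Normal := inferInstance
    set q := QuotientGroup.mk' N
    have hbot : ∀ S : Subgroup G, S ≤ N → S.map q = ⊥ := fun S hS =>
      (Subgroup.map_eq_bot_iff S).2 (by rw [QuotientGroup.ker_mk']; exact hS)
    have h : ⁅⁅(gamma G j).map q, (⊤ : Subgroup G).map q⁆, (gamma G i).map q⁆ = ⊥ := by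
      refine Subgroup.commutator_commutator_eq_bot_of_rotate ?_ ?_
      · rw [← Subgroup.map_commutator, ← Subgroup.map_commutator]
        refine hbot _ ?_
        rw [Subgroup.commutator_comm (⊤ : Subgroup G) (gamma G i)]
        refine ((ih (i + 1)).trans ?_)
        exact gamma_mono (by omega)
      · rw [← Subgroup.map_commutator, ← Subgroup.map_commutator]
        refine hbot _ ?_
        refine le_trans ?_ (gamma_mono (G := G) (show i + (j + 1) + 1 ≤ i + j + 1 + 1 by omega))
        exact Subgroup.commutator_mono (ih i) le_rfl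
    rw [← Subgroup.map_commutator, ← Subgroup.map_commutator, Subgroup.map_eq_bot_iff, QuotientGroup.ker_mk'] at h
    rw [Subgroup.commutator_comm]
    exact h

theorem comm_mem {i j : ℕ} {g h : G} (hg : g ∈ gamma G i) (hh : h ∈ gamma G j) : ⁅g, h⁆ ∈ gamma G (i + j + 1) :=
  gamma_commutator_le j i (Subgroup.commutator_mem_commutator hg hh)

variable (G)

/-- The next term inside the present one. -/
abbrev nxt (i : ℕ) : Subgroup (gamma G i) := (gamma G (i + 1)).subgroupOf (gamma G i)

instance factorCommGroup (i : ℕ) : CommGroup (gamma G i ⧸ nxt G i) :=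
  { (inferInstance : Group (gamma G i ⧸ nxt G i)) with
    mul_comm := fun x y => by
      obtain ⟨a, rfl⟩ := QuotientGroup.mk_surjective x
      obtain ⟨b, rfl⟩ := QuotientGroup.mk_surjective y
      show ((a * b : gamma G i) : gamma G i ⧸ nxt G i) = ((b * a : gamma G i) : gamma G i ⧸ nxt G i)
      rw [QuotientGroup.eq, Subgroup.mem_subgroupOf]
      have h := comm_mem_succ (inv_mem b.2) ((a : G)⁻¹)
      rw [commutatorElement_def, inv_inv, inv_inv] at h
      simpa [mul_assoc] using h }

/-- The graded components. -/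
abbrev Gr (i : ℕ) : Type u := Additive (gamma G i ⧸ nxt G i)

/-- The direct sum. -/
abbrev LL : Type u := DirectSum ℕ (Gr G)

variable {G}

open scoped Classical in
/-- The class of an element in a component. -/
noncomputable def cls (i : ℕ) (g : G) : LL G :=
  if h : g ∈ gamma G i then DirectSum.of (Gr G) i (Additive.ofMul (QuotientGroup.mk (⟨g, h⟩ : gamma G i))) else 0

theorem cls_eq {i : ℕ} (g : gamma G i) :
    cls i (g : G) = DirectSum.of (Gr G) i (Additive.ofMul (QuotientGroup.mk g)) := by
  rw [cls, dif_pos g.2]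

theorem cls_mul {i : ℕ} {g h : G} (hg : g ∈ gamma G i) (hh : h ∈ gamma G i) :
    cls i (g * h) = cls i g + cls i h := by
  rw [cls, cls, cls, dif_pos (mul_mem hg hh), dif_pos hg, dif_pos hh, ← map_add, ← ofMul_mul, ← QuotientGroup.mk_mul]
  rfl

theorem cls_eq_zero {i : ℕ} {g : G} (hg : g ∈ gamma G (i + 1)) : cls i g = 0 := by
  rw [cls, dif_pos (gamma_mono (Nat.le_succ i) hg),
    (QuotientGroup.eq_one_iff _).2 (Subgroup.mem_subgroupOf.2 hg), ofMul_one, map_zero]

theorem mem_of_cls_eq_zero {i : ℕ} {g : G} (hg : g ∈ gamma G i) (h : cls i g = 0) : g ∈ gamma G (i + 1) := by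
  rw [cls, dif_pos hg] at h
  have h1 := DirectSum.of_injective i (h.trans (map_zero _).symm)
  exact Subgroup.mem_subgroupOf.1 ((QuotientGroup.eq_one_iff _).1 (Additive.ofMul.injective (h1.trans ofMul_one.symm)))

theorem cls_one (i : ℕ) : cls i (1 : G) = 0 := cls_eq_zero (one_mem _)

theorem cls_inv {i : ℕ} {g : G} (hg : g ∈ gamma G i) : cls i g⁻¹ = - cls i g := by
  rw [eq_neg_iff_add_eq_zero, ← cls_mul (inv_mem hg) hg, inv_mul_cancel, cls_one]

theorem cls_conj {i : ℕ} {g : G} (hg : g ∈ gamma G i) (x : G) : cls i (x * g * x⁻¹) = cls i g := by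
  have h1 : x * g * x⁻¹ = ⁅x, g⁆ * g := by rw [commutatorElement_def]; group
  have h2 : ⁅x, g⁆ ∈ gamma G (i + 1) := by
    rw [← commutatorElement_inv]; exact inv_mem (comm_mem_succ hg x)
  rw [h1, cls_mul (gamma_mono (Nat.le_succ i) h2) hg, cls_eq_zero h2, zero_add]

theorem induction {P : LL G → Prop} (h0 : P 0) (hc : ∀ i g, g ∈ gamma G i → P (cls i g))
    (hadd : ∀ x y, P x → P y → P (x + y)) (x : LL G) : P x := by
  induction x using DirectSum.induction_on with
  | zero => exact h0
  | of i a =>
    obtain ⟨g, hg⟩ := QuotientGroup.mk_surjective (Additive.toMul a)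
    have : P (cls i (g : G)) := hc i g g.2
    rw [cls_eq, hg, ofMul_toMul] at this
    exact this
  | add x y hx hy => exact hadd x y hx hy

/-- The bracket of a fixed element with a component. -/
noncomputable def brInner (i j : ℕ) (g : gamma G i) : Gr G j →+ LL G :=
  MonoidHom.toAdditiveLeft (QuotientGroup.lift (nxt G j)
    { toFun := fun h => Multiplicative.ofAdd (cls (i + j + 1) ⁅(g : G), (h : G)⁆)
      map_one' := by simp [cls_one]
      map_mul' := fun a b => by
        have e : ⁅(g : G), (a : G) * b⁆ = ⁅(g : G), (a : G)⁆ * ((a : G) * ⁅(g : G), (b : G)⁆ * (a : G)⁻¹) := by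
          simp only [commutatorElement_def]; group
        rw [Subgroup.coe_mul, e, cls_mul (comm_mem g.2 a.2) ((inferInstance : (gamma G (i + j + 1)).Normal).conj_mem _ (comm_mem g.2 b.2) _),
          cls_conj (comm_mem g.2 b.2), ofAdd_add] }
    (fun h hh => by
      show Multiplicative.ofAdd (cls (i + j + 1) ⁅(g : G), (h : G)⁆) = 1
      rw [cls_eq_zero (gamma_mono (by omega) (comm_mem g.2 (Subgroup.mem_subgroupOf.1 hh))), ofAdd_zero]))

theorem brInner_apply (i j : ℕ) (g : gamma G i) (h : gamma G j) :
    brInner i j g (Additive.ofMul (QuotientGroup.mk h)) = cls (i + j + 1) ⁅(g : G), (h : G)⁆ := rfl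

theorem hom_ext {j : ℕ} {M : Type*} [AddCommMonoid M] {f f' : Gr G j →+ M}
    (h : ∀ g : gamma G j, f (Additive.ofMul (QuotientGroup.mk g)) = f' (Additive.ofMul (QuotientGroup.mk g))) : f = f' := by
  refine AddMonoidHom.ext fun a => ?_
  obtain ⟨g, hg⟩ := QuotientGroup.mk_surjective (Additive.toMul a)
  have := h g
  rwa [hg, ofMul_toMul] at this

/-- The bracket of two components. -/
noncomputable def br (i j : ℕ) : Gr G i →+ Gr G j →+ LL G :=
  MonoidHom.toAdditiveLeft (QuotientGroup.lift (nxt G i)
    { toFun := fun g => Multiplicative.ofAdd (brInner i j g)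
      map_one' := by
        rw [← ofAdd_zero]; congr 1
        refine hom_ext fun h => ?_
        simp [brInner_apply, cls_one]
      map_mul' := fun a b => by
        rw [← ofAdd_add]; congr 1
        refine hom_ext fun h => ?_
        have e : ⁅(a : G) * b, (h : G)⁆ = ((a : G) * ⁅(b : G), (h : G)⁆ * (a : G)⁻¹) * ⁅(a : G), (h : G)⁆ := by
          simp only [commutatorElement_def]; group
        rw [AddMonoidHom.add_apply, brInner_apply, brInner_apply, brInner_apply, Subgroup.coe_mul, e,
          cls_mul ((inferInstance : (gamma G (i + j + 1)).Normal).conj_mem _ (comm_mem b.2 h.2) _) (comm_mem a.2 h.2),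
          cls_conj (comm_mem b.2 h.2), add_comm] }
    (fun g hg => by
      show Multiplicative.ofAdd (brInner i j g) = 1
      rw [← ofAdd_zero]; congr 1
      refine hom_ext fun h => ?_
      rw [brInner_apply, cls_eq_zero (gamma_mono (by omega) (comm_mem (Subgroup.mem_subgroupOf.1 hg) h.2))]
      simp))

/-- The bracket. -/
noncomputable def lie : LL G →+ LL G →+ LL G :=
  DirectSum.toAddMonoid fun i => (DirectSum.toAddMonoid fun j => (br i j).flip).flip

theorem lie_cls {i j : ℕ} {g h : G} (hg : g ∈ gamma G i) (hh : h ∈ gamma G j) :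
    lie (cls i g) (cls j h) = cls (i + j + 1) ⁅g, h⁆ := by
  have e1 : cls i g = DirectSum.of (Gr G) i (Additive.ofMul (QuotientGroup.mk (⟨g, hg⟩ : gamma G i))) := cls_eq ⟨g, hg⟩
  have e2 : cls j h = DirectSum.of (Gr G) j (Additive.ofMul (QuotientGroup.mk (⟨h, hh⟩ : gamma G j))) := cls_eq ⟨h, hh⟩
  rw [e1, e2, lie, DirectSum.toAddMonoid_of, AddMonoidHom.flip_apply, DirectSum.toAddMonoid_of, AddMonoidHom.flip_apply]
  rfl

theorem lie_skew' (x y : LL G) : lie x y + lie y x = 0 := by
  induction x using induction with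
  | h0 => simp
  | hadd a b ha hb =>
    rw [map_add, AddMonoidHom.add_apply, map_add, add_add_add_comm, ha, hb, add_zero]
  | hc i g hg =>
    induction y using induction with
    | h0 => simp
    | hadd a b ha hb =>
      rw [map_add, map_add, AddMonoidHom.add_apply, add_add_add_comm, ha, hb, add_zero]
    | hc j h hh =>
      rw [lie_cls hg hh, lie_cls hh hg, show j + i + 1 = i + j + 1 by omega, ← commutatorElement_inv g h,
        cls_inv (comm_mem hg hh), add_neg_cancel]

theorem lie_self' (x : LL G) : lie x x = 0 := by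
  induction x using induction with
  | h0 => simp
  | hc i g hg => rw [lie_cls hg hg, commutatorElement_self, cls_one]
  | hadd a b ha hb =>
    simp only [map_add, AddMonoidHom.add_apply]
    rw [ha, hb, zero_add, add_zero, lie_skew']

theorem hall_witt (a b c : G) :
    ⁅⁅a, b⁆, b * c * b⁻¹⁆ * ⁅⁅b, c⁆, c * a * c⁻¹⁆ * ⁅⁅c, a⁆, a * b * a⁻¹⁆ = 1 := by
  simp only [commutatorElement_def]; group

theorem jacobi_cls {i j k : ℕ} {a b c : G} (ha : a ∈ gamma G i) (hb : b ∈ gamma G j) (hc : c ∈ gamma G k) :
    lie (lie (cls i a) (cls j b)) (cls k c) + lie (lie (cls j b) (cls k c)) (cls i a) +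
      lie (lie (cls k c) (cls i a)) (cls j b) = 0 := by
  rw [← cls_conj hc b, ← cls_conj ha c, ← cls_conj hb a]
  have hc' := (inferInstance : (gamma G k).Normal).conj_mem _ hc b
  have ha' := (inferInstance : (gamma G i).Normal).conj_mem _ ha c
  have hb' := (inferInstance : (gamma G j).Normal).conj_mem _ hb a
  rw [cls_conj ha c, cls_conj hb a, lie_cls ha hb, ← cls_conj ha c, ← cls_conj hb a]
  rw [lie_cls (comm_mem ha hb) hc', cls_conj hb a, cls_conj hc b, lie_cls hb hc, ← cls_conj hb a, ← cls_conj hc b]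
  rw [lie_cls (comm_mem hb hc) ha', cls_conj hc b, cls_conj ha c, lie_cls hc ha, lie_cls (comm_mem hc ha) hb',
    show j + k + 1 + i + 1 = i + j + 1 + k + 1 by omega, show k + i + 1 + j + 1 = i + j + 1 + k + 1 by omega]
  have m1 := comm_mem (comm_mem ha hb) hc'
  have m2 : ⁅⁅b, c⁆, c * a * c⁻¹⁆ ∈ gamma G (i + j + 1 + k + 1) := by
    have := comm_mem (comm_mem hb hc) ha'
    rwa [show j + k + 1 + i + 1 = i + j + 1 + k + 1 by omega] at this
  have m3 : ⁅⁅c, a⁆, a * b * a⁻¹⁆ ∈ gamma G (i + j + 1 + k + 1) := by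
    have := comm_mem (comm_mem hc ha) hb'
    rwa [show k + i + 1 + j + 1 = i + j + 1 + k + 1 by omega] at this
  rw [← cls_mul m1 m2, ← cls_mul (mul_mem m1 m2) m3, hall_witt, cls_one]

theorem jacobi' (x y z : LL G) : lie (lie x y) z + lie (lie y z) x + lie (lie z x) y = 0 := by
  induction x using induction with
  | h0 => simp
  | hadd a b ha hb =>
    have h : ∀ a1 a2 a3 b1 b2 b3 : LL G, (a1 + b1) + (a2 + b2) + (a3 + b3) = (a1 + a2 + a3) + (b1 + b2 + b3) := by
      intros; abel
    simp only [map_add, AddMonoidHom.add_apply]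
    rw [h, ha, hb, add_zero]
  | hc i a ha =>
    induction y using induction with
    | h0 => simp
    | hadd u v hu hv =>
      have h : ∀ a1 a2 a3 b1 b2 b3 : LL G, (a1 + b1) + (a2 + b2) + (a3 + b3) = (a1 + a2 + a3) + (b1 + b2 + b3) := by
        intros; abel
      simp only [map_add, AddMonoidHom.add_apply]
      rw [h, hu, hv, add_zero]
    | hc j b hb =>
      induction z using induction with
      | h0 => simp
      | hadd u v hu hv =>
        have h : ∀ a1 a2 a3 b1 b2 b3 : LL G, (a1 + b1) + (a2 + b2) + (a3 + b3) = (a1 + a2 + a3) + (b1 + b2 + b3) := by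
          intros; abel
        simp only [map_add, AddMonoidHom.add_apply]
        rw [h, hu, hv, add_zero]
      | hc k c hc => exact jacobi_cls ha hb hc

noncomputable instance instLieRingLL : LieRing (LL G) where
  bracket x y := lie x y
  add_lie x y z := by show lie (x + y) z = _; rw [map_add, AddMonoidHom.add_apply]
  lie_add x y z := map_add (lie x) y z
  lie_self := lie_self'
  leibniz_lie x y z := by
    show lie x (lie y z) = lie (lie x y) z + lie y (lie x z)
    have h := jacobi' x y z
    have e1 : lie x (lie y z) = - lie (lie y z) x := eq_neg_of_add_eq_zero_left (lie_skew' _ _)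
    have e2 : lie y (lie x z) = lie (lie z x) y := by
      have e3 : lie x z = - lie z x := eq_neg_of_add_eq_zero_left (lie_skew' _ _)
      rw [e3, map_neg, eq_neg_of_add_eq_zero_left (lie_skew' y (lie z x)), neg_neg]
    rw [e1, e2, eq_comm, ← sub_eq_zero]
    rw [← h]; abel

theorem bracket_cls {i j : ℕ} {g h : G} (hg : g ∈ gamma G i) (hh : h ∈ gamma G j) :
    ⁅cls i g, cls j h⁆ = cls (i + j + 1) ⁅g, h⁆ := lie_cls hg hh

theorem map_gamma (φ : G →* G) {i : ℕ} {g : G} (hg : g ∈ gamma G i) : φ g ∈ gamma G i := by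
  have h : ∀ n, (gamma G n).map φ ≤ gamma G n := by
    intro n
    induction n with
    | zero => exact le_top
    | succ n ih =>
      rw [gamma, Subgroup.lowerCentralSeries_succ, Subgroup.map_commutator]
      exact Subgroup.commutator_mono ih le_top
  exact h i ⟨g, hg, rfl⟩

/-- The induced map. -/
noncomputable def mapL (φ : G →* G) : LL G →+ LL G :=
  DirectSum.toAddMonoid fun i => MonoidHom.toAdditiveLeft (QuotientGroup.lift (nxt G i)
    { toFun := fun g => Multiplicative.ofAdd (cls i (φ g))
      map_one' := by simp [cls_one]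
      map_mul' := fun a b => by
        rw [Subgroup.coe_mul, map_mul, cls_mul (map_gamma φ a.2) (map_gamma φ b.2), ofAdd_add] }
    (fun g hg => by
      show Multiplicative.ofAdd (cls i (φ g)) = 1
      rw [cls_eq_zero (map_gamma φ (Subgroup.mem_subgroupOf.1 hg)), ofAdd_zero]))

theorem mapL_cls (φ : G →* G) {i : ℕ} {g : G} (hg : g ∈ gamma G i) : mapL φ (cls i g) = cls i (φ g) := by
  have e1 : cls i g = DirectSum.of (Gr G) i (Additive.ofMul (QuotientGroup.mk (⟨g, hg⟩ : gamma G i))) := cls_eq ⟨g, hg⟩
  rw [e1, mapL, DirectSum.toAddMonoid_of]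
  rfl

theorem mapL_lie (φ : G →* G) (x y : LL G) : mapL φ ⁅x, y⁆ = ⁅mapL φ x, mapL φ y⁆ := by
  induction x using induction with
  | h0 => simp
  | hadd a b ha hb => rw [add_lie, map_add, ha, hb, map_add, add_lie]
  | hc i g hg =>
    induction y using induction with
    | h0 => simp
    | hadd a b ha hb => rw [lie_add, map_add, ha, hb, map_add, lie_add]
    | hc j h hh =>
      rw [bracket_cls hg hh, mapL_cls φ (comm_mem hg hh), mapL_cls φ hg, mapL_cls φ hh,
        bracket_cls (map_gamma φ hg) (map_gamma φ hh), map_commutatorElement]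

end Cfsg.Lib.Solv.GroupLie
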