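import Mathlib
import Cfsg.Agent.Lib.Solv.Carter
import Cfsg.Agent.Lib.Solv.Coprime
import Cfsg.Agent.Lib.PLocal.Thompson

/-! Thompson: a maximal subgroup that is nilpotent of odd order forces solvability. -/

set_option autoImplicit false
open Subgroup
open scoped Pointwise

namespace Cfsg.Lib.Solv.OddMaximal

universe u

theorem solvable_aux : ∀ (n : ℕ) (G : Type u) [Group G] [Finite G], Nat.card G = n →
    ∀ M : Subgroup G, IsCoatom M → Group.IsNilpotent M → Odd (Nat.card M) → Group.IsSolvable G := by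
  intro n
  induction n using Nat.strong_induction_on with
  | _ n ih =>
  intro G _ _ hn M hmax hnil hodd
  subst hn
  have hnc : ∀ B : Subgroup G, M ≤ B → B = M ∨ B = ⊤ := fun B h => (hmax.le_iff.1 h).symm
  have := hnil
  set N := M.normalCore with hNdef
  by_cases hN : N ≠ ⊥
  · haveI : N.Normal := M.normalCore_normal
    have hNM : N ≤ M := M.normalCore_le
    have hNn : Group.IsNilpotent N := Carter.nilpotent_injective (Subgroup.inclusion hNM)
      (Subgroup.inclusion_injective hNM)
    set π := QuotientGroup.mk' N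
    have hlt : Nat.card (G ⧸ N) < Nat.card G := by
      rw [← index_eq_card, ← N.card_mul_index]
      exact lt_mul_of_one_lt_left (Nat.pos_of_ne_zero FiniteIndex.index_ne_zero)
        ((one_lt_card_iff_ne_bot N).2 hN)
    have hMeq : (M.map π).comap π = M := by
      rw [comap_map_eq, QuotientGroup.ker_mk', sup_eq_left.2 hNM]
    have hmax' : IsCoatom (M.map π) := by
      refine ⟨fun h => hmax.1 (by rw [← hMeq, h, comap_top]), fun B hB => ?_⟩
      rcases hnc (B.comap π) (hMeq ▸ comap_mono hB.le) with h | h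
      · exact absurd (comap_injective (QuotientGroup.mk'_surjective N) (h.trans hMeq.symm)) hB.ne'
      · exact comap_injective (QuotientGroup.mk'_surjective N) (h.trans (comap_top _).symm)
    have hs := ih _ hlt (G ⧸ N) rfl (M.map π) hmax'
      (Group.nilpotent_of_surjective _ (π.subgroupMap_surjective M))
      (hodd.of_dvd_nat (card_map_dvd _ _))
    exact Group.isSolvable_of_ker_le_range N.subtype π (by simp [π])
  push Not at hN
  have hnn : ∀ X : Subgroup G, X ≤ M → X ≠ ⊥ → normalizer (X : Set G) ≠ ⊤ := fun X hXM hX h => by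
    rw [normalizer_eq_top_iff] at h
    exact hX (le_bot_iff.1 (hN ▸ (normal_le_normalCore.2 hXM : X ≤ N)))
  rcases eq_or_ne M ⊥ with hM | hM
  · subst hM
    rcases subsingleton_or_nontrivial G with h | h
    · infer_instance
    obtain ⟨x, hx⟩ := exists_ne (1 : G)
    have hz : zpowers x = ⊤ := (hnc (zpowers x) bot_le).resolve_left (mt zpowers_eq_bot.1 hx)
    haveI : IsCyclic G := ⟨x, fun y => (hz ▸ mem_top y : y ∈ zpowers x)⟩
    exact Group.isSolvable_of_comm fun a b => IsCyclic.isMulCommutative.is_comm.comm a b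
  -- normal `p`-complements for all primes dividing `|M|`
  have key : ∀ p : ℕ, p.Prime → p ∣ Nat.card M →
      Cfsg.HasNormalPComplement p G ∧ ¬ p ∣ M.index := by
    intro p hp hpd
    haveI := Fact.mk hp
    have hp2 : p ≠ 2 := fun h => by
      subst h; exact (Nat.not_even_iff_odd.2 hodd) (even_iff_two_dvd.2 hpd)
    obtain ⟨P₀⟩ := (inferInstance : Nonempty (Sylow p M))
    haveI hP₀n : (P₀ : Subgroup M).Normal :=
      ((Group.isNilpotent_of_finite_tfae (G := M)).out 0 3 :).1 hnil p ⟨hp⟩ P₀
    set R := (P₀ : Subgroup M).map M.subtype with hR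
    have hRp : IsPGroup p R := P₀.2.map _
    have hRM : R ≤ M := map_subtype_le _
    have hRne : R ≠ ⊥ := fun h => P₀.ne_bot_of_dvd_card hpd
      ((map_eq_bot_iff_of_injective _ M.subtype_injective).1 h)
    have hMR : M ≤ normalizer (R : Set G) := (normal_subgroupOf_iff_le_normalizer hRM).1 (by
      rw [hR, subgroupOf, comap_map_eq_self_of_injective M.subtype_injective]; exact hP₀n)
    have hNR : normalizer (R : Set G) = M := (hnc _ hMR).resolve_right (hnn R hRM hRne)
    obtain ⟨P, hP⟩ := hRp.exists_le_sylow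
    have hPR : (P : Subgroup G) = R := by
      refine le_antisymm (fun x hx => ?_) hP
      by_contra hxR
      have hlt : R.subgroupOf P < ⊤ := lt_top_iff_ne_top.2 fun h => hxR (by
        have h2 : (⟨x, hx⟩ : P) ∈ R.subgroupOf P := h ▸ mem_top _
        exact h2)
      haveI := P.2.isNilpotent
      obtain ⟨y, hy, hyR⟩ := SetLike.exists_of_lt (Group.normalizerCondition_of_isNilpotent _ hlt)
      have hyN : (y : G) ∈ normalizer (R : Set G) := (Carter.mem_normalizer_subgroupOf hP).1 hy
      rw [hNR] at hyN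
      have hle : (P₀ : Subgroup M) ≤ (P : Subgroup G).subgroupOf M := fun z hz => hP ⟨z, hz, rfl⟩
      have hp' : IsPGroup p ((P : Subgroup G).subgroupOf M) :=
        P.2.comap_of_injective _ M.subtype_injective
      have : (⟨(y : G), hyN⟩ : M) ∈ (P₀ : Subgroup M) := P₀.3 hp' hle ▸ y.2
      exact hyR ⟨_, this, rfl⟩
    refine ⟨?_, ?_⟩
    · have hnpcM : Cfsg.HasNormalPComplement p M := by
        rw [Cfsg.Lib.Transfer.hasNormalPComplement_iff_pResidual]
        exact Carter.coprime_pResidual_of_nilpotent p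
      refine Cfsg.Lib.PLocal.thompson_complement_aux hp2 (Nat.card G) G le_rfl ⟨P, ?_, ?_⟩
      · have hJ : normalizer ((Cfsg.Lib.PLocal.jF p (P : Subgroup G) : Subgroup G) : Set G) = M := by
          refine (hnc _ (le_trans (hPR ▸ hMR) (Cfsg.Lib.PLocal.normalizer_le_jF _))).resolve_right ?_
          exact hnn _ ((Cfsg.Lib.PLocal.jF_le _).trans (hPR ▸ hRM))
            (Cfsg.Lib.PLocal.jF_ne_bot P.2 (hPR ▸ hRne))
        rw [hJ]; exact hnpcM
      · set Z := Cfsg.Lib.PLocal.zc (P : Subgroup G) with hZ
        have hZP : Z ≤ (P : Subgroup G) := inf_le_left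
        have hMC : M ≤ centralizer (Z : Set G) := by
          intro m hm
          refine mem_centralizer_iff.2 fun z hz => ?_
          have hzR : z ∈ R := hPR ▸ hZP hz
          -- `z` is central in `M`
          obtain ⟨H₀, hH₀⟩ := exists_right_complement'_of_coprime (N := (P₀ : Subgroup M))
            P₀.card_coprime_index
          have hzc : ∀ w : M, w ∈ (P₀ : Subgroup M) → z * (w : G) = (w : G) * z := fun w hw => by
            exact (mem_centralizer_iff.1 hz.2 (w : G) (hPR ▸ ⟨w, hw, rfl⟩)).symm
          have hres : ∀ w : M, w ∈ H₀ → z * (w : G) = (w : G) * z := fun w hw => by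
            have hwT : w ∈ Cfsg.pResidual p M := Cfsg.Lib.Transfer.coprime_orderOf_mem_pResidual (by
              refine Nat.Coprime.coprime_dvd_left (H₀.orderOf_dvd_natCard hw) ?_
              rw [← hH₀.symm.index_eq_card]
              exact ((hp.coprime_iff_not_dvd).2 P₀.not_dvd_index).symm)
            haveI : (Cfsg.pResidual p M).Normal := Cfsg.Lib.Transfer.pResidual_normal p
            have hd : Disjoint (P₀ : Subgroup M) (Cfsg.pResidual p M) := by
              rw [disjoint_iff]
              obtain ⟨a, ha⟩ := P₀.2.exists_card_eq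
              exact inf_eq_bot_of_coprime (ha ▸ ((Carter.coprime_pResidual_of_nilpotent p).symm.pow_left a))
            exact congrArg Subtype.val (Subgroup.commute_of_normal_of_disjoint _ _ hP₀n inferInstance hd
              ⟨z, hRM hzR⟩ w (by obtain ⟨v, hv, rfl⟩ := hzR; exact hv) hwT).eq
          obtain ⟨⟨⟨a, ha⟩, ⟨b, hb⟩⟩, hab⟩ := hH₀.2 ⟨m, hm⟩
          have e : m = (a : G) * (b : G) := (congrArg Subtype.val hab).symm
          rw [e, ← mul_assoc, hzc a ha, mul_assoc, hres b hb, mul_assoc]
        have hC : centralizer (Z : Set G) = M := by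
          refine (hnc _ hMC).resolve_right fun h => ?_
          refine hnn Z (hZP.trans (hPR ▸ hRM)) (Cfsg.Lib.PLocal.zc_ne_bot P.2 (hPR ▸ hRne)) ?_
          exact top_le_iff.1 (h ▸ Cfsg.Lib.PLocal.centralizer_le_normalizer')
        rw [hC]; exact hnpcM
    · intro hd
      refine P.not_dvd_index ?_
      rw [hPR]
      exact hd.trans (index_dvd_of_le hRM)
  -- the intersection of the complements
  set s := (Nat.card M).primeFactors
  set K : Subgroup G := ⨅ p : s, Cfsg.pResidual (p : ℕ) G with hK
  haveI hpn : ∀ p : s, (Cfsg.pResidual (p : ℕ) G).Normal := fun p => Cfsg.Lib.Transfer.pResidual_normal _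
  haveI hKn : K.Normal := normal_iInf_normal fun p => inferInstance
  have hKc : (Nat.card M).Coprime (Nat.card K) := by
    refine Nat.coprime_of_dvd fun q hq hqM hqK => ?_
    haveI := Fact.mk hq
    have h1 := (Cfsg.Lib.Transfer.hasNormalPComplement_iff_pResidual (G := G) (p := q)).1 (key q hq hqM).1
    exact hq.ne_one (Nat.eq_one_of_dvd_coprimes h1
      (hqK.trans (card_dvd_of_le (iInf_le _ (⟨q, Nat.mem_primeFactors.2 ⟨hq, hqM, Nat.card_pos.ne'⟩⟩ : s))))
      dvd_rfl)
  rcases eq_or_ne K ⊥ with hK0 | hK0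
  · have hnilq : ∀ p : s, Group.IsNilpotent (G ⧸ Cfsg.pResidual (p : ℕ) G) := fun p => by
      haveI := Fact.mk (Nat.prime_of_mem_primeFactors p.2)
      exact (Cfsg.Lib.Transfer.isPGroup_quotient_of_pResidual_le _ le_rfl).isNilpotent
    haveI := hnilq
    have hGn : Group.IsNilpotent G := by
      refine Carter.nilpotent_injective
        (MonoidHom.pi fun p : s => QuotientGroup.mk' (Cfsg.pResidual (p : ℕ) G))
        ((injective_iff_map_eq_one _).2 fun x hx => ?_)
      have : x ∈ K := by
        rw [hK, mem_iInf]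
        exact fun p => (QuotientGroup.eq_one_iff x).1 (congrFun hx p)
      rwa [hK0, mem_bot] at this
    haveI := hGn
    infer_instance
  have hMs : Group.IsSolvable M := inferInstance
  have hMK : M ≤ normalizer (K : Set G) := by rw [normalizer_eq_top_iff.2 hKn]; exact le_top
  obtain ⟨q, hq, hqd⟩ := Nat.exists_prime_and_dvd (fun h => hK0 (eq_bot_of_card_eq K h))
  haveI := Fact.mk hq
  obtain ⟨Q, hQ⟩ := Cfsg.Lib.Solv.exists_invariant_sylow M K hMK hKc (Or.inl hMs) q
  set Q' := (Q : Subgroup K).map K.subtype with hQ'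
  have hQK : Q' ≤ K := map_subtype_le _
  have htop : M ⊔ Q' = ⊤ := by
    refine (hnc _ le_sup_left).resolve_left fun h => ?_
    have h1 : Q' ≤ M := le_sup_right.trans h.le
    refine Q.ne_bot_of_dvd_card hqd ((map_eq_bot_iff_of_injective _ K.subtype_injective).1 ?_)
    exact le_bot_iff.1 ((inf_eq_bot_of_coprime hKc) ▸ le_inf h1 hQK)
  have hKQ : K = Q' := by
    refine le_antisymm (fun k hk => ?_) hQK
    have hk' : k ∈ ((M ⊔ Q' : Subgroup G) : Set G) := by rw [htop]; trivial
    rw [coe_mul_of_left_le_normalizer_right M Q' hQ] at hk'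
    obtain ⟨m, hm, c, hc, rfl⟩ := Set.mem_mul.1 hk'
    have h1 : m ∈ M ⊓ K := ⟨hm, by simpa using K.mul_mem hk (K.inv_mem (hQK hc))⟩
    rw [inf_eq_bot_of_coprime hKc, mem_bot] at h1
    rw [h1, one_mul]; exact hc
  have hKp : IsPGroup q K := hKQ ▸ (Q.2.map _)
  haveI : Group.IsNilpotent K := hKp.isNilpotent
  have hquo : Group.IsSolvable (G ⧸ K) := by
    refine Group.isSolvable_of_surjective (f := (QuotientGroup.mk' K).comp M.subtype) fun y => ?_
    obtain ⟨g, rfl⟩ := QuotientGroup.mk'_surjective K y
    have hg : g ∈ M ⊔ K := by rw [hKQ, htop]; exact mem_top g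
    rw [← SetLike.mem_coe, mul_normal] at hg
    obtain ⟨b, hb, k, hk, rfl⟩ := Set.mem_mul.1 hg
    refine ⟨⟨b, hb⟩, ?_⟩
    show QuotientGroup.mk' K b = QuotientGroup.mk' K (b * k)
    rw [map_mul, show QuotientGroup.mk' K k = 1 from (QuotientGroup.eq_one_iff k).2 hk, mul_one]
  exact Group.isSolvable_of_ker_le_range K.subtype (QuotientGroup.mk' K) (by simp)

end Cfsg.Lib.Solv.OddMaximal
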