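import Cfsg.Agent.Lib.Solv.Coprime2
import Cfsg.Agent.Lib.Solv.Frobenius
import Cfsg.Agent.Lib.Solv.Cores
import Cfsg.Agent.Lib.Transfer.Action
import Cfsg.Agent.Lib.Transfer.NormalPComplement
import Cfsg.Agent.S4040
import Cfsg.Agent.S0042

/-!
# Groups in which all centralizers of non-central elements are maximal
-/

set_option autoImplicit false

namespace Cfsg.Lib.Solv.MaxCent

open Subgroup
open scoped Pointwise commutatorElement

universe u

variable {G : Type u} [Group G]

local notation "Zc" => Subgroup.center G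
local notation "π" => QuotientGroup.mk' (Subgroup.center G)

/-- The hypothesis. -/
def Hyp (G : Type u) [Group G] : Prop :=
  ∀ x : G, x ∉ Subgroup.center G → IsCoatom (Subgroup.centralizer ({x} : Set G))

theorem mem_C {x w : G} : w ∈ centralizer ({x} : Set G) ↔ w * x = x * w := mem_centralizer_singleton_iff

theorem center_le_C (x : G) : Zc ≤ centralizer ({x} : Set G) :=
  center_le_centralizer _

theorem C_pow_le (x : G) (k : ℕ) : centralizer ({x} : Set G) ≤ centralizer ({x ^ k} : Set G) := fun w hw =>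
  mem_C.2 ((show Commute w x from mem_C.1 hw).pow_right k).eq

theorem C_ne_top {x : G} (hx : x ∉ Zc) : centralizer ({x} : Set G) ≠ ⊤ := fun e => hx (mem_center_iff.2 fun w => mem_C.1 (e ▸ mem_top w))

theorem eq_of_le (h : Hyp G) {x y : G} (hx : x ∉ Zc) (hy : y ∉ Zc)
    (hle : centralizer ({x} : Set G) ≤ centralizer ({y} : Set G)) :
    centralizer ({x} : Set G) = centralizer ({y} : Set G) :=
  ((h x hx).le_iff.1 hle).resolve_left (C_ne_top hy) |>.symm

/-- Commuting elements with different centralizers have the same prime order modulo the centre. -/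
theorem prime_of_ne [Finite G] (h : Hyp G) {x y : G} (hx : x ∉ Zc) (hy : y ∉ Zc) (hxy : x * y = y * x)
    (hne : centralizer ({x} : Set G) ≠ centralizer ({y} : Set G)) :
    ∃ p : ℕ, p.Prime ∧ x ^ p ∈ Zc ∧ y ^ p ∈ Zc := by
  have key : ∀ a b : G, a ∉ Zc → b ∉ Zc → a * b = b * a → centralizer ({a} : Set G) ≠ centralizer ({b} : Set G) →
      ∀ n : ℕ, b ^ n ∈ Zc → a ^ n ∈ Zc := by
    intro a b ha hb hab hne n hbn
    by_contra han
    have hpow : (a * b) ^ n ∉ Zc := by
      rw [(show Commute a b from hab).mul_pow]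
      exact fun h2 => han (by simpa using mul_mem h2 (inv_mem hbn))
    have habZ : a * b ∉ Zc := fun h2 => hpow (pow_mem h2 n)
    have e1 : centralizer ({a} : Set G) = centralizer ({a ^ n} : Set G) := eq_of_le h ha han (C_pow_le a n)
    have h3 : centralizer ({a * b} : Set G) ≤ centralizer ({a} : Set G) := by
      rw [e1]
      intro w hw
      have h4 : Commute w ((a * b) ^ n) := (show Commute w (a * b) from mem_C.1 hw).pow_right n
      rw [(show Commute a b from hab).mul_pow] at h4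
      have h5 : Commute w (b ^ n) := (mem_center_iff.1 hbn w)
      have h6 := h4.mul_right h5.inv_right
      rw [mul_inv_cancel_right] at h6
      exact mem_C.2 h6.eq
    have e2 := eq_of_le h habZ ha h3
    refine hne (eq_of_le h ha hb fun w hw => mem_C.2 ?_)
    have h7 : Commute w (a * b) := mem_C.1 (e2.symm ▸ hw : w ∈ centralizer ({a * b} : Set G))
    have h8 := ((show Commute w a from mem_C.1 hw).inv_right).mul_right h7
    rw [inv_mul_cancel_left] at h8
    exact h8.eq
  set m := orderOf (π x) with hm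
  have hm1 : m ≠ 1 := fun e => hx ((QuotientGroup.eq_one_iff x).1 (orderOf_eq_one_iff.1 e))
  obtain ⟨p, hp, hpm⟩ := Nat.exists_prime_and_dvd hm1
  have hmem : ∀ (w : G) (n : ℕ), w ^ n ∈ Zc ↔ orderOf (π w) ∣ n := fun w n => by
    rw [orderOf_dvd_iff_pow_eq_one, ← map_pow, QuotientGroup.mk'_apply, QuotientGroup.eq_one_iff]
  have hyord : orderOf (π y) = m := Nat.dvd_antisymm
    ((hmem y m).1 (key y x hy hx hxy.symm hne.symm m ((hmem x m).2 dvd_rfl)))
    ((hmem x _).1 (key x y hx hy hxy hne _ ((hmem y _).2 dvd_rfl)))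
  by_cases hmp : m = p
  · exact ⟨p, hp, (hmem x p).2 (hmp ▸ dvd_rfl), (hmem y p).2 (by rw [hyord, hmp])⟩
  exfalso
  have hxp : x ^ p ∉ Zc := fun h2 => hmp ((Nat.dvd_prime hp).1 ((hmem x p).1 h2) |>.resolve_left hm1)
  have e1 : centralizer ({x} : Set G) = centralizer ({x ^ p} : Set G) := eq_of_le h hx hxp (C_pow_le x p)
  have h2 : (x ^ p) ^ (m / p) ∈ Zc := by
    rw [← pow_mul, Nat.mul_div_cancel' hpm]
    exact (hmem x m).2 dvd_rfl
  have h3 := (hmem y _).1 (key y (x ^ p) hy hxp ((show Commute y x from hxy.symm).pow_right p).eq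
    (e1 ▸ hne.symm) (m / p) h2)
  rw [hyord] at h3
  have hmpos : 0 < m := orderOf_pos _
  exact absurd (Nat.le_of_dvd (Nat.div_pos (Nat.le_of_dvd hmpos hpm) hp.pos) h3)
    (not_le.2 (Nat.div_lt_self hmpos hp.one_lt))

/-- Elements commuting with `x` modulo the centre normalize `C(x)`. -/
theorem mem_normalizer_C {x w : G} (hw : π w * π x = π x * π w) :
    w ∈ normalizer (centralizer ({x} : Set G) : Set G) := by
  have h1 : x⁻¹ * (w * x * w⁻¹) ∈ Zc := by
    rw [← QuotientGroup.eq_one_iff]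
    show π (x⁻¹ * (w * x * w⁻¹)) = 1
    rw [map_mul, map_mul, map_mul, map_inv, map_inv, hw, mul_inv_cancel_right, inv_mul_cancel]
  have key : ∀ v : G, v ∈ centralizer ({w * x * w⁻¹} : Set G) ↔ v ∈ centralizer ({x} : Set G) := by
    intro v
    have e : w * x * w⁻¹ = x * (x⁻¹ * (w * x * w⁻¹)) := by group
    have hz : Commute v (x⁻¹ * (w * x * w⁻¹)) := mem_center_iff.1 h1 v
    rw [mem_C, mem_C, e]
    constructor
    · intro hv
      have h2 := (show Commute v _ from hv).mul_right hz.inv_right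
      rw [mul_inv_cancel_right] at h2
      exact h2.eq
    · exact fun hv => ((show Commute v x from hv).mul_right hz).eq
  rw [mem_normalizer_iff]
  intro v
  constructor
  · intro hv
    exact (key _).1 (mem_C.2 ((Commute.conj_iff w).2 (mem_C.1 hv)).eq)
  · intro hv
    exact mem_C.2 ((Commute.conj_iff w).1 (mem_C.1 ((key _).2 hv))).eq

theorem mem_map_iff {K : Subgroup G} (hK : Zc ≤ K) {w : G} : π w ∈ K.map π ↔ w ∈ K := by
  refine ⟨?_, mem_map_of_mem π⟩
  rintro ⟨k, hk, e⟩
  have h1 : k⁻¹ * w ∈ Zc := QuotientGroup.eq.1 e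
  have := mul_mem hk (hK h1)
  rwa [mul_inv_cancel_left] at this

theorem normalizer_map [Finite G] {K : Subgroup G} (hK : Zc ≤ K) {w : G}
    (hw : π w ∈ normalizer ((K.map π : Subgroup (G ⧸ Zc)) : Set (G ⧸ Zc))) : w ∈ normalizer (K : Set G) := by
  rw [mem_normalizer_iff]
  intro v
  rw [← mem_map_iff hK, ← mem_map_iff hK, map_mul, map_mul, map_inv]
  exact mem_normalizer_iff.1 hw _

theorem normalizer_coatom {M : Subgroup G} (hM : IsCoatom M) (hn : ¬ M.Normal) :
    normalizer (M : Set G) = M :=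
  (hM.le_iff.1 (le_normalizer)).resolve_left fun e => hn (normalizer_eq_top_iff.1 e)

theorem card_prime_of_coatom [Finite G] {M : Subgroup G} [M.Normal] (hM : IsCoatom M) : M.index.Prime := by
  have h1 : M.index ≠ 1 := fun e => hM.1 (index_eq_one.1 e)
  obtain ⟨r, hr, hrd⟩ := Nat.exists_prime_and_dvd h1
  haveI := Fact.mk hr
  rw [index_eq_card] at hrd
  obtain ⟨c, hc⟩ := exists_prime_orderOf_dvd_card' r hrd
  have h2 : M < (zpowers c).comap (QuotientGroup.mk' M) := by
    refine lt_of_le_of_ne (fun m hm => mem_comap.2 (by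
      rw [show QuotientGroup.mk' M m = 1 from (QuotientGroup.eq_one_iff m).2 hm]; exact one_mem _)) fun e => ?_
    obtain ⟨g, hg⟩ := QuotientGroup.mk'_surjective M c
    have : g ∈ M := e.symm ▸ (mem_comap.2 (hg ▸ mem_zpowers c))
    rw [show QuotientGroup.mk' M g = 1 from (QuotientGroup.eq_one_iff g).2 this] at hg
    rw [← hg, orderOf_one] at hc
    exact hr.ne_one hc.symm
  have h3 := Subgroup.index_comap_of_surjective (H := zpowers c) (QuotientGroup.mk'_surjective M)
  rw [hM.2 _ h2, index_top] at h3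
  have h4 : zpowers c = ⊤ := index_eq_one.1 h3.symm
  rw [index_eq_card, ← Subgroup.card_top (G := G ⧸ M), ← h4, Nat.card_zpowers, hc]
  exact hr

theorem conj_smul_of_normal {X : Type*} [Group X] (g : X) (L : Subgroup X) [hL : L.Normal] : MulAut.conj g • L = L := by
  ext w
  rw [mem_conj_smul]
  refine ⟨fun hw => ?_, fun hw => ?_⟩
  · have := hL.conj_mem _ hw g
    simpa [mul_assoc] using this
  · have := hL.conj_mem _ hw g⁻¹
    simpa using this

/-- All centralizers normal. -/
theorem elementary_of_normal [Finite G] (h : Hyp G) (hna : ¬ IsMulCommutative G)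
    (hall : ∀ x : G, x ∉ Zc → (centralizer ({x} : Set G)).Normal) :
    ∃ p : ℕ, p.Prime ∧ Cfsg.IsElementaryAbelian p (⊤ : Subgroup (G ⧸ Zc)) := by
  have hcomm : ∀ a b : G, π a * π b = π b * π a := by
    intro a b
    have : ⁅a, b⁆ ∈ Zc := by
      rw [mem_center_iff]
      intro x
      by_cases hx : x ∈ Zc
      · exact (mem_center_iff.1 hx _).symm
      · haveI := hall x hx
        have hcy : IsMulCommutative (G ⧸ centralizer ({x} : Set G)) := by
          have hp := card_prime_of_coatom (h x hx)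
          rw [index_eq_card] at hp
          haveI := Fact.mk hp
          haveI := isCyclic_of_prime_card (α := G ⧸ centralizer ({x} : Set G)) rfl
          exact ⟨⟨fun a b => (IsCyclic.commGroup (α := G ⧸ centralizer ({x} : Set G))).mul_comm a b⟩⟩
        have h1 : ⁅a, b⁆ ∈ centralizer ({x} : Set G) := by
          rw [← QuotientGroup.eq_one_iff]
          show QuotientGroup.mk' _ ⁅a, b⁆ = 1
          rw [map_commutatorElement, commutatorElement_eq_one_iff_mul_comm]
          exact hcy.is_comm.comm _ _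
        exact (mem_C.1 h1).symm
    have h2 : π ⁅a, b⁆ = 1 := (QuotientGroup.eq_one_iff _).2 this
    rw [map_commutatorElement, commutatorElement_eq_one_iff_mul_comm] at h2
    exact h2
  have hprime : ∀ x : G, x ∉ Zc → (orderOf (π x)).Prime := by
    intro x hx
    haveI := hall x hx
    have hr := card_prime_of_coatom (h x hx)
    set r := (centralizer ({x} : Set G)).index
    have hxr : x ^ r ∈ Zc := by
      rw [mem_center_iff]
      intro g
      have hg : g ^ r * x = x * g ^ r := mem_C.1 (Subgroup.pow_index_mem _ g)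
      have hc : ⁅x, g⁆ ∈ Zc := by
        rw [← QuotientGroup.eq_one_iff]
        show π ⁅x, g⁆ = 1
        rw [map_commutatorElement, commutatorElement_eq_one_iff_mul_comm]
        exact hcomm x g
      set c := ⁅x, g⁆ with hcd
      have e1 : x * g * x⁻¹ = c * g := by rw [hcd, commutatorElement_def]; group
      have e2 : g * x * g⁻¹ = c⁻¹ * x := by rw [hcd, commutatorElement_def]; group
      have hcg : Commute c g := (mem_center_iff.1 hc g).symm
      have hcx : Commute c⁻¹ x := (show Commute c x from (mem_center_iff.1 hc x).symm).inv_left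
      have h3 : x * g ^ r * x⁻¹ = c ^ r * g ^ r := by rw [← conj_pow, e1, hcg.mul_pow]
      have h4 : c ^ r = 1 := by
        rw [← hg, mul_inv_cancel_right] at h3
        exact right_eq_mul.1 h3
      have h5 : g * x ^ r * g⁻¹ = x ^ r := by rw [← conj_pow, e2, hcx.mul_pow, inv_pow, h4, inv_one, one_mul]
      exact mul_inv_eq_iff_eq_mul.1 h5
    have hd : orderOf (π x) ∣ r := by
      rw [orderOf_dvd_iff_pow_eq_one, ← map_pow]
      exact (QuotientGroup.eq_one_iff _).2 hxr
    rcases (Nat.dvd_prime hr).1 hd with e | e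
    · exact absurd ((QuotientGroup.eq_one_iff x).1 (orderOf_eq_one_iff.1 e)) hx
    · exact e ▸ hr
  obtain ⟨x0, hx0⟩ : ∃ x : G, x ∉ Zc := by
    by_contra hno
    push Not at hno
    exact hna ⟨⟨fun a b => mem_center_iff.1 (hno b) a⟩⟩
  refine ⟨_, hprime x0 hx0, ⟨⟨fun a b => Subtype.ext ?_⟩⟩, fun a _ => ?_⟩
  · obtain ⟨a', ha⟩ := QuotientGroup.mk'_surjective Zc (a : G ⧸ Zc)
    obtain ⟨b', hb⟩ := QuotientGroup.mk'_surjective Zc (b : G ⧸ Zc)
    simp only [Subgroup.coe_mul, ← ha, ← hb]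
    exact hcomm a' b'
  · obtain ⟨a', rfl⟩ := QuotientGroup.mk'_surjective Zc a
    by_contra hne
    have ha' : a' ∉ Zc := fun h2 => hne (by rw [show π a' = 1 from (QuotientGroup.eq_one_iff a').2 h2, one_pow])
    have hco : (orderOf (π x0)).Coprime (orderOf (π a')) := by
      rw [Nat.coprime_primes (hprime _ hx0) (hprime _ ha')]
      intro e
      exact hne (by rw [e, pow_orderOf_eq_one])
    have hmul := (show Commute (π x0) (π a') from hcomm x0 a').orderOf_mul_eq_mul_orderOf_of_coprime hco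
    rw [← map_mul] at hmul
    have hne' : x0 * a' ∉ Zc := fun h2 => by
      rw [show π (x0 * a') = 1 from (QuotientGroup.eq_one_iff _).2 h2, orderOf_one] at hmul
      exact (hprime _ hx0).ne_one (Nat.eq_one_of_mul_eq_one_right hmul.symm)
    have := hprime _ hne'
    rw [hmul] at this
    exact Nat.not_prime_mul (hprime _ hx0).ne_one (hprime _ ha').ne_one this

/-- A non-normal centralizer is abelian. -/
theorem abelian_of_not_normal [Finite G] (h : Hyp G) {x0 : G} (hx0 : x0 ∉ Zc)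
    (hn : ¬ (centralizer ({x0} : Set G)).Normal) {y : G} (hy : y ∈ centralizer ({x0} : Set G)) (hyZ : y ∉ Zc) :
    centralizer ({y} : Set G) = centralizer ({x0} : Set G) := by
  by_contra hne
  set M := centralizer ({x0} : Set G) with hM
  have hxy : x0 * y = y * x0 := (mem_C.1 hy).symm
  obtain ⟨p, hp, hx0p, hyp⟩ := prime_of_ne h hx0 hyZ hxy (Ne.symm hne)
  haveI := Fact.mk hp
  have hordx : ∀ w : G, w ∉ Zc → w ^ p ∈ Zc → orderOf (π w) = p := fun w hw hwp =>
    orderOf_eq_prime (by rw [← map_pow]; exact (QuotientGroup.eq_one_iff _).2 hwp)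
      (fun e => hw ((QuotientGroup.eq_one_iff w).1 e))
  -- centralizers meeting a different one are of exponent p
  have hexp : ∀ a b : G, a ∉ Zc → a ^ p ∈ Zc → b ∉ Zc → a * b = b * a →
      centralizer ({a} : Set G) ≠ centralizer ({b} : Set G) → ∀ w ∈ centralizer ({b} : Set G), w ^ p ∈ Zc := by
    intro a b ha hap hb hab hne w hw
    obtain ⟨p1, hp1, h1, h2⟩ := prime_of_ne h ha hb hab hne
    have e1 : p1 = p := by
      have h3 : orderOf (π a) ∣ p1 := by
        rw [orderOf_dvd_iff_pow_eq_one, ← map_pow]; exact (QuotientGroup.eq_one_iff _).2 h1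
      rw [hordx a ha hap] at h3
      exact ((Nat.prime_dvd_prime_iff_eq hp hp1).1 h3).symm
    subst e1
    by_cases hwZ : w ∈ Zc
    · exact pow_mem hwZ _
    by_cases hwe : centralizer ({w} : Set G) = centralizer ({b} : Set G)
    · have hwa : w * a = a * w := by
        have : a ∈ centralizer ({w} : Set G) := hwe ▸ mem_C.2 hab
        exact (mem_C.1 this).symm
      obtain ⟨p2, hp2, h4, h5⟩ := prime_of_ne h ha hwZ hwa.symm (fun e => hne (e.trans hwe))
      have h3 : orderOf (π a) ∣ p2 := by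
        rw [orderOf_dvd_iff_pow_eq_one, ← map_pow]; exact (QuotientGroup.eq_one_iff _).2 h4
      rw [hordx a ha hap] at h3
      rwa [(Nat.prime_dvd_prime_iff_eq hp hp2).1 h3]
    · obtain ⟨p2, hp2, h4, h5⟩ := prime_of_ne h hb hwZ (mem_C.1 hw).symm (Ne.symm hwe)
      have h3 : orderOf (π b) ∣ p2 := by
        rw [orderOf_dvd_iff_pow_eq_one, ← map_pow]; exact (QuotientGroup.eq_one_iff _).2 h4
      rw [hordx b hb h2] at h3
      rwa [(Nat.prime_dvd_prime_iff_eq hp hp2).1 h3]
  have hMexp : ∀ w ∈ M, w ^ p ∈ Zc := hexp y x0 hyZ hyp hx0 hxy.symm hne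
  set Q := M.map π with hQ
  have hZM : Zc ≤ M := center_le_C x0
  have hexpQ : ∀ a ∈ Q, a ^ p = 1 := by
    rintro _ ⟨w, hw, rfl⟩
    rw [← map_pow]; exact (QuotientGroup.eq_one_iff _).2 (hMexp w hw)
  have hQp : IsPGroup p Q := fun a => ⟨1, Subtype.ext (by rw [pow_one, SubmonoidClass.coe_pow]; exact hexpQ a a.2)⟩
  have hMn := normalizer_coatom (h x0 hx0) hn
  have hQn : normalizer (Q : Set (G ⧸ Zc)) = Q := by
    refine le_antisymm (fun a ha => ?_) le_normalizer
    obtain ⟨w, rfl⟩ := QuotientGroup.mk'_surjective Zc a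
    exact mem_map_of_mem π (hMn.le (normalizer_map hZM ha))
  obtain ⟨P, hP⟩ := hQp.exists_le_sylow
  have hPQ : (P : Subgroup (G ⧸ Zc)) = Q := by
    by_contra hPQ
    have hlt : Q.subgroupOf P < normalizer ((Q.subgroupOf P : Subgroup P) : Set P) := by
      haveI : Group.IsNilpotent ↥(P : Subgroup (G ⧸ Zc)) := P.isPGroup'.isNilpotent
      refine Group.normalizerCondition_of_isNilpotent _ (lt_top_iff_ne_top.2 fun e => hPQ (le_antisymm ?_ hP))
      exact subgroupOf_eq_top.1 e
    obtain ⟨a, ha, haQ⟩ := Set.exists_of_ssubset hlt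
    refine haQ ?_
    show (a : G ⧸ Zc) ∈ Q
    rw [← hQn]
    rw [mem_normalizer_iff]
    intro b
    constructor
    · intro hb
      exact (mem_normalizer_iff.1 ha ⟨b, hP hb⟩).1 hb
    · intro hb
      have hb' : b ∈ (P : Subgroup (G ⧸ Zc)) := by
        have := mul_mem (mul_mem (inv_mem a.2) (hP hb)) a.2
        simpa [mul_assoc] using this
      exact (mem_normalizer_iff.1 ha ⟨b, hb'⟩).2 hb
  have hQmax : ∀ X : Subgroup (G ⧸ Zc), Q ≤ X → X = Q ∨ X = ⊤ := by
    intro X hX
    have hle : M ≤ X.comap π := fun w hw => mem_comap.2 (hX (mem_map_of_mem π hw))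
    rcases (h x0 hx0).le_iff.1 hle with e | e
    · exact Or.inr (comap_injective (QuotientGroup.mk'_surjective Zc) (e.trans (comap_top π).symm))
    · exact Or.inl (by rw [hQ, show M = X.comap π from e.symm, map_comap_eq_self_of_surjective (QuotientGroup.mk'_surjective Zc)])
  have hnotnormal : ¬ Q.Normal := fun hq => hn (normalizer_eq_top_iff.1 (eq_top_iff.2 fun w _ =>
    normalizer_map hZM (by rw [normalizer_eq_top_iff.2 hq]; exact mem_top _)))
  -- central elements of `Q`
  have hcent : ∀ r ∈ Q, r ≠ 1 → (∀ s ∈ Q, s * r = r * s) → ∀ w : G ⧸ Zc, w * r = r * w → w ∈ Q := by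
    rintro _ ⟨r, hr, rfl⟩ hr1 hrc
    have hrZ : r ∉ Zc := fun h2 => hr1 ((QuotientGroup.eq_one_iff r).2 h2)
    have hML : M ≤ normalizer (centralizer ({r} : Set G) : Set G) := fun w hw =>
      mem_normalizer_C (hrc _ (mem_map_of_mem π hw))
    have hCr : centralizer ({r} : Set G) = M := by
      rcases (h x0 hx0).le_iff.1 hML with e | e
      · by_contra hne'
        haveI := normalizer_eq_top_iff.1 e
        have hL := hexp x0 r hx0 hx0p hrZ (mem_C.1 hr).symm (Ne.symm hne')
        set L := (centralizer ({r} : Set G)).map π with hLdef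
        haveI : L.Normal := (normalizer_eq_top_iff.1 e).map π (QuotientGroup.mk'_surjective Zc)
        have hLp : IsPGroup p L := fun a => ⟨1, Subtype.ext (by
          obtain ⟨w, hw, e2⟩ := a.2
          rw [pow_one, SubmonoidClass.coe_pow, ← e2, ← map_pow]
          exact (QuotientGroup.eq_one_iff _).2 (hL w hw))⟩
        have hLP : L ≤ (P : Subgroup (G ⧸ Zc)) :=
          (Cfsg.Lib.Solv.le_pCore inferInstance hLp).trans (Cfsg.Lib.Solv.pCore_le_sylow p P)
        rw [hPQ] at hLP
        have hrM : centralizer ({r} : Set G) ≤ M := fun w hw => (mem_map_iff hZM).1 (hLP (mem_map_of_mem π hw))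
        exact hne' (((h r hrZ).le_iff.1 hrM).resolve_left (C_ne_top hx0)).symm
      · have hle : centralizer ({r} : Set G) ≤ M := le_normalizer.trans e.le
        exact (((h r hrZ).le_iff.1 hle).resolve_left (C_ne_top hx0)).symm
    intro w hw
    obtain ⟨w, rfl⟩ := QuotientGroup.mk'_surjective Zc w
    refine mem_map_of_mem π ?_
    have := mem_normalizer_C hw
    rwa [hCr, hMn] at this
  -- the fixed points of elements of `Q`
  have hfix : ∀ a ∈ Q, a ≠ 1 → ∀ w : G ⧸ Zc, w * a = a * w → ∃ g : G ⧸ Zc, g * w * g⁻¹ ∈ Q ∧ g * a * g⁻¹ ∈ Q ∧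
      ∀ s ∈ Q, s * (g * a * g⁻¹) = g * a * g⁻¹ * s := by
    rintro _ ⟨a, ha, rfl⟩ ha1 w hw
    have haZ : a ∉ Zc := fun h2 => ha1 ((QuotientGroup.eq_one_iff a).2 h2)
    obtain ⟨w, rfl⟩ := QuotientGroup.mk'_surjective Zc w
    have hw' := mem_normalizer_C hw
    have hexpL : ∀ v ∈ centralizer ({a} : Set G), v ^ p ∈ Zc := by
      by_cases e : centralizer ({x0} : Set G) = centralizer ({a} : Set G)
      · intro v hv
        exact hMexp v (e.symm ▸ hv : v ∈ centralizer ({x0} : Set G))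
      · exact hexp x0 a hx0 hx0p haZ (mem_C.1 ha).symm e
    set L := (centralizer ({a} : Set G)).map π with hLdef
    have hLp : IsPGroup p L := fun b => ⟨1, Subtype.ext (by
      obtain ⟨v, hv, e2⟩ := b.2
      rw [pow_one, SubmonoidClass.coe_pow, ← e2, ← map_pow]
      exact (QuotientGroup.eq_one_iff _).2 (hexpL v hv))⟩
    obtain ⟨P2, hP2⟩ := hLp.exists_le_sylow
    obtain ⟨g, hg⟩ := MulAction.exists_smul_eq (G ⧸ Zc) P2 P
    have hmap : ∀ b ∈ (P2 : Subgroup (G ⧸ Zc)), g * b * g⁻¹ ∈ Q := fun b hb => by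
      rw [← hPQ, ← hg, Sylow.coe_subgroup_smul, mem_pointwise_smul_iff_inv_smul_mem]
      simpa [mul_assoc] using hb
    have hLmax : ∀ X : Subgroup (G ⧸ Zc), L ≤ X → X = L ∨ X = ⊤ := by
      intro X hX
      have hle : centralizer ({a} : Set G) ≤ X.comap π := fun v hv => mem_comap.2 (hX (mem_map_of_mem π hv))
      rcases (h a haZ).le_iff.1 hle with e | e
      · exact Or.inr (comap_injective (QuotientGroup.mk'_surjective Zc) (e.trans (comap_top π).symm))
      · exact Or.inl (by rw [hLdef, ← e, map_comap_eq_self_of_surjective (QuotientGroup.mk'_surjective Zc)])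
    have hP2top : (P2 : Subgroup (G ⧸ Zc)) ≠ ⊤ := fun e => hnotnormal (by
      have : Q = ⊤ := by rw [← hPQ, ← hg, Sylow.coe_subgroup_smul, e, conj_smul_of_normal]
      rw [this]; infer_instance)
    have hP2L : (P2 : Subgroup (G ⧸ Zc)) = L := (hLmax _ hP2).resolve_right hP2top
    have hwL : π w ∈ normalizer (L : Set (G ⧸ Zc)) := (le_normalizer_map π) (mem_map_of_mem π hw')
    have hLn : normalizer (L : Set (G ⧸ Zc)) = L := by
      refine (hLmax _ le_normalizer).resolve_right fun e => hnotnormal ?_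
      haveI : L.Normal := normalizer_eq_top_iff.1 e
      have : Q = L := by
        rw [← hPQ, ← hg, Sylow.coe_subgroup_smul, hP2L]
        exact conj_smul_of_normal g L
      rw [this]; infer_instance
    rw [hLn] at hwL
    refine ⟨g, hmap _ (hP2 hwL), hmap _ (hP2 (mem_map_of_mem π (mem_C.2 rfl))), fun s hs => ?_⟩
    have hs' : g⁻¹ * s * g ∈ L := by
      rw [← hP2L]
      rw [← hPQ, ← hg, Sylow.coe_subgroup_smul, mem_pointwise_smul_iff_inv_smul_mem] at hs
      simpa [mul_assoc] using hs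
    obtain ⟨v, hv, hve⟩ := hs'
    have hc : Commute (π v) (π a) := (show Commute v a from mem_C.1 hv).map π
    rw [hve] at hc
    have h2 := (Commute.conj_iff g).2 hc
    rw [show g * (g⁻¹ * s * g) * g⁻¹ = s by group] at h2
    exact h2.eq
  -- the p-core is trivial
  have hOp : ∀ R : Subgroup (G ⧸ Zc), R.Normal → IsPGroup p R → R = ⊥ := by
    intro R hR hRp
    by_contra hRne
    haveI := hR
    have hRQ : ∀ P2 : Sylow p (G ⧸ Zc), R ≤ (P2 : Subgroup (G ⧸ Zc)) := fun P2 =>
      (Cfsg.Lib.Solv.le_pCore hR hRp).trans (Cfsg.Lib.Solv.pCore_le_sylow p P2)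
    have hRQ' : R ≤ Q := hPQ ▸ hRQ P
    obtain ⟨r, hrR, hr1, hrc⟩ : ∃ r ∈ R, r ≠ 1 ∧ ∀ s ∈ Q, s * r = r * s := by
      have h2 := Cfsg.Lib.Transfer.card_modEq_card_inf_centralizer (p := p) R Q hQp
        (by rw [normalizer_eq_top_iff.2 hR]; exact le_top)
      have h3 : p ∣ Nat.card R := hRp.card_eq_or_dvd.resolve_left fun e => hRne (Subgroup.card_eq_one.1 e)
      have h4 : R ⊓ centralizer (Q : Set (G ⧸ Zc)) ≠ ⊥ := fun e => by
        rw [e, Subgroup.card_bot, Nat.ModEq, Nat.dvd_iff_mod_eq_zero.1 h3] at h2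
        rw [Nat.one_mod_eq_one.2 hp.ne_one] at h2
        exact zero_ne_one h2
      obtain ⟨c, hc, hc1⟩ : ∃ c ∈ R ⊓ centralizer (Q : Set (G ⧸ Zc)), c ≠ 1 := by
        by_contra hno
        push Not at hno
        exact h4 ((eq_bot_iff_forall _).2 hno)
      exact ⟨c, hc.1, hc1, fun s hs => mem_centralizer_iff.1 hc.2 s hs⟩
    have hZQR : ∀ s ∈ Q, (∀ t ∈ Q, t * s = s * t) → ∀ g : G ⧸ Zc, g * s * g⁻¹ ∈ Q := by
      intro s hs hsc g
      have hgr : g⁻¹ * r * g ∈ Q := hRQ' (by simpa using hR.conj_mem r hrR g⁻¹)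
      have h2 := (Commute.conj_iff g).2 (show Commute (g⁻¹ * r * g) s from hsc _ hgr)
      rw [show g * (g⁻¹ * r * g) * g⁻¹ = r by group] at h2
      exact hcent r (hRQ' hrR) hr1 hrc _ h2.symm.eq
    have hQn2 : Q.Normal := by
      refine ⟨fun s hs g => ?_⟩
      by_cases hs1 : s = 1
      · rw [hs1, mul_one, mul_inv_cancel]; exact one_mem _
      obtain ⟨k, -, hk, hkc⟩ := hfix s hs hs1 s rfl
      have h2 := hZQR _ hk hkc (g * k⁻¹)
      rw [show g * k⁻¹ * (k * s * k⁻¹) * (g * k⁻¹)⁻¹ = g * s * g⁻¹ by group] at h2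
      exact h2
    exact hnotnormal hQn2
  -- a normal p'-subgroup
  obtain ⟨K, hKn, hK1, hKp⟩ : ∃ K : Subgroup (G ⧸ Zc), K.Normal ∧ K ≠ ⊥ ∧ ¬ p ∣ Nat.card K := by
    by_cases hQc : ∀ a ∈ Q, ∀ b ∈ Q, a * b = b * a
    · have hle : normalizer ((P : Subgroup (G ⧸ Zc)) : Set (G ⧸ Zc)) ≤ centralizer ((P : Subgroup (G ⧸ Zc)) : Set (G ⧸ Zc)) := by
        rw [hPQ, hQn]
        exact fun a ha => mem_centralizer_iff.2 fun b hb => hQc b hb a ha
      obtain ⟨P', N, hN, hc⟩ := Cfsg.Lib.Transfer.hasNormalPComplement_of_normalizer_le_centralizer P hle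
      obtain ⟨hNc, -, -⟩ := Cfsg.Lib.Transfer.coprime_card_of_isComplement' hc
      refine ⟨N, hN, fun e => hnotnormal ?_, hp.coprime_iff_not_dvd.1 hNc.symm⟩
      rw [e, isComplement'_bot_left] at hc
      obtain ⟨g, hg⟩ := MulAction.exists_smul_eq (G ⧸ Zc) P' P
      have : Q = ⊤ := by rw [← hPQ, ← hg, Sylow.coe_subgroup_smul, hc, conj_smul_of_normal]
      rw [this]; infer_instance
    · have hodd : p ≠ 2 := by
        rintro rfl
        refine hQc fun a ha b hb => ?_
        have i1 : ∀ c ∈ Q, c⁻¹ = c := fun c hc => inv_eq_of_mul_eq_one_right (by rw [← pow_two]; exact hexpQ c hc)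
        rw [← i1 _ (mul_mem ha hb), mul_inv_rev, i1 b hb, i1 a ha]
      have hQodd : Odd (Nat.card Q) := by
        obtain ⟨k, hk⟩ := IsPGroup.iff_card.1 hQp
        rw [hk]; exact (hp.odd_of_ne_two hodd).pow
      haveI := Cfsg.Agent.S4040.result Q ⟨fun e => hnotnormal (by rw [e]; infer_instance),
        fun X hX => (hQmax X hX.le).resolve_left hX.ne'⟩ hQp.isNilpotent hQodd
      classical
      have hex : ∃ n, derivedSeries (G ⧸ Zc) n = ⊥ := (Group.isSolvable_def _).1 inferInstance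
      have h0 : Nat.find hex ≠ 0 := fun e => by
        have := Nat.find_spec hex
        rw [e, derivedSeries_zero] at this
        exact hnotnormal (by rw [show Q = ⊥ from le_bot_iff.1 (this ▸ le_top)]; infer_instance)
      obtain ⟨m, hm⟩ := Nat.exists_eq_succ_of_ne_zero h0
      have hAab : ∀ a ∈ derivedSeries (G ⧸ Zc) m, ∀ b ∈ derivedSeries (G ⧸ Zc) m, a * b = b * a := fun a ha b hb => by
        have := Nat.find_spec hex
        rw [hm, derivedSeries_succ, commutator_eq_bot_iff_le_centralizer] at this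
        exact mem_centralizer_iff.1 (this hb) a ha
      haveI := derivedSeries_normal (G ⧸ Zc) m
      refine ⟨derivedSeries (G ⧸ Zc) m, inferInstance, Nat.find_min hex (by omega), fun hd => ?_⟩
      let A : Subgroup (G ⧸ Zc) :=
        { carrier := {a | a ∈ derivedSeries (G ⧸ Zc) m ∧ a ^ p = 1}
          one_mem' := ⟨one_mem _, one_pow _⟩
          mul_mem' := fun {a b} ha hb => ⟨mul_mem ha.1 hb.1, by
            rw [(show Commute a b from hAab a ha.1 b hb.1).mul_pow, ha.2, hb.2, one_mul]⟩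
          inv_mem' := fun {a} ha => ⟨inv_mem ha.1, by rw [inv_pow, ha.2, inv_one]⟩ }
      have hA : A = ⊥ := hOp A ⟨fun a ha g => ⟨(derivedSeries_normal (G ⧸ Zc) m).conj_mem a ha.1 g, by
        rw [conj_pow, ha.2, mul_one, mul_inv_cancel]⟩⟩ fun a => ⟨1, Subtype.ext (by rw [pow_one, SubmonoidClass.coe_pow]; exact a.2.2)⟩
      obtain ⟨v, hv⟩ := exists_prime_orderOf_dvd_card' p hd
      rw [← Subgroup.orderOf_coe] at hv
      have hvA : (v : G ⧸ Zc) ∈ A := ⟨v.2, by rw [← hv, pow_orderOf_eq_one]⟩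
      rw [hA, mem_bot] at hvA
      rw [hvA, orderOf_one] at hv
      exact hp.one_lt.ne hv
  -- a noncyclic abelian subgroup of Q
  have hx0Q : π x0 ∈ Q := mem_map_of_mem π (mem_C.2 rfl)
  have hyQ : π y ∈ Q := mem_map_of_mem π hy
  let E : Subgroup (G ⧸ Zc) := closure {π x0, π y}
  have hEQ : E ≤ Q := (closure_le _).2 (by rintro _ (rfl | rfl); exacts [hx0Q, hyQ])
  haveI : IsMulCommutative E := isMulCommutative_closure (by
    rintro _ (rfl | rfl) _ (rfl | rfl) <;>
      first
      | rfl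
      | rw [← map_mul, ← map_mul, hxy])
  have hEc : ¬ IsCyclic E := by
    intro hc
    obtain ⟨e, he⟩ := hc.exists_generator
    have hep : (e : G ⧸ Zc) ^ p = 1 := hexpQ _ (hEQ e.2)
    obtain ⟨i, hi⟩ := mem_zpowers_iff.1 (he ⟨π x0, subset_closure (Or.inl rfl)⟩)
    obtain ⟨j, hj⟩ := mem_zpowers_iff.1 (he ⟨π y, subset_closure (Or.inr rfl)⟩)
    have hi' : (e : G ⧸ Zc) ^ i = π x0 := congrArg Subtype.val hi
    have hj' : (e : G ⧸ Zc) ^ j = π y := congrArg Subtype.val hj
    have hox : orderOf (π x0) = p := hordx x0 hx0 hx0p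
    have hoe : orderOf (e : G ⧸ Zc) = p := by
      refine orderOf_eq_prime hep fun e1 => ?_
      rw [e1, one_zpow] at hi'
      rw [← hi', orderOf_one] at hox
      exact hp.ne_one hox.symm
    have heq : zpowers (π x0) = zpowers (e : G ⧸ Zc) := eq_of_le_of_card_ge (zpowers_le.2 ⟨i, hi'⟩)
      (by rw [Nat.card_zpowers, Nat.card_zpowers, hox, hoe])
    have hymem : π y ∈ zpowers (π x0) := heq ▸ (⟨j, hj'⟩ : π y ∈ zpowers (e : G ⧸ Zc))
    obtain ⟨t, ht⟩ := hymem
    have hyz : (x0 ^ t)⁻¹ * y ∈ Zc := QuotientGroup.eq.1 (show (π (x0 ^ t)) = π y by rw [map_zpow]; exact ht)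
    refine hne (eq_of_le h hx0 hyZ fun w hw => mem_C.2 ?_).symm
    have h8 := ((show Commute w x0 from mem_C.1 hw).zpow_right t).mul_right (show Commute w ((x0 ^ t)⁻¹ * y) from mem_center_iff.1 hyz w)
    rw [mul_inv_cancel_left] at h8
    exact h8.eq
  refine hK1 (le_bot_iff.1 (Cfsg.Lib.Solv.le_of_fixed_le E K ⊥ hEc
    (by rw [normalizer_eq_top_iff.2 hKn]; exact le_top) ?_ fun a haE ha1 => ?_))
  · obtain ⟨k, hk⟩ := IsPGroup.iff_card.1 (hQp.to_le hEQ)
    rw [hk]; exact (hp.coprime_iff_not_dvd.2 hKp).pow_left k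
  · intro w hw
    obtain ⟨g, hgw, -, -⟩ := hfix a (hEQ haE) ha1 w (mem_centralizer_singleton_iff.1 hw.2)
    have hwp : w ^ p = 1 := by
      have := hexpQ _ hgw
      rwa [conj_pow, conj_eq_one_iff] at this
    refine mem_bot.2 (orderOf_eq_one_iff.1 (Nat.eq_one_of_dvd_coprimes (hp.coprime_iff_not_dvd.2 hKp)
      (orderOf_dvd_of_pow_eq_one hwp) (orderOf_dvd_of_pow_eq_one (congrArg Subtype.val (pow_card_eq_one' (x := (⟨w, hw.1⟩ : K))))))) 

theorem main [Finite G] (hna : ¬ IsMulCommutative G) (h : Hyp G) :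
    (∃ p : ℕ, p.Prime ∧ Cfsg.IsElementaryAbelian p (⊤ : Subgroup (G ⧸ Zc))) ∨
    (¬ IsMulCommutative (G ⧸ Zc) ∧ (∀ H : Subgroup (G ⧸ Zc), H ≠ ⊤ → IsMulCommutative ↥H) ∧
      ∃ p q a : ℕ, p.Prime ∧ q.Prime ∧ p ≠ q ∧ Nat.card (G ⧸ Zc) = p ^ a * q ∧
        ∀ P : Subgroup (G ⧸ Zc), Nat.card ↥P = p ^ a → P.Normal) := by
  by_cases hall : ∀ x : G, x ∉ Zc → (centralizer ({x} : Set G)).Normal
  · exact Or.inl (elementary_of_normal h hna hall)
  right
  push Not at hall
  obtain ⟨x0, hx0, hn⟩ := hall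
  set M := centralizer ({x0} : Set G) with hM
  have hab := fun y hy hyZ => abelian_of_not_normal h hx0 hn (y := y) hy hyZ
  have hZM : Zc ≤ M := center_le_C x0
  have hMn := normalizer_coatom (h x0 hx0) hn
  have hMc : ∀ a ∈ M, ∀ b ∈ M, a * b = b * a := by
    intro a ha b hb
    by_cases hbZ : b ∈ Zc
    · exact mem_center_iff.1 hbZ a
    · exact mem_C.1 ((hab b hb hbZ).symm ▸ ha : a ∈ centralizer ({b} : Set G))
  set Q := M.map π with hQ
  have hmax : ∀ X : Subgroup (G ⧸ Zc), Q ≤ X → X = Q ∨ X = ⊤ := by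
    intro X hX
    have hle : M ≤ X.comap π := fun w hw => mem_comap.2 (hX (mem_map_of_mem π hw))
    rcases (h x0 hx0).le_iff.1 hle with e | e
    · exact Or.inr (comap_injective (QuotientGroup.mk'_surjective Zc) (e.trans (comap_top π).symm))
    · exact Or.inl (by rw [hQ, show M = X.comap π from e.symm, map_comap_eq_self_of_surjective (QuotientGroup.mk'_surjective Zc)])
  have hQne : Q ≠ ⊥ := fun e => hx0 ((QuotientGroup.eq_one_iff x0).1 (mem_bot.1 (e ▸ mem_map_of_mem π (mem_C.2 rfl : x0 ∈ M))))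
  have hQnn : ¬ Q.Normal := fun hq => hn (normalizer_eq_top_iff.1 (eq_top_iff.2 fun w _ =>
    normalizer_map hZM (by rw [normalizer_eq_top_iff.2 hq]; exact mem_top _)))
  have hFr : Cfsg.IsFrobeniusComplement Q := by
    refine ⟨hQne, fun e => hQnn (e ▸ inferInstance), fun g hg => ?_⟩
    obtain ⟨w, rfl⟩ := QuotientGroup.mk'_surjective Zc g
    rw [eq_bot_iff]
    intro a ha
    obtain ⟨a', ha', rfl⟩ := ha.1
    by_contra ha1
    rw [mem_bot] at ha1
    have haZ : a' ∉ Zc := fun h2 => ha1 ((QuotientGroup.eq_one_iff a').2 h2)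
    have h2 := mem_conj_smul.1 ha.2
    rw [← map_inv, ← map_mul, ← map_mul, mem_map_iff hZM] at h2
    have hbZ : w⁻¹ * a' * w ∉ Zc := fun h3 => haZ (by
      have := (inferInstance : (Zc).Normal).conj_mem _ h3 w
      simpa [mul_assoc] using this)
    refine hg (mem_map_of_mem π (hMn.le ?_))
    rw [mem_normalizer_iff]
    intro v
    rw [← hab a' ha' haZ]
    conv_lhs => rw [hab a' ha' haZ, ← hab _ h2 hbZ]
    rw [mem_C, mem_C]
    constructor
    · intro hv
      have := (Commute.conj_iff w).2 hv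
      rw [show w * (w⁻¹ * a' * w) * w⁻¹ = a' by group] at this
      exact this.eq
    · intro hv
      have := (Commute.conj_iff w⁻¹).2 hv
      rw [inv_inv, show w⁻¹ * (w * v * w⁻¹) * w = v by group] at this
      exact this.eq
  obtain ⟨K, hKset, hKn, hKnil⟩ := Cfsg.Agent.S0042.result Q hFr
  obtain ⟨K', hK'n, hK'set, hc⟩ := Cfsg.Lib.Solv.exists_frobeniusKernel hFr
  obtain rfl : K = K' := SetLike.coe_injective (hKset.trans hK'set.symm)
  haveI := hKn
  have hdisj : K ⊓ Q = ⊥ := hc.disjoint.eq_bot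
  have hKne : K ≠ ⊥ := fun e => hFr.2.1 (by rw [e, isComplement'_bot_left] at hc; exact hc)
  have hmin : ∀ X : Subgroup (G ⧸ Zc), X.Normal → X ≤ K → X ≠ ⊥ → X = K := by
    intro X hX hXK hX1
    have htop : X ⊔ Q = ⊤ := (hmax _ le_sup_right).resolve_left fun e => hX1 (le_bot_iff.1 (hdisj ▸ le_inf hXK (e ▸ le_sup_left)))
    refine le_antisymm hXK fun k hk => ?_
    have hk' : k ∈ ((X ⊔ Q : Subgroup (G ⧸ Zc)) : Set (G ⧸ Zc)) := by rw [htop]; exact Set.mem_univ k
    haveI := hX
    rw [normal_mul X Q] at hk'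
    obtain ⟨a, ha, b, hb, e⟩ := hk'
    have hbK : b ∈ K ⊓ Q := ⟨by
      have := mul_mem (inv_mem (hXK ha)) hk
      rwa [← e, inv_mul_cancel_left] at this, hb⟩
    rw [hdisj, mem_bot] at hbK
    rw [← e, hbK]
    simpa using ha
  haveI := hKnil
  haveI : Nontrivial K := (Subgroup.nontrivial_iff_ne_bot K).2 hKne
  have hKc : ∀ a ∈ K, ∀ b ∈ K, a * b = b * a := by
    have hzne : (center ↥K).map K.subtype ≠ ⊥ := fun e => by
      rw [map_eq_bot_iff_of_injective _ K.subtype_injective] at e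
      exact Group.IsNilpotent.center_ne_bot (G := ↥K) e
    have hK0 := hmin _ inferInstance (map_subtype_le _) hzne
    intro a ha b hb
    obtain ⟨b', hb', e⟩ : b ∈ (center ↥K).map K.subtype := hK0.symm ▸ hb
    rw [← e]
    exact congrArg Subtype.val (mem_center_iff.1 hb' ⟨a, ha⟩)
  obtain ⟨p, hp, hpK⟩ := Nat.exists_prime_and_dvd (fun e => hKne (Subgroup.card_eq_one.1 e) : Nat.card K ≠ 1)
  haveI := Fact.mk hp
  have hKexp : ∀ a ∈ K, a ^ p = 1 := by
    let A : Subgroup (G ⧸ Zc) :=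
      { carrier := {a | a ∈ K ∧ a ^ p = 1}
        one_mem' := ⟨one_mem _, one_pow _⟩
        mul_mem' := fun {a b} ha hb => ⟨mul_mem ha.1 hb.1, by
          rw [(show Commute a b from hKc a ha.1 b hb.1).mul_pow, ha.2, hb.2, one_mul]⟩
        inv_mem' := fun {a} ha => ⟨inv_mem ha.1, by rw [inv_pow, ha.2, inv_one]⟩ }
    have hA : A.Normal := ⟨fun a ha g => ⟨hKn.conj_mem a ha.1 g, by rw [conj_pow, ha.2, mul_one, mul_inv_cancel]⟩⟩
    obtain ⟨v, hv⟩ := exists_prime_orderOf_dvd_card' p hpK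
    rw [← Subgroup.orderOf_coe] at hv
    have hA1 : A ≠ ⊥ := fun e => by
      have hvA : (v : G ⧸ Zc) ∈ A := ⟨v.2, by rw [← hv, pow_orderOf_eq_one]⟩
      rw [e, mem_bot] at hvA
      rw [hvA, orderOf_one] at hv
      exact hp.one_lt.ne hv
    intro a ha
    have : a ∈ A := (hmin A hA (fun x hx => hx.1) hA1).symm ▸ ha
    exact this.2
  obtain ⟨a, hKcard⟩ := IsPGroup.iff_card.1 (show IsPGroup p K from fun x => ⟨1, Subtype.ext (by
    rw [pow_one, SubmonoidClass.coe_pow]; exact hKexp x x.2)⟩)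
  -- the complement has prime order
  obtain ⟨kq, hkK, hk1⟩ : ∃ k ∈ K, k ≠ 1 := by
    by_contra hno
    push Not at hno
    exact hKne ((eq_bot_iff_forall _).2 hno)
  obtain ⟨k, rfl⟩ := QuotientGroup.mk'_surjective Zc kq
  have hkZ : k ∉ Zc := fun h2 => hk1 ((QuotientGroup.eq_one_iff k).2 h2)
  set Ck := centralizer ({k} : Set G) with hCk
  set L := Ck.map π with hL
  have hKL : K ≤ normalizer (L : Set (G ⧸ Zc)) := by
    intro w hw
    obtain ⟨w, rfl⟩ := QuotientGroup.mk'_surjective Zc w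
    exact (le_normalizer_map π) (mem_map_of_mem π (mem_normalizer_C (hKc _ hw _ hkK)))
  have hLQ : L ⊓ Q = ⊥ := by
    rw [eq_bot_iff]
    rintro _ ⟨⟨w, hw, rfl⟩, hwQ⟩
    by_contra hne
    rw [mem_bot] at hne
    have h2 : π k ∈ K ⊓ centralizer ({π w} : Set (G ⧸ Zc)) :=
      ⟨hkK, mem_centralizer_singleton_iff.2 ((show Commute k w from (mem_C.1 hw).symm).map π).eq⟩
    rw [Cfsg.Lib.Solv.frob_fpf hFr hdisj hwQ hne, mem_bot] at h2
    exact hk1 h2
  have hLn : L.Normal := by
    by_contra hLn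
    have hCn : ¬ Ck.Normal := fun hh => hLn (hh.map π (QuotientGroup.mk'_surjective Zc))
    have hKle : K ≤ L := by
      intro w hw
      obtain ⟨w', rfl⟩ := QuotientGroup.mk'_surjective Zc w
      exact mem_map_of_mem π ((normalizer_coatom (h k hkZ) hCn).le (normalizer_map (center_le_C k) (hKL hw)))
    refine hLn ?_
    have hLK : L = K := by
      refine le_antisymm (fun w hw => ?_) hKle
      have hw' : w ∈ ((K ⊔ Q : Subgroup (G ⧸ Zc)) : Set (G ⧸ Zc)) := by rw [hc.sup_eq_top]; exact Set.mem_univ w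
      rw [normal_mul K Q] at hw'
      obtain ⟨a, ha, b, hb, e⟩ := hw'
      have hb' : b ∈ L ⊓ Q := ⟨by
        have := mul_mem (inv_mem (hKle ha)) hw
        rwa [← e, inv_mul_cancel_left] at this, hb⟩
      rw [hLQ, mem_bot] at hb'
      rw [← e, hb']
      simpa using ha
    rw [hLK]; exact hKn
  haveI := hLn
  have hCkn : Ck.Normal := normalizer_eq_top_iff.1 (eq_top_iff.2 fun w _ =>
    normalizer_map (center_le_C k) (by rw [normalizer_eq_top_iff.2 hLn]; exact mem_top _))
  haveI := hCkn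
  have hidx : L.index = Ck.index := Subgroup.index_map_eq Ck (QuotientGroup.mk'_surjective Zc) (by
    rw [QuotientGroup.ker_mk']; exact center_le_C k)
  have hq : (Nat.card Q).Prime := by
    have hr := card_prime_of_coatom (h k hkZ)
    have hsup : L ⊔ Q = ⊤ := (hmax _ le_sup_right).resolve_left fun e => by
      have hle : L ≤ Q := e ▸ le_sup_left
      have : L = ⊥ := le_bot_iff.1 (hLQ ▸ le_inf le_rfl hle)
      exact hk1 (mem_bot.1 (this ▸ mem_map_of_mem π (mem_C.2 rfl : k ∈ Ck)))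
    have hcl : IsComplement' L Q := isComplement'_of_disjoint_and_mul_eq_univ (disjoint_iff.2 hLQ) (by
      rw [← normal_mul, hsup]; rfl)
    rw [← hcl.symm.index_eq_card, hidx]
    exact hr
  have hpq : p ≠ Nat.card Q := by
    intro e
    have hcop := Cfsg.Lib.Solv.frob_coprime_index hFr
    rw [hc.index_eq_card, ← e, hKcard] at hcop
    rcases a with _ | a
    · exact hKne (Subgroup.card_eq_one.1 (by rw [hKcard, pow_zero]))
    · exact hp.one_lt.ne' (Nat.eq_one_of_dvd_coprimes hcop dvd_rfl (dvd_pow_self p (Nat.succ_ne_zero a)))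
  have hcard : Nat.card (G ⧸ Zc) = p ^ a * Nat.card Q := by rw [← hc.card_mul_card, hKcard]
  have hsylow : ∀ P : Subgroup (G ⧸ Zc), Nat.card ↥P ∣ p ^ a → P ≤ K := by
    intro P hP u hu
    rw [← QuotientGroup.eq_one_iff, ← orderOf_eq_one_iff]
    refine Nat.eq_one_of_dvd_coprimes (((Nat.coprime_primes hp hq).2 hpq).pow_left a) ?_ ?_
    · exact (orderOf_map_dvd (QuotientGroup.mk' K) u).trans ((P.orderOf_dvd_natCard hu).trans hP)
    · have : Nat.card ((G ⧸ Zc) ⧸ K) = Nat.card Q := by rw [← index_eq_card, hc.symm.index_eq_card]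
      rw [← this]
      exact orderOf_dvd_natCard _
  refine ⟨fun hcm => hQnn ⟨fun a ha g => ?_⟩, ?_, p, Nat.card Q, a, hp, hq, hpq, hcard, ?_⟩
  · rw [hcm.is_comm.comm g a, mul_inv_cancel_right]; exact ha
  · intro X hX
    by_cases hqX : Nat.card Q ∣ Nat.card X
    · haveI := Fact.mk hq
      obtain ⟨v, hv⟩ := exists_prime_orderOf_dvd_card' (Nat.card Q) hqX
      rw [← Subgroup.orderOf_coe] at hv
      have hvK : (v : G ⧸ Zc) ∉ K := fun hvK => hpq (by
        have h2 := K.orderOf_dvd_natCard hvK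
        rw [hv, hKcard] at h2
        exact ((Nat.prime_dvd_prime_iff_eq hq hp).1 (hq.dvd_of_dvd_pow h2)).symm)
      have hvF : (v : G ⧸ Zc) ∉ Cfsg.frobeniusKernel Q := hKset ▸ hvK
      rw [Cfsg.Lib.Solv.mem_frobeniusKernel] at hvF
      push Not at hvF
      obtain ⟨g, hg⟩ := hvF.2
      have hQconj : zpowers (v : G ⧸ Zc) = MulAut.conj g • Q :=
        eq_of_le_of_card_ge (zpowers_le.2 hg) (by rw [Nat.card_zpowers, hv, card_conj_smul])
      have hle : Q ≤ MulAut.conj g⁻¹ • X := by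
        intro w hw
        rw [mem_conj_smul, inv_inv]
        have : g * w * g⁻¹ ∈ zpowers (v : G ⧸ Zc) := by
          rw [hQconj, mem_conj_smul]; simpa [mul_assoc] using hw
        exact zpowers_le.2 v.2 this
      have hXeq : Nat.card X = Nat.card Q := by
        rcases hmax _ hle with e | e
        · rw [← card_conj_smul g⁻¹ X, e]
        · exfalso
          refine hX (eq_top_iff.2 fun w _ => ?_)
          have : g⁻¹ * w * g ∈ MulAut.conj g⁻¹ • X := e ▸ mem_top _
          rw [mem_conj_smul, inv_inv] at this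
          simpa [mul_assoc] using this
      haveI : IsCyclic X := isCyclic_of_prime_card (α := X) (hXeq.trans rfl) (p := Nat.card Q)
      exact ⟨⟨fun a b => (IsCyclic.commGroup (α := X)).mul_comm a b⟩⟩
    · have hd : Nat.card X ∣ p ^ a := by
        have h2 : Nat.card X ∣ p ^ a * Nat.card Q := hcard ▸ X.card_subgroup_dvd_card
        exact ((hq.coprime_iff_not_dvd.2 hqX).symm).dvd_of_dvd_mul_right h2
      exact ⟨⟨fun x y => Subtype.ext (hKc _ (hsylow X hd x.2) _ (hsylow X hd y.2))⟩⟩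
  · intro P hP
    have : P = K := eq_of_le_of_card_ge (hsylow P hP.dvd) (by rw [hP, hKcard])
    rw [this]; exact hKn

end Cfsg.Lib.Solv.MaxCent
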