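import Cfsg.Agent.Lib.PLocal.Constraint
import Cfsg.Agent.Lib.Solv.SchurZassenhaus

/-!
Complements of Sylow subgroups in p-soluble groups.
-/

set_option autoImplicit false

namespace Cfsg.Lib.Solv

open Subgroup
open scoped Pointwise

universe u

variable {p : ℕ} [hp : Fact p.Prime]

theorem exists_normal_p_or_coprime {G : Type u} [Group G] [Finite G] (h : Cfsg.IsPSolvable p G)
    (hne : Nat.card G ≠ 1) :
    ∃ N : Subgroup G, N.Normal ∧ N ≠ ⊥ ∧ (IsPGroup p N ∨ (Nat.card N).Coprime p) := by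
  classical
  obtain ⟨n, S, h0, hn, hmono, hnorm, hfac⟩ := h
  have hex : ∃ i : ℕ, ∃ hi : i < n + 1, S ⟨i, hi⟩ ≠ ⊥ := ⟨n, Nat.lt_succ_self n, fun e => hne (by
    rw [show (⟨n, Nat.lt_succ_self n⟩ : Fin (n + 1)) = Fin.last n from rfl, hn] at e
    rw [← Subgroup.card_top (G := G), e, Subgroup.card_bot])⟩
  set i := Nat.find hex with hidef
  obtain ⟨hi, hne'⟩ := Nat.find_spec hex
  obtain ⟨j, hij⟩ : ∃ j, i = j + 1 := by
    refine Nat.exists_eq_succ_of_ne_zero fun e => hne' ?_
    exact (congrArg S (Fin.ext e : (⟨i, hi⟩ : Fin (n + 1)) = 0)).trans h0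
  have hj : j < n := by omega
  have hbot : S (Fin.castSucc ⟨j, hj⟩) = ⊥ := by
    by_contra hb
    exact Nat.find_min hex (show j < i by omega) ⟨by omega, hb⟩
  have hsucc : S (Fin.succ ⟨j, hj⟩) = S ⟨i, hi⟩ := congrArg S (Fin.ext hij.symm)
  refine ⟨S ⟨i, hi⟩, hnorm _, hne', ?_⟩
  rcases hfac ⟨j, hj⟩ with ⟨m, hm⟩ | hc
  · rw [hbot, hsucc, relIndex_bot_left] at hm
    exact Or.inl (IsPGroup.of_card hm)
  · rw [hbot, hsucc, relIndex_bot_left] at hc
    exact Or.inr hc

theorem exists_pComplement_aux : ∀ (n : ℕ) (G : Type u) [Group G] [Finite G], Nat.card G ≤ n →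
    Cfsg.IsPSolvable p G → ∃ H : Subgroup G, (Nat.card H).Coprime p ∧ (∃ k : ℕ, H.index = p ^ k) ∧
      ∀ U : Subgroup G, (Nat.card U).Coprime p → ∃ g : G, U ≤ MulAut.conj g • H := by
  intro n
  induction n with
  | zero => intro G _ _ h; exact absurd h (Nat.not_le.2 Nat.card_pos)
  | succ n ih =>
    intro G _ _ hcard hsol
    by_cases hG1 : Nat.card G = 1
    · refine ⟨⊤, by rw [card_top, hG1]; exact Nat.coprime_one_left p, ⟨0, by simp⟩, fun U _ =>
        ⟨1, fun x _ => mem_conj_smul.2 (mem_top _)⟩⟩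
    obtain ⟨N, hNn, hNne, hN⟩ := exists_normal_p_or_coprime hsol hG1
    haveI := hNn
    set π := QuotientGroup.mk' N with hπ
    have hsur : Function.Surjective π := QuotientGroup.mk'_surjective N
    obtain ⟨H', hH'c, ⟨k, hH'k⟩, hH'U⟩ := ih (G ⧸ N) (by
      rw [← index_eq_card]
      have h2 := N.card_mul_index
      have h3 := (one_lt_card_iff_ne_bot N).2 hNne
      nlinarith) (Cfsg.Lib.PLocal.IsPSolvable.of_surjective π hsur hsol)
    set M := H'.comap π with hM
    have hMi : M.index = p ^ k := by rw [hM, index_comap_of_surjective H' hsur, hH'k]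
    have hNM : N ≤ M := fun x hx => by
      show π x ∈ H'
      rw [show π x = 1 from (QuotientGroup.eq_one_iff x).2 hx]
      exact H'.one_mem
    have hMN : N.relIndex M = Nat.card H' := by
      have h := relIndex_comap (H := (⊥ : Subgroup (G ⧸ N))) π M
      rw [hM, map_comap_eq_self_of_surjective hsur, MonoidHom.comap_bot, QuotientGroup.ker_mk',
        relIndex_bot_left] at h
      exact h
    have hcardM : Nat.card M = Nat.card N * Nat.card H' := by
      rw [← hMN, ← relIndex_bot_left N, relIndex_mul_relIndex ⊥ N M bot_le hNM, relIndex_bot_left]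
    have hconjM : ∀ U : Subgroup G, (Nat.card U).Coprime p → ∃ g : G, U ≤ MulAut.conj g • M := by
      intro U hU
      obtain ⟨g', hg'⟩ := hH'U (U.map π) (Nat.Coprime.coprime_dvd_left (card_map_dvd U π) hU)
      obtain ⟨g, rfl⟩ := hsur g'
      refine ⟨g, fun x hx => mem_conj_smul.2 ?_⟩
      show π (g⁻¹ * x * g) ∈ H'
      rw [map_mul, map_mul, map_inv]
      exact mem_conj_smul.1 (hg' ⟨x, hx, rfl⟩)
    rcases hN with hNp | hNc
    · obtain ⟨a, ha⟩ := IsPGroup.iff_card.1 hNp
      have hcop : (Nat.card H').Coprime (Nat.card N) := by rw [ha]; exact hH'c.pow_right a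
      obtain ⟨H₀, hH₀⟩ := exists_right_complement'_of_coprime (N := N.subgroupOf M) (by
        show (Nat.card (N.subgroupOf M)).Coprime (N.relIndex M)
        rw [hMN, Nat.card_congr (subgroupOfEquivOfLe hNM).toEquiv]
        exact hcop.symm)
      have hH₀card : Nat.card H₀ = Nat.card H' := by
        rw [← hMN]; exact hH₀.symm.index_eq_card.symm
      set H := H₀.map M.subtype with hH
      have hHcard : Nat.card H = Nat.card H' := by
        rw [← hH₀card]
        exact (Nat.card_congr (equivMapOfInjective H₀ _ M.subtype_injective).toEquiv).symm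
      have hHN : H ⊔ N = M := by
        rw [hH, show N = (N.subgroupOf M).map M.subtype by rw [map_subgroupOf_eq_of_le hNM],
          ← Subgroup.map_sup, hH₀.symm.sup_eq_top, ← MonoidHom.range_eq_map, range_subtype]
      refine ⟨H, hHcard ▸ hH'c, ?_, fun U hU => ?_⟩
      · refine ⟨a + k, ?_⟩
        have h1 := H.index_mul_card
        rw [← M.index_mul_card, hMi, hcardM, hHcard, ha, ← mul_assoc, ← pow_add] at h1
        rw [Nat.eq_of_mul_eq_mul_right Nat.card_pos h1, add_comm]
      · obtain ⟨g, hg⟩ := hconjM U hU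
        have hU' : (MulAut.conj g⁻¹ • U : Subgroup G) ≤ H ⊔ N := by
          rw [hHN]
          intro x hx
          have h1 := hg (mem_conj_smul.1 hx)
          have h2 := mem_conj_smul.1 h1
          have e : g⁻¹ * (g⁻¹⁻¹ * x * g⁻¹) * g = x := by group
          rwa [e] at h2
        have hUc : (Nat.card (MulAut.conj g⁻¹ • U : Subgroup G)).Coprime (Nat.card N) := by
          rw [card_conj_smul, ha]; exact hU.pow_right a
        obtain ⟨m, -, hm⟩ := exists_conj_le N H _ le_normalizer_of_normal hU'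
          (hHcard ▸ hcop) hUc (Or.inl (by haveI := hNp.isNilpotent; infer_instance))
        refine ⟨g * m, fun x hx => mem_conj_smul.2 ?_⟩
        have h1 : g⁻¹ * x * g ∈ MulAut.conj g⁻¹ • U := by
          refine mem_conj_smul.2 ?_
          have e : g⁻¹⁻¹ * (g⁻¹ * x * g) * g⁻¹ = x := by group
          rw [e]; exact hx
        have h2 := mem_conj_smul.1 (hm h1)
        have e : (g * m)⁻¹ * x * (g * m) = m⁻¹ * (g⁻¹ * x * g) * m := by group
        rw [e]; exact h2
    · refine ⟨M, ?_, ⟨k, hMi⟩, hconjM⟩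
      rw [hcardM]
      exact Nat.Coprime.mul_left hNc hH'c

theorem pComplement_conj {G : Type u} [Group G] [Finite G] (h : Cfsg.IsPSolvable p G)
    {H₁ H₂ : Subgroup G} (h1 : (Nat.card H₁).Coprime p) (i1 : ∃ n : ℕ, H₁.index = p ^ n)
    (h2 : (Nat.card H₂).Coprime p) (i2 : ∃ n : ℕ, H₂.index = p ^ n) :
    ∃ g : G, H₂ = MulAut.conj g • H₁ := by
  obtain ⟨H, hH, ⟨k, hk⟩, hU⟩ := exists_pComplement_aux _ G le_rfl h
  have key : ∀ L : Subgroup G, (Nat.card L).Coprime p → (∃ n : ℕ, L.index = p ^ n) →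
      ∃ g : G, L = MulAut.conj g • H := by
    intro L hL hLi
    obtain ⟨j, hj⟩ := hLi
    obtain ⟨g, hg⟩ := hU L hL
    refine ⟨g, eq_of_le_of_card_ge hg ?_⟩
    rw [card_conj_smul]
    refine Nat.le_of_dvd Nat.card_pos ?_
    have h3 := L.card_mul_index.trans H.card_mul_index.symm
    rw [hj, hk] at h3
    exact (Nat.Coprime.pow_right j hH).dvd_of_dvd_mul_right ⟨p ^ k, h3⟩
  obtain ⟨a, ha⟩ := key H₁ h1 i1
  obtain ⟨b, hb⟩ := key H₂ h2 i2
  refine ⟨b * a⁻¹, ?_⟩
  rw [ha, hb, smul_smul, ← map_mul, inv_mul_cancel_right]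

end Cfsg.Lib.Solv
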