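import Mathlib
import Cfsg.Prelude.Def_Local
import Cfsg.Agent.Lib.Solv.MinNormal
import Cfsg.Agent.Lib.Solv.Cores
import Cfsg.Agent.Lib.Solv.SchurZassenhaus
import Cfsg.Agent.Lib.Solv.PComplement
import Cfsg.Agent.Lib.Transfer.NilpotentHall
import Cfsg.Agent.Lib.PLocal.Constraint

/-! p-soluble groups whose maximal subgroups are p-nilpotent or of prime index. -/

set_option autoImplicit false
set_option linter.style.haveILetI false
set_option linter.unusedVariables false

namespace Cfsg.Lib.Solv.MaxPLength

open Subgroup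
open scoped Pointwise

universe u

variable {G : Type u} [Group G] {p : ℕ}

/-- A series with factors p', p, p', p. -/
def Ser (p : ℕ) (G : Type u) [Group G] : Prop :=
  ∃ A B C : Subgroup G, A.Normal ∧ B.Normal ∧ C.Normal ∧ A ≤ B ∧ B ≤ C ∧ (Nat.card A).Coprime p ∧
    (∃ k : ℕ, A.relIndex B = p ^ k) ∧ (B.relIndex C).Coprime p ∧ ∃ k : ℕ, C.index = p ^ k

theorem relIndex_comap_dvd [Finite G] {H : Type u} [Group H] [Finite H] (f : G →* H) (A B : Subgroup H)
    [A.Normal] :
    (A.comap f).relIndex (B.comap f) ∣ A.relIndex B := by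
  have hle : (B.comap f).map f ≤ B := map_comap_le f B
  rw [relIndex_comap, ← inf_relIndex_right A ((B.comap f).map f), ← inf_relIndex_right A B]
  haveI : (A.subgroupOf B).Normal := inferInstance
  have h1 := relIndex_dvd_index_of_normal (A.subgroupOf B) (((B.comap f).map f).subgroupOf B)
  rw [relIndex_subgroupOf hle] at h1
  simpa [relIndex, inf_relIndex_right] using h1

theorem ser_comap_prod [Finite G] [hp : Fact p.Prime] {Q₁ Q₂ : Type u} [Group Q₁] [Finite Q₁]
    [Group Q₂] [Finite Q₂] (f : G →* Q₁ × Q₂) (hf : Function.Injective f)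
    (h₁ : Ser p Q₁) (h₂ : Ser p Q₂) : Ser p G := by
  obtain ⟨A₁, B₁, C₁, hA₁, hB₁, hC₁, hAB₁, hBC₁, hc₁, ⟨k₁, hk₁⟩, hd₁, l₁, hl₁⟩ := h₁
  obtain ⟨A₂, B₂, C₂, hA₂, hB₂, hC₂, hAB₂, hBC₂, hc₂, ⟨k₂, hk₂⟩, hd₂, l₂, hl₂⟩ := h₂
  haveI := hA₁; haveI := hA₂; haveI := hB₁; haveI := hB₂; haveI := hC₁; haveI := hC₂
  have hrel : ∀ (X₁ Y₁ : Subgroup Q₁) (X₂ Y₂ : Subgroup Q₂),
      (X₁.prod X₂).relIndex (Y₁.prod Y₂) = X₁.relIndex Y₁ * X₂.relIndex Y₂ := by
    intro X₁ Y₁ X₂ Y₂
    rw [relIndex, relIndex, relIndex, ← index_prod]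
    refine (index_comap_of_surjective ((X₁.subgroupOf Y₁).prod (X₂.subgroupOf Y₂))
      (f := (Subgroup.prodEquiv Y₁ Y₂).toMonoidHom) (MulEquiv.surjective _)).symm.trans ?_ |>.symm
    congr 1
  refine ⟨(A₁.prod A₂).comap f, (B₁.prod B₂).comap f, (C₁.prod C₂).comap f, inferInstance,
    inferInstance, inferInstance, comap_mono (prod_mono hAB₁ hAB₂), comap_mono (prod_mono hBC₁ hBC₂),
    ?_, ?_, ?_, ?_⟩
  · refine Nat.Coprime.coprime_dvd_left ?_ (Nat.Coprime.mul_left hc₁ hc₂)
    rw [← Subgroup.card_map_of_injective hf, ← Nat.card_prod, ← Nat.card_congr (A₁.prodEquiv A₂).toEquiv]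
    exact card_dvd_of_le (map_comap_le f _)
  · have hd := relIndex_comap_dvd f (A₁.prod A₂) (B₁.prod B₂)
    rw [hrel, hk₁, hk₂, ← pow_add] at hd
    obtain ⟨j, -, hj⟩ := (Nat.dvd_prime_pow hp.out).1 hd
    exact ⟨j, hj⟩
  · exact Nat.Coprime.coprime_dvd_left (relIndex_comap_dvd f (B₁.prod B₂) (C₁.prod C₂))
      (by rw [hrel]; exact Nat.Coprime.mul_left hd₁ hd₂)
  · have hd : ((C₁.prod C₂).comap f).index ∣ (C₁.prod C₂).index := by
      rw [index_comap]
      exact relIndex_dvd_index_of_normal _ _
    rw [index_prod, hl₁, hl₂, ← pow_add] at hd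
    obtain ⟨j, -, hj⟩ := (Nat.dvd_prime_pow hp.out).1 hd
    exact ⟨j, hj⟩

theorem comap_relIndex {Q : Type u} [Group Q] (f : G →* Q) (hf : Function.Surjective f)
    (A B : Subgroup Q) : (A.comap f).relIndex (B.comap f) = A.relIndex B := by
  rw [relIndex_comap, map_comap_eq_self_of_surjective hf]

theorem card_comap_mk [Finite G] (N : Subgroup G) [N.Normal] (A : Subgroup (G ⧸ N)) :
    Nat.card (A.comap (QuotientGroup.mk' N)) = Nat.card N * Nat.card A := by
  have h1 := (A.comap (QuotientGroup.mk' N)).card_mul_index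
  rw [index_comap_of_surjective _ (QuotientGroup.mk'_surjective N), ← N.card_mul_index,
    index_eq_card N, ← A.card_mul_index, ← mul_assoc] at h1
  exact Nat.eq_of_mul_eq_mul_right (Nat.pos_of_ne_zero A.index_ne_zero_of_finite) h1

def Cond (p : ℕ) (G : Type u) [Group G] : Prop :=
  ∀ M : Subgroup G, IsCoatom M → (∃ K : Subgroup ↥M, K.Normal ∧ ¬ p ∣ Nat.card K ∧ ∃ k : ℕ, K.index = p ^ k) ∨ (M.index).Prime

theorem cond_quotient [Finite G] [hp : Fact p.Prime] (N : Subgroup G) [N.Normal] (h : Cond p G) :
    Cond p (G ⧸ N) := by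
  intro M hM
  set f := QuotientGroup.mk' N
  have hf : Function.Surjective f := QuotientGroup.mk'_surjective N
  have hM' : IsCoatom (M.comap f) := by
    refine ⟨fun e => hM.1 ?_, fun L hL => ?_⟩
    · rw [← map_comap_eq_self_of_surjective hf M, e, map_top_of_surjective f hf]
    · have hker : f.ker ≤ L := (ker_le_comap f M).trans hL.le
      have hLe : (L.map f).comap f = L := by rw [comap_map_eq, sup_eq_left.2 hker]
      have h2 := hM.2 (L.map f) ((comap_lt_comap_of_surjective hf).1 (by rwa [hLe]))
      rw [← hLe, h2, comap_top]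
  rcases h _ hM' with ⟨K, hK, hKp, k, hk⟩ | hprime
  · left
    let g : (M.comap f : Subgroup G) →* M := f.subgroupComap M
    have hg : Function.Surjective g := f.subgroupComap_surjective_of_surjective M hf
    refine ⟨K.map g, hK.map g hg, fun hd => hKp (hd.trans (card_map_dvd K g)), ?_⟩
    obtain ⟨j, -, hj⟩ := (Nat.dvd_prime_pow hp.out).1 (hk ▸ index_map_dvd K hg)
    exact ⟨j, hj⟩
  · right
    rwa [index_comap_of_surjective _ hf] at hprime

theorem ser_main : ∀ (n : ℕ) (G : Type u) [Group G] [Finite G], Nat.card G ≤ n →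
    ∀ [Fact p.Prime], Cfsg.IsPSolvable p G ∨ Group.IsSolvable G → Cond p G → Ser p G := by
  intro n
  induction n with
  | zero => intro G _ _ h; exact absurd Nat.card_pos (Nat.not_lt.2 h)
  | succ n ih =>
    intro G _ _ hn hp hps hcond
    by_cases hG1 : Nat.card G = 1
    · refine ⟨⊤, ⊤, ⊤, inferInstance, inferInstance, inferInstance, le_rfl, le_rfl,
        by simp [card_top, hG1], ⟨0, by simp⟩, by simp, ⟨0, by simp⟩⟩
    have hquot : ∀ (N : Subgroup G) [N.Normal], N ≠ ⊥ → Ser p (G ⧸ N) := by
      intro N _ hN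
      refine ih (G ⧸ N) ?_ ?_ (cond_quotient N hcond)
      · have h := N.card_mul_index
        rw [index_eq_card] at h
        have h1 : 1 < Nat.card N := by
          haveI := N.nontrivial_iff_ne_bot.2 hN
          exact Finite.one_lt_card
        have := Nat.mul_lt_mul_of_pos_right h1 (Nat.card_pos (α := G ⧸ N))
        omega
      · exact hps.imp (Cfsg.Lib.PLocal.IsPSolvable.of_surjective (QuotientGroup.mk' N)
          (QuotientGroup.mk'_surjective N))
          (fun (_ : Group.IsSolvable G) => Group.isSolvable_of_surjective (QuotientGroup.mk'_surjective N))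
    obtain ⟨N0, hN0, hN0ne, hN0pq⟩ : ∃ N : Subgroup G, N.Normal ∧ N ≠ ⊥ ∧
        (IsPGroup p N ∨ (Nat.card N).Coprime p) := by
      rcases hps with h | h
      · exact exists_normal_p_or_coprime h hG1
      haveI := h
      have hne : (⊤ : Subgroup G) ≠ ⊥ := fun e => hG1 (by rw [← card_top, e, card_bot])
      obtain ⟨N, hN, -, hN1, hmin⟩ := exists_minimal_normal_le hne
      haveI := hN
      obtain ⟨-, q, hq, hNq, -⟩ := minimal_normal_elementary hN1 inferInstance hmin
      refine ⟨N, hN, hN1, ?_⟩
      by_cases hqp : q = p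
      · exact Or.inl (hqp ▸ hNq)
      · haveI := Fact.mk hq
        obtain ⟨a, ha⟩ := IsPGroup.iff_card.1 hNq
        exact Or.inr (by rw [ha]; exact ((Nat.coprime_primes hq hp.out).2 hqp).pow_left a)
    haveI := hN0
    obtain ⟨N, hN, hNle, hN1, hmin⟩ := exists_minimal_normal_le hN0ne
    haveI := hN
    set f := QuotientGroup.mk' N
    have hf : Function.Surjective f := QuotientGroup.mk'_surjective N
    rcases hN0pq with hNp0 | hNc0
    rotate_left
    · -- a `p'` normal subgroup is absorbed
      obtain ⟨A, B, C, hA, hB, hC, hAB, hBC, hcA, hk, hd, hl⟩ := hquot N hN1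
      refine ⟨A.comap f, B.comap f, C.comap f, hA.comap f, hB.comap f, hC.comap f,
        comap_mono hAB, comap_mono hBC, ?_, ?_, ?_, ?_⟩
      · rw [card_comap_mk]
        exact Nat.Coprime.mul_left (Nat.Coprime.coprime_dvd_left (card_dvd_of_le hNle) hNc0) hcA
      · rw [comap_relIndex f hf]; exact hk
      · rw [comap_relIndex f hf]; exact hd
      · rw [index_comap_of_surjective _ hf]; exact hl
    have hNp : IsPGroup p N := hNp0.to_le hNle
    by_cases huniq : ∃ N' : Subgroup G, N'.Normal ∧ N' ≠ ⊥ ∧ ¬ N ≤ N'
    · obtain ⟨N', hN', hN'1, hnle⟩ := huniq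
      haveI := hN'
      have hd : N ⊓ N' = ⊥ := (hmin _ inferInstance inf_le_left).resolve_right fun e => hnle (inf_eq_left.1 e)
      refine ser_comap_prod ((QuotientGroup.mk' N).prod (QuotientGroup.mk' N')) ?_ (hquot N hN1) (hquot N' hN'1)
      rw [injective_iff_map_eq_one]
      intro x hx
      have : x ∈ N ⊓ N' := ⟨(QuotientGroup.eq_one_iff x).1 (congrArg Prod.fst hx),
        (QuotientGroup.eq_one_iff x).1 (congrArg Prod.snd hx)⟩
      rwa [hd, mem_bot] at this
    push Not at huniq
    have hpN : ∀ H : Subgroup G, (Nat.card H).Coprime p → N ≤ H → False := fun H hH hle => by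
      obtain ⟨a, ha⟩ := IsPGroup.iff_card.1 hNp
      have h1 : (Nat.card N).Coprime p := Nat.Coprime.coprime_dvd_left (card_dvd_of_le hle) hH
      rw [ha] at h1
      rcases Nat.eq_zero_or_pos a with rfl | hpos
      · exact hN1 (eq_bot_of_card_eq _ (by rw [ha, pow_zero]))
      · exact hp.out.ne_one (Nat.eq_one_of_dvd_coprimes h1 (dvd_pow_self p hpos.ne') dvd_rfl)
    by_cases hΦ : N ≤ frattini G
    · obtain ⟨A, B, C, hA, hB, hC, hAB, hBC, hcA, ⟨k, hk⟩, hd, hl⟩ := hquot N hN1
      have hAbot : A = ⊥ := by
        by_contra hAne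
        haveI := hA
        set A' := A.comap f
        haveI : A'.Normal := hA.comap f
        obtain ⟨a, ha⟩ := IsPGroup.iff_card.1 hNp
        have hNA : N ≤ A' := by
          intro x hx
          show f x ∈ A
          rw [show f x = 1 from (QuotientGroup.eq_one_iff x).2 hx]
          exact one_mem _
        have hidx : (N.subgroupOf A').index = Nat.card A := by
          have h := (N.subgroupOf A').card_mul_index
          rw [Nat.card_congr (subgroupOfEquivOfLe hNA).toEquiv, card_comap_mk] at h
          exact Nat.eq_of_mul_eq_mul_left Nat.card_pos h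
        have hcop : (Nat.card (N.subgroupOf A')).Coprime (N.subgroupOf A').index := by
          rw [hidx, Nat.card_congr (subgroupOfEquivOfLe hNA).toEquiv, ha]
          exact (hcA.symm).pow_left a
        obtain ⟨L0, hL0⟩ := exists_right_complement'_of_coprime hcop
        set L := L0.map A'.subtype
        have hL0c : Nat.card L0 = (N.subgroupOf A').index := hL0.symm.index_eq_card.symm
        have hLc : Nat.card L = Nat.card A := by
          rw [← hidx, ← hL0c]
          exact Nat.card_congr (L0.equivMapOfInjective _ A'.subtype_injective).toEquiv.symm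
        haveI : Group.IsSolvable N := haveI := hNp.isNilpotent; inferInstance
        have htop : normalizer (L : Set G) = ⊤ := by
          refine frattini_nongenerating (eq_top_iff.2 fun g _ => ?_)
          obtain ⟨v, hv, hvL⟩ := sz_conj (N.subgroupOf A') hcop
            ((MulAut.conj g • L).subgroupOf A') L0 (Or.inl (solvable_of_surjective' (subgroupOfEquivOfLe hNA).symm))
            (by
              rw [← hL0c, Nat.card_congr (subgroupOfEquivOfLe ?_).toEquiv, card_conj_smul]
              · exact Nat.card_congr (L0.equivMapOfInjective _ A'.subtype_injective).toEquiv.symm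
              · refine (smul_le_smul_left _ (map_subtype_le L0)).trans ?_
                exact (conj_smul_eq_self_iff.2 (by rw [normalizer_eq_top]; trivial)).le)
            hL0c
          have hle : MulAut.conj g • L ≤ A' := (smul_le_smul_left _ (map_subtype_le L0)).trans
            (conj_smul_eq_self_iff.2 (by rw [normalizer_eq_top]; trivial)).le
          have h3 := congrArg (Subgroup.map A'.subtype) hvL
          rw [map_conj_smul, subgroupOf_map_subtype, inf_eq_left.2 hle] at h3
          have h4 : (v : G) * g ∈ normalizer (L : Set G) := by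
            rw [← conj_smul_eq_self_iff, map_mul, mul_smul]
            exact h3
          have h5 : g = (v : G)⁻¹ * ((v : G) * g) := by group
          rw [h5]
          exact mul_mem (mem_sup_right (hΦ (N.inv_mem hv))) (mem_sup_left h4)
        haveI : L.Normal := normalizer_eq_top_iff.1 htop
        refine hpN L (by rw [hLc]; exact hcA) (huniq L inferInstance fun e => hAne ?_)
        exact eq_bot_of_card_eq _ (by rw [← hLc, e, card_bot])
      subst hAbot
      refine ⟨⊥, B.comap f, C.comap f, inferInstance, hB.comap f, hC.comap f, bot_le,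
        comap_mono hBC, by simp, ?_, ?_, ?_⟩
      · obtain ⟨a, ha⟩ := IsPGroup.iff_card.1 hNp
        refine ⟨a + k, ?_⟩
        rw [relIndex_bot_left, card_comap_mk, ha, pow_add]
        rw [relIndex_bot_left] at hk
        rw [hk]
      · rw [comap_relIndex f hf]; exact hd
      · rw [index_comap_of_surjective _ hf]; exact hl
    obtain ⟨M, hM, hNM⟩ : ∃ M : Subgroup G, IsCoatom M ∧ ¬ N ≤ M := by
      by_contra hc
      push Not at hc
      refine hΦ ?_
      intro x hx
      exact Subgroup.mem_iInf.2 fun M => Subgroup.mem_iInf.2 fun hM => hc M hM hx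
    haveI : Group.IsSolvable N := haveI := hNp.isNilpotent; inferInstance
    obtain ⟨hNc, q, hq, hNq, -⟩ := minimal_normal_elementary hN1 inferInstance hmin
    haveI := hNc
    have htop : M ⊔ N = ⊤ := hM.2 _ (left_lt_sup.2 hNM)
    have hMN : M ⊓ N = ⊥ := by
      refine (hmin _ ?_ inf_le_right).resolve_right fun e => hNM (inf_eq_right.1 e)
      rw [← normalizer_eq_top_iff, eq_top_iff, ← htop]
      refine sup_le ((le_inf le_normalizer (by rw [normalizer_eq_top]; exact le_top)).trans
        inf_normalizer_le_normalizer_inf) ?_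
      refine le_trans ?_ (centralizer_le_normalizer _)
      exact (le_centralizer N).trans (centralizer_le (SetLike.coe_subset_coe.2 inf_le_right))
    have hcard : Nat.card G = Nat.card M * Nat.card N := by
      rw [← Cfsg.Lib.Transfer.card_sup_of_disjoint_normal M N hMN, htop, card_top]
    have hidxM : M.index = Nat.card N := by
      refine Nat.eq_of_mul_eq_mul_left (Nat.card_pos (α := M)) ?_
      rw [card_mul_index, hcard]
    obtain ⟨a, ha⟩ := IsPGroup.iff_card.1 hNp
    rcases hcond M hM with ⟨K, hK, hKp, k, hk⟩ | hprime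
    · set K' := K.map M.subtype
      set C := K' ⊔ N
      have hKM : K' ≤ M := map_subtype_le _
      have hK'c : Nat.card K' = Nat.card K :=
        Nat.card_congr (K.equivMapOfInjective _ M.subtype_injective).toEquiv.symm
      have hdK : K' ⊓ N = ⊥ := le_bot_iff.1 ((inf_le_inf_right _ hKM).trans hMN.le)
      have hCn : C.Normal := by
        rw [← normalizer_eq_top_iff, eq_top_iff, ← htop]
        refine sup_le (fun m hm => ?_) (le_sup_right.trans le_normalizer)
        rw [← conj_smul_eq_self_iff, smul_sup, conj_smul_eq_self_iff.2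
          (show m ∈ normalizer (N : Set G) by rw [normalizer_eq_top]; trivial)]
        congr 1
        refine Subgroup.eq_of_le_of_card_ge ?_ (by rw [card_conj_smul])
        intro x hx
        rw [mem_conj_smul] at hx
        obtain ⟨y, hy, hye⟩ := hx
        refine ⟨⟨m, hm⟩ * y * (⟨m, hm⟩ : M)⁻¹, hK.conj_mem y hy _, ?_⟩
        have hye' : (y : G) = m⁻¹ * x * m := hye
        show m * (y : G) * m⁻¹ = x
        rw [hye']; group
      haveI := hCn
      have hCc : Nat.card C = Nat.card K * Nat.card N := by
        rw [← hK'c, ← Cfsg.Lib.Transfer.card_sup_of_disjoint_normal K' N hdK]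
      refine ⟨⊥, N, C, inferInstance, hN, hCn, bot_le, le_sup_right, by simp,
        ⟨a, by rw [relIndex_bot_left, ha]⟩, ?_, ⟨k, ?_⟩⟩
      · have h1 := (N.subgroupOf C).card_mul_index
        rw [Nat.card_congr (subgroupOfEquivOfLe (le_sup_right : N ≤ C)).toEquiv, hCc, mul_comm _ (Nat.card N)] at h1
        show (N.subgroupOf C).index.Coprime p
        rw [Nat.eq_of_mul_eq_mul_left Nat.card_pos h1]
        exact (hp.out.coprime_iff_not_dvd.2 hKp).symm
      · refine Nat.eq_of_mul_eq_mul_left (Nat.card_pos (α := C)) ?_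
        rw [card_mul_index, hCc, hcard, ← hk, ← K.card_mul_index]
        ring
    · have ha1 : a = 1 := by
        rw [hidxM, ha] at hprime
        exact Nat.Prime.eq_one_of_pow hprime
      subst ha1
      rw [pow_one] at ha
      haveI : IsCyclic N := isCyclic_of_prime_card ha
      have hC : M ⊓ centralizer (N : Set G) = ⊥ := by
        by_contra hne
        refine hNM ((huniq _ ?_ hne).trans inf_le_left)
        rw [← normalizer_eq_top_iff, eq_top_iff, ← htop]
        refine sup_le ((le_inf le_normalizer ?_).trans inf_normalizer_le_normalizer_inf) ?_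
        · exact (show M ≤ normalizer (N : Set G) by rw [normalizer_eq_top]; exact le_top).trans
            (normalizer_le_normalizer_centralizer_aux N)
        · refine le_trans ?_ (centralizer_le_normalizer _)
          exact le_centralizer_iff.2 inf_le_right
      let φ : M →* MulAut N := N.normalizerMonoidHom.comp
        (Subgroup.inclusion (by rw [normalizer_eq_top]; exact le_top))
      have hinj : Function.Injective φ := by
        rw [injective_iff_map_eq_one]
        intro x hx
        have h2 : (⟨(x : G), by rw [normalizer_eq_top]; trivial⟩ : normalizer (N : Set G)) ∈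
            N.normalizerMonoidHom.ker := hx
        rw [normalizerMonoidHom_ker, mem_subgroupOf] at h2
        have h3 : (x : G) ∈ M ⊓ centralizer (N : Set G) := ⟨x.2, h2⟩
        rw [hC, mem_bot] at h3
        exact Subtype.ext h3
      have hdvd : Nat.card M ∣ p - 1 := by
        have := Subgroup.card_dvd_of_injective φ hinj
        rwa [IsCyclic.card_mulAut, ha, Nat.totient_prime hp.out] at this
      refine ⟨⊥, N, ⊤, inferInstance, hN, inferInstance, bot_le, le_top, by simp,
        ⟨1, by rw [relIndex_bot_left, ha, pow_one]⟩, ?_, ⟨0, by simp⟩⟩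
      rw [relIndex_top_right]
      have hNi : N.index = Nat.card M := by
        refine Nat.eq_of_mul_eq_mul_left (Nat.card_pos (α := N)) ?_
        rw [card_mul_index, hcard, mul_comm]
      rw [hNi]
      refine Nat.Coprime.coprime_dvd_left hdvd ((hp.out.coprime_iff_not_dvd.2 fun hd => ?_).symm)
      have h2 := hp.out.two_le
      have := Nat.le_of_dvd (by omega) hd
      omega
where
  normalizer_le_normalizer_centralizer_aux {G : Type u} [Group G] (N : Subgroup G) :
      normalizer (N : Set G) ≤ normalizer ((centralizer (N : Set G) : Subgroup G) : Set G) := by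
    intro g hg
    rw [mem_normalizer_iff]
    intro x
    simp only [mem_centralizer_iff, SetLike.mem_coe]
    constructor
    · intro hx d hd
      have := hx _ ((mem_normalizer_iff.1 (inv_mem hg) d).1 hd)
      calc d * (g * x * g⁻¹) = g * ((g⁻¹ * d * g⁻¹⁻¹) * x) * g⁻¹ := by group
        _ = g * (x * (g⁻¹ * d * g⁻¹⁻¹)) * g⁻¹ := by rw [this]
        _ = g * x * g⁻¹ * d := by group
    · intro hx d hd
      have := hx _ ((mem_normalizer_iff.1 hg d).1 hd)
      calc d * x = g⁻¹ * ((g * d * g⁻¹) * (g * x * g⁻¹)) * g := by group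
        _ = g⁻¹ * ((g * x * g⁻¹) * (g * d * g⁻¹)) * g := by rw [this]
        _ = x * d := by group
  solvable_of_surjective' {A B : Type u} [Group A] [Group B] (e : A ≃* B) [Group.IsSolvable A] :
      Group.IsSolvable B := Group.isSolvable_of_surjective (f := e.toMonoidHom) e.surjective

end Cfsg.Lib.Solv.MaxPLength
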