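import Mathlib

/-!
# The alternating form on a free module of rank two over `ℤ / p ^ n`
-/

set_option autoImplicit false
set_option linter.style.haveILetI false

namespace Cfsg.Lib.Solv.MC

variable {p n : ℕ} [hp : Fact p.Prime]

local instance neZeroPrime : NeZero p := ⟨hp.out.ne_zero⟩

/-- The plane. -/
abbrev R2 (p n : ℕ) := ZMod (p ^ n) × ZMod (p ^ n)

/-- The determinant. -/
def D (x y : R2 p n) : ZMod (p ^ n) := x.1 * y.2 - x.2 * y.1

theorem D_add_left (x y z : R2 p n) : D (x + y) z = D x z + D y z := by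
  simp only [D, Prod.fst_add, Prod.snd_add]; ring

theorem D_add_right (x y z : R2 p n) : D x (y + z) = D x y + D x z := by
  simp only [D, Prod.fst_add, Prod.snd_add]; ring

theorem D_smul_left (c : ZMod (p ^ n)) (x y : R2 p n) : D (c • x) y = c * D x y := by
  simp only [D, Prod.smul_fst, Prod.smul_snd, smul_eq_mul]; ring

theorem D_smul_right (c : ZMod (p ^ n)) (x y : R2 p n) : D x (c • y) = c * D x y := by
  simp only [D, Prod.smul_fst, Prod.smul_snd, smul_eq_mul]; ring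

theorem D_self (x : R2 p n) : D x x = 0 := by simp only [D]; ring

theorem D_swap (x y : R2 p n) : D y x = -D x y := by simp only [D]; ring

theorem eq_zero_of_forall_D {x : R2 p n} (h : ∀ y, D x y = 0) : x = 0 := by
  have h1 := h (0, 1)
  have h2 := h (1, 0)
  simp [D] at h1 h2
  exact Prod.ext h1 h2

/-- The orthogonal of an additive subgroup. -/
def perp (M : AddSubgroup (R2 p n)) : AddSubgroup (R2 p n) where
  carrier := {y | ∀ x ∈ M, D x y = 0}
  add_mem' := fun {a b} ha hb x hx => by rw [D_add_right, ha x hx, hb x hx, add_zero]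
  zero_mem' := fun x _ => by simp [D]
  neg_mem' := fun {a} ha x hx => by
    have := ha x hx
    simp only [D, Prod.fst_neg, Prod.snd_neg] at this ⊢
    linear_combination -this

theorem mem_perp {M : AddSubgroup (R2 p n)} {y : R2 p n} : y ∈ perp M ↔ ∀ x ∈ M, D x y = 0 := Iff.rfl

omit hp in
theorem smul_mem [NeZero (p ^ n)] (M : AddSubgroup (R2 p n)) (c : ZMod (p ^ n)) {x : R2 p n} (hx : x ∈ M) :
    c • x ∈ M := by
  rw [← ZMod.natCast_zmod_val c, Nat.cast_smul_eq_nsmul]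
  exact M.nsmul_mem hx _

theorem exists_val (x : ZMod (p ^ n)) :
    ∃ j ≤ n, ∃ w : ZMod (p ^ n), IsUnit w ∧ x = (p : ZMod (p ^ n)) ^ j * w := by
  by_cases hx : x = 0
  · refine ⟨n, le_rfl, 1, isUnit_one, ?_⟩
    rw [hx, mul_one, ← Nat.cast_pow, ZMod.natCast_self]
  · have hv : x.val ≠ 0 := fun h => hx ((ZMod.val_eq_zero x).1 h)
    obtain ⟨j, m, hm, hjm⟩ := Nat.exists_eq_pow_mul_and_not_dvd hv p hp.out.ne_one
    refine ⟨j, ?_, (m : ZMod (p ^ n)), ?_, ?_⟩
    · have h1 : p ^ j ≤ x.val := by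
        rw [hjm]
        exact Nat.le_mul_of_pos_right _ (Nat.pos_of_ne_zero fun h => hm (h ▸ dvd_zero p))
      exact ((Nat.pow_lt_pow_iff_right hp.out.one_lt).1 (h1.trans_lt (ZMod.val_lt x))).le
    · rw [ZMod.isUnit_iff_coprime]
      exact ((hp.out.coprime_iff_not_dvd.2 hm).symm).pow_right n
    · rw [← Nat.cast_pow, ← Nat.cast_mul, ← hjm, ZMod.natCast_zmod_val]

theorem pow_eq_zero_iff' {j : ℕ} : (p : ZMod (p ^ n)) ^ j = 0 ↔ n ≤ j := by
  rw [← Nat.cast_pow, ZMod.natCast_eq_zero_iff, Nat.pow_dvd_pow_iff_le_right hp.out.one_lt]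

theorem pow_mul_eq_zero {i : ℕ} (x : ZMod (p ^ n)) :
    (p : ZMod (p ^ n)) ^ i * x = 0 ↔ ∃ y, x = (p : ZMod (p ^ n)) ^ (n - i) * y := by
  constructor
  · intro h
    obtain ⟨j, -, w, hw, rfl⟩ := exists_val x
    rw [← mul_assoc, hw.mul_left_eq_zero, ← pow_add, pow_eq_zero_iff'] at h
    exact ⟨(p : ZMod (p ^ n)) ^ (j - (n - i)) * w, by rw [← mul_assoc, ← pow_add]; congr 2; omega⟩
  · rintro ⟨y, rfl⟩
    rw [← mul_assoc, ← pow_add, pow_eq_zero_iff'.2 (by omega), zero_mul]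

theorem card_pow_range {i : ℕ} (hi : i ≤ n) :
    Nat.card {x : ZMod (p ^ n) // ∃ y, x = (p : ZMod (p ^ n)) ^ i * y} = p ^ (n - i) := by
  have e : {x : ZMod (p ^ n) | ∃ y, x = (p : ZMod (p ^ n)) ^ i * y}
      = (AddSubgroup.zmultiples ((p ^ i : ℕ) : ZMod (p ^ n)) : Set (ZMod (p ^ n))) := by
    ext x
    simp only [Set.mem_setOf_eq, SetLike.mem_coe, AddSubgroup.mem_zmultiples_iff, Nat.cast_pow]
    constructor
    · rintro ⟨y, rfl⟩
      refine ⟨(y.val : ℤ), ?_⟩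
      rw [natCast_zsmul, nsmul_eq_mul, ZMod.natCast_zmod_val, mul_comm]
    · rintro ⟨k, rfl⟩
      exact ⟨k, by rw [zsmul_eq_mul, mul_comm]⟩
  rw [show Nat.card {x : ZMod (p ^ n) // ∃ y, x = (p : ZMod (p ^ n)) ^ i * y}
      = Nat.card ↥(AddSubgroup.zmultiples ((p ^ i : ℕ) : ZMod (p ^ n))) from
    Nat.card_congr (Equiv.setCongr e), Nat.card_zmultiples,
    ZMod.addOrderOf_coe _ (pow_ne_zero _ hp.out.ne_zero), Nat.gcd_eq_right (pow_dvd_pow p hi),
    Nat.pow_div hi hp.out.pos]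

/-- Every vector is a power of `p` times a member of a unimodular pair. -/
theorem exists_prim (x : R2 p n) :
    ∃ i ≤ n, ∃ x0 y0 : R2 p n, x = (p : ZMod (p ^ n)) ^ i • x0 ∧ D x0 y0 = 1 := by
  obtain ⟨j1, hj1, w1, hw1, h1⟩ := exists_val x.1
  obtain ⟨j2, hj2, w2, hw2, h2⟩ := exists_val x.2
  rcases le_total j1 j2 with h | h
  · obtain ⟨d, rfl⟩ := Nat.exists_eq_add_of_le h
    refine ⟨j1, hj1, (w1, (p : ZMod (p ^ n)) ^ d * w2), (0, ↑hw1.unit⁻¹), ?_, ?_⟩
    · refine Prod.ext ?_ ?_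
      · simpa using h1
      · simp only [Prod.smul_snd, smul_eq_mul]; rw [h2, pow_add, mul_assoc]
    · simp only [D, mul_zero, sub_zero]
      exact hw1.mul_val_inv
  · obtain ⟨d, rfl⟩ := Nat.exists_eq_add_of_le h
    refine ⟨j2, hj2, ((p : ZMod (p ^ n)) ^ d * w1, w2), (-↑hw2.unit⁻¹, 0), ?_, ?_⟩
    · refine Prod.ext ?_ ?_
      · simp only [Prod.smul_fst, smul_eq_mul]; rw [h1, pow_add, mul_assoc]
      · simpa using h2
    · simp only [D, mul_zero, zero_sub, mul_neg, neg_neg]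
      exact hw2.mul_val_inv

theorem coord {x0 y0 : R2 p n} (h : D x0 y0 = 1) (z : R2 p n) : z = D z y0 • x0 + D x0 z • y0 := by
  have h' : x0.1 * y0.2 - x0.2 * y0.1 = 1 := h
  refine Prod.ext ?_ ?_
  · simp only [D, Prod.fst_add, Prod.smul_fst, smul_eq_mul]
    linear_combination -z.1 * h'
  · simp only [D, Prod.snd_add, Prod.smul_snd, smul_eq_mul]
    linear_combination -z.2 * h'

theorem D_comb {x0 y0 : R2 p n} (h : D x0 y0 = 1) (a b c d : ZMod (p ^ n)) :
    D (a • x0 + b • y0) (c • x0 + d • y0) = a * d - b * c := by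
  rw [D_add_left, D_add_right, D_add_right, D_smul_left, D_smul_left, D_smul_left, D_smul_left,
    D_smul_right, D_smul_right, D_smul_right, D_smul_right, D_self, D_self, D_swap x0 y0, h]
  ring

/-- The subgroup in coordinates. -/
def InForm (x0 y0 : R2 p n) (i j : ℕ) (z : R2 p n) : Prop :=
  (∃ a, D z y0 = (p : ZMod (p ^ n)) ^ i * a) ∧ ∃ b, D x0 z = (p : ZMod (p ^ n)) ^ j * b

theorem card_inForm {x0 y0 : R2 p n} (h : D x0 y0 = 1) {i j : ℕ} (hi : i ≤ n) (hj : j ≤ n) :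
    Nat.card {z : R2 p n // InForm x0 y0 i j z} = p ^ (n - i) * p ^ (n - j) := by
  rw [← card_pow_range hi, ← card_pow_range hj, ← Nat.card_prod]
  refine Nat.card_congr
    { toFun := fun z => (⟨D z.1 y0, z.2.1⟩, ⟨D x0 z.1, z.2.2⟩)
      invFun := fun t => ⟨t.1.1 • x0 + t.2.1 • y0, ?_, ?_⟩
      left_inv := fun z => Subtype.ext (coord h z.1).symm
      right_inv := fun t => ?_ }
  · rw [D_add_left, D_smul_left, D_smul_left, h, D_self, mul_zero, add_zero, mul_one]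
    exact t.1.2
  · rw [D_add_right, D_smul_right, D_smul_right, h, D_self, mul_zero, zero_add, mul_one]
    exact t.2.2
  · refine Prod.ext (Subtype.ext ?_) (Subtype.ext ?_)
    · show D _ y0 = t.1.1
      rw [D_add_left, D_smul_left, D_smul_left, h, D_self, mul_zero, add_zero, mul_one]
    · show D x0 _ = t.2.1
      rw [D_add_right, D_smul_right, D_smul_right, h, D_self, mul_zero, zero_add, mul_one]

/-- Normal form of a subgroup and its orthogonal. -/
theorem normal_form (M : AddSubgroup (R2 p n)) :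
    ∃ (x0 y0 : R2 p n) (i j : ℕ), D x0 y0 = 1 ∧ i ≤ n ∧ j ≤ n ∧
      (∀ z, z ∈ M ↔ InForm x0 y0 i j z) ∧ (∀ z, z ∈ perp M ↔ InForm x0 y0 (n - j) (n - i) z) := by
  classical
  have hex : ∃ i, ∃ x0 y0 : R2 p n, D x0 y0 = 1 ∧ (p : ZMod (p ^ n)) ^ i • x0 ∈ M :=
    ⟨n, (1, 0), (0, 1), by simp [D], by rw [pow_eq_zero_iff'.2 le_rfl, zero_smul]; exact M.zero_mem⟩
  set i := Nat.find hex with hidef
  obtain ⟨x0, y0, h, hx⟩ := Nat.find_spec hex
  rw [← hidef] at hx
  have hin : i ≤ n := Nat.find_min' hex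
    ⟨(1, 0), (0, 1), by simp [D], by rw [pow_eq_zero_iff'.2 le_rfl, zero_smul]; exact M.zero_mem⟩
  have hex2 : ∃ j, (p : ZMod (p ^ n)) ^ j • y0 ∈ M :=
    ⟨n, by rw [pow_eq_zero_iff'.2 le_rfl, zero_smul]; exact M.zero_mem⟩
  set j := Nat.find hex2 with hjdef
  have hy : (p : ZMod (p ^ n)) ^ j • y0 ∈ M := Nat.find_spec hex2
  have hjn : j ≤ n := Nat.find_min' hex2 (by rw [pow_eq_zero_iff'.2 le_rfl, zero_smul]; exact M.zero_mem)
  have hM : ∀ z, z ∈ M ↔ InForm x0 y0 i j z := by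
    intro z
    constructor
    · intro hz
      obtain ⟨i', -, z0, z1, rfl, hz01⟩ := exists_prim z
      have hle : i ≤ i' := Nat.find_min' hex ⟨z0, z1, hz01, hz⟩
      obtain ⟨d, rfl⟩ := Nat.exists_eq_add_of_le hle
      have hA : D ((p : ZMod (p ^ n)) ^ (i + d) • z0) y0
          = (p : ZMod (p ^ n)) ^ i * ((p : ZMod (p ^ n)) ^ d * D z0 y0) := by
        rw [D_smul_left, pow_add, mul_assoc]
      refine ⟨⟨_, hA⟩, ?_⟩
      obtain ⟨k, hk, w, hw, hB⟩ := exists_val (D x0 ((p : ZMod (p ^ n)) ^ (i + d) • z0))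
      have hsub : ((p : ZMod (p ^ n)) ^ k * w) • y0 ∈ M := by
        have h1 := M.sub_mem hz (smul_mem M ((p : ZMod (p ^ n)) ^ d * D z0 y0) hx)
        rw [smul_smul, mul_comm _ ((p : ZMod (p ^ n)) ^ i), ← hA] at h1
        nth_rw 1 [coord h ((p : ZMod (p ^ n)) ^ (i + d) • z0)] at h1
        rwa [add_sub_cancel_left, hB] at h1
      have h2 := smul_mem M (↑hw.unit⁻¹ : ZMod (p ^ n)) hsub
      rw [smul_smul, mul_left_comm, hw.val_inv_mul, mul_one] at h2
      have hjk : j ≤ k := Nat.find_min' hex2 h2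
      obtain ⟨e, rfl⟩ := Nat.exists_eq_add_of_le hjk
      exact ⟨_, hB.trans (by rw [pow_add, mul_assoc])⟩
    · rintro ⟨⟨a, ha⟩, b, hb⟩
      rw [coord h z, ha, hb, mul_comm _ a, mul_comm _ b, ← smul_smul, ← smul_smul]
      exact M.add_mem (smul_mem M a hx) (smul_mem M b hy)
  refine ⟨x0, y0, i, j, h, hin, hjn, hM, fun z => ?_⟩
  constructor
  · intro hz
    have e1 := hz _ hx
    have e2 := hz _ hy
    rw [D_smul_left, pow_mul_eq_zero] at e1
    rw [D_smul_left, D_swap z y0, mul_neg, neg_eq_zero, pow_mul_eq_zero] at e2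
    exact ⟨e2, e1⟩
  · rintro ⟨⟨a, ha⟩, b, hb⟩ x hxM
    obtain ⟨⟨c, hc⟩, d, hd⟩ := (hM x).1 hxM
    rw [coord h x, coord h z, D_comb h, ha, hb, hc, hd]
    have e1 : (p : ZMod (p ^ n)) ^ i * (p : ZMod (p ^ n)) ^ (n - i) = 0 := by
      rw [← pow_add, pow_eq_zero_iff'.2 (by omega)]
    have e2 : (p : ZMod (p ^ n)) ^ j * (p : ZMod (p ^ n)) ^ (n - j) = 0 := by
      rw [← pow_add, pow_eq_zero_iff'.2 (by omega)]
    linear_combination (c * b) * e1 - (d * a) * e2

theorem card_mul_card_perp (M : AddSubgroup (R2 p n)) :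
    Nat.card M * Nat.card (perp M) = p ^ (2 * n) := by
  obtain ⟨x0, y0, i, j, h, hi, hj, hM, hP⟩ := normal_form M
  have e1 : Nat.card M = p ^ (n - i) * p ^ (n - j) := by
    rw [← card_inForm h hi hj]; exact Nat.card_congr (Equiv.subtypeEquivRight hM)
  have e2 : Nat.card (perp M) = p ^ (n - (n - j)) * p ^ (n - (n - i)) := by
    rw [← card_inForm h (Nat.sub_le n j) (Nat.sub_le n i)]; exact Nat.card_congr (Equiv.subtypeEquivRight hP)
  rw [e1, e2, ← pow_add, ← pow_add, ← pow_add]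
  congr 1
  omega

theorem le_or_ge_perp (M : AddSubgroup (R2 p n)) : M ≤ perp M ∨ perp M ≤ M := by
  obtain ⟨x0, y0, i, j, h, hi, hj, hM, hP⟩ := normal_form M
  rcases le_total n (i + j) with hn | hn
  · left
    intro z hz x hx
    obtain ⟨⟨a, ha⟩, b, hb⟩ := (hM z).1 hz
    obtain ⟨⟨c, hc⟩, d, hd⟩ := (hM x).1 hx
    rw [coord h x, coord h z, D_comb h, ha, hb, hc, hd]
    have e : (p : ZMod (p ^ n)) ^ i * (p : ZMod (p ^ n)) ^ j = 0 := by
      rw [← pow_add, pow_eq_zero_iff'.2 hn]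
    linear_combination (c * b - d * a) * e
  · right
    intro z hz
    obtain ⟨⟨a, ha⟩, b, hb⟩ := (hP z).1 hz
    refine (hM z).2 ⟨⟨(p : ZMod (p ^ n)) ^ (n - j - i) * a, ?_⟩,
      (p : ZMod (p ^ n)) ^ (n - i - j) * b, ?_⟩
    · rw [ha, ← mul_assoc, ← pow_add]; congr 2; omega
    · rw [hb, ← mul_assoc, ← pow_add]; congr 2; omega

theorem perp_perp (M : AddSubgroup (R2 p n)) : perp (perp M) = M := by
  symm
  refine AddSubgroup.eq_of_le_of_card_ge (fun x hx y hy => ?_) ?_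
  · rw [D_swap x y, hy x hx, neg_zero]
  · have h1 := card_mul_card_perp M
    have h2 := card_mul_card_perp (perp M)
    rw [← h1, mul_comm (Nat.card M)] at h2
    exact (Nat.eq_of_mul_eq_mul_left Nat.card_pos h2).le

theorem card_le_of_isotropic {M : AddSubgroup (R2 p n)} (h : M ≤ perp M) : Nat.card M ≤ p ^ n := by
  have h1 := card_mul_card_perp M
  have h2 := AddSubgroup.card_le_of_le h
  refine Nat.mul_self_le_mul_self_iff.1 ?_
  calc Nat.card M * Nat.card M ≤ Nat.card M * Nat.card (perp M) := Nat.mul_le_mul_left _ h2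
    _ = p ^ n * p ^ n := by rw [h1, two_mul, pow_add]

theorem lt_card_of_not_isotropic {M : AddSubgroup (R2 p n)} (h : ¬ M ≤ perp M) :
    perp M < M ∧ p ^ n < Nat.card M := by
  have hle := (le_or_ge_perp M).resolve_left h
  have hlt : perp M < M := lt_of_le_of_ne hle fun e => h e.ge
  refine ⟨hlt, ?_⟩
  have h1 := card_mul_card_perp M
  have h2 : Nat.card (perp M) < Nat.card M :=
    lt_of_le_of_ne (AddSubgroup.card_le_of_le hle)
      fun e => hlt.ne (AddSubgroup.eq_of_le_of_card_ge hle e.ge)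
  refine Nat.mul_self_lt_mul_self_iff.1 ?_
  calc p ^ n * p ^ n = Nat.card M * Nat.card (perp M) := by rw [h1, two_mul, pow_add]
    _ < Nat.card M * Nat.card M := Nat.mul_lt_mul_of_pos_left h2 Nat.card_pos

theorem card_pow_range_two {i : ℕ} (hi : i ≤ n) :
    Nat.card {x : R2 p n // (p : ZMod (p ^ n)) ^ i • x = 0} = p ^ (2 * i) := by
  rw [two_mul, pow_add, show p ^ i * p ^ i = p ^ (n - (n - i)) * p ^ (n - (n - i)) by
      rw [show n - (n - i) = i by omega], ← card_pow_range (Nat.sub_le n i), ← Nat.card_prod]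
  exact Nat.card_congr
    { toFun := fun x => (⟨x.1.1, (pow_mul_eq_zero _).1 (congrArg Prod.fst x.2)⟩,
        ⟨x.1.2, (pow_mul_eq_zero _).1 (congrArg Prod.snd x.2)⟩)
      invFun := fun t => ⟨(t.1.1, t.2.1),
        Prod.ext ((pow_mul_eq_zero _).2 t.1.2) ((pow_mul_eq_zero _).2 t.2.2)⟩
      left_inv := fun _ => rfl
      right_inv := fun _ => rfl }

end Cfsg.Lib.Solv.MC
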