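import Mathlib
import Cfsg.Prelude.Def_BaumannBlocks
import Cfsg.Agent.Lib.Transfer.MetacyclicPower
import Cfsg.Agent.Lib.Solv.ModForm
import Cfsg.Agent.Lib.Solv.PGroupBasic

/-!
# Metacyclic groups of odd prime power order

The quotient by the centre is coordinatised by a free module of rank two over `ℤ / p ^ n`, where
`p ^ n` is the order of the derived subgroup; two elements commute iff the determinant vanishes.
-/

set_option autoImplicit false
set_option linter.style.haveILetI false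

namespace Cfsg.Lib.Solv.MC

open Cfsg.Lib.Transfer.Metacyclic Subgroup
open scoped commutatorElement

variable {p n : ℕ} [hp : Fact p.Prime]

local instance neZeroPrime' : NeZero p := ⟨hp.out.ne_zero⟩

theorem isUnit_intCast {u : ℤ} (h : ¬ (p : ℤ) ∣ u) : IsUnit (u : ZMod (p ^ n)) := by
  obtain ⟨a, b, hab⟩ := ((Nat.prime_iff_prime_int.1 hp.out).coprime_iff_not_dvd.2 h).pow_left (m := n)
  have := congrArg (fun z : ℤ => (z : ZMod (p ^ n))) hab
  simp only [Int.cast_add, Int.cast_mul, Int.cast_pow, Int.cast_natCast, Int.cast_one] at this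
  rw [pow_eq_zero_iff'.2 le_rfl, mul_zero, zero_add] at this
  exact isUnit_iff_exists_inv'.2 ⟨_, this⟩

theorem not_dvd_of_one_mod {q : ℤ} (hq : (p : ℤ) ∣ q - 1) : ¬ (p : ℤ) ∣ q := fun h => by
  have := Int.dvd_sub h hq
  rw [show q - (q - 1) = (1 : ℤ) by ring] at this
  exact (Nat.prime_iff_prime_int.1 hp.out).not_unit (isUnit_of_dvd_one this)

theorem gsum_add (q : ℤ) (k d : ℕ) : gsum q (k + d) = gsum q k + q ^ k * gsum q d := by
  simp only [gsum, Finset.sum_range_add, Finset.mul_sum, pow_add]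

theorem gsum_cast_eq_zero (hodd : p ≠ 2) {q : ℤ} (hq : (p : ℤ) ∣ q - 1) (m : ℕ) :
    (gsum q m : ZMod (p ^ n)) = 0 ↔ p ^ n ∣ m := by
  by_cases hm : m = 0
  · subst hm; simp [gsum]
  obtain ⟨j, m', hm', rfl⟩ := Nat.exists_eq_pow_mul_and_not_dvd hm p hp.out.ne_one
  obtain ⟨z, hz⟩ := gsum_eq hodd hq j
  have hu1 : ¬ (p : ℤ) ∣ 1 + (q - 1) * z := not_dvd_of_one_mod (by simpa using hq.mul_right z)
  have hu2 : ¬ (p : ℤ) ∣ gsum (q ^ p ^ j) m' := by
    intro h
    apply hm'
    rw [← ZMod.natCast_eq_zero_iff]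
    rw [← ZMod.intCast_zmod_eq_zero_iff_dvd] at h
    have hB : ((q ^ p ^ j : ℤ) : ZMod p) = 1 := by
      rw [← sub_eq_zero, ← Int.cast_one, ← Int.cast_sub, ZMod.intCast_zmod_eq_zero_iff_dvd]
      exact dvd_pow_sub_one hq _
    rw [gsum, Int.cast_sum, Finset.sum_congr rfl fun i _ => by rw [Int.cast_pow, hB, one_pow]] at h
    simpa using h
  have he : gsum q (p ^ j * m') = (p : ℤ) ^ j * ((1 + (q - 1) * z) * gsum (q ^ p ^ j) m') := by
    rw [gsum_mul, hz]; ring
  rw [he, Int.cast_mul, Int.cast_pow, Int.cast_natCast, Int.cast_mul,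
    ((isUnit_intCast hu1).mul (isUnit_intCast hu2)).mul_left_eq_zero, pow_eq_zero_iff']
  constructor
  · exact fun h => (pow_dvd_pow p h).mul_right m'
  · intro h
    exact (Nat.pow_dvd_pow_iff_le_right hp.out.one_lt).1
      (((hp.out.coprime_iff_not_dvd.2 hm').pow_left n).dvd_of_dvd_mul_right h)

theorem gsum_surj (hodd : p ≠ 2) {q : ℤ} (hq : (p : ℤ) ∣ q - 1) (c : ZMod (p ^ n)) :
    ∃ m : ℕ, (gsum q m : ZMod (p ^ n)) = c := by
  let f : Fin (p ^ n) → ZMod (p ^ n) := fun m => (gsum q m : ZMod (p ^ n))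
  have key : ∀ k l : Fin (p ^ n), (k : ℕ) ≤ l → f k = f l → k = l := by
    intro k l hkl h
    obtain ⟨d, hd⟩ := Nat.exists_eq_add_of_le hkl
    simp only [f] at h
    rw [hd, gsum_add, Int.cast_add, Int.cast_mul, left_eq_add,
      (show IsUnit (((q ^ (k : ℕ) : ℤ)) : ZMod (p ^ n)) by
        rw [Int.cast_pow]; exact (isUnit_intCast (not_dvd_of_one_mod hq)).pow _).mul_right_eq_zero,
      gsum_cast_eq_zero hodd hq] at h
    have hdlt : d < p ^ n := by have := l.2; omega
    have hd0 : d = 0 := Nat.eq_zero_of_dvd_of_lt h hdlt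
    exact Fin.ext (by omega)
  have hinj : Function.Injective f := fun k l h => by
    rcases le_total (k : ℕ) l with hle | hle
    · exact key k l hle h
    · exact (key l k hle h.symm).symm
  have hb : Function.Bijective f := (Nat.bijective_iff_injective_and_card f).2
    ⟨hinj, by rw [Nat.card_fin, Nat.card_zmod]⟩
  obtain ⟨m, hm⟩ := hb.2 c
  exact ⟨m, hm⟩

/-- Coordinates modulo the centre. -/
structure Coord (G : Type*) [Group G] (p n : ℕ) where
  φ : G → R2 p n
  χ : G → ZMod (p ^ n)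
  mul' : ∀ g h, φ (g * h) = φ g + χ g • φ h
  chi' : ∀ g, ∃ q : ℤ, (p : ℤ) ∣ q - 1 ∧ χ g = (q : ZMod (p ^ n))
  surj : Function.Surjective φ
  comm' : ∀ g h, g * h = h * g ↔ D (φ g) (φ h) = 0
  powers : ∀ s ≤ n, ∀ g, (∃ y, φ g = (p : ZMod (p ^ n)) ^ s • y) →
    g ∈ closure {x : G | ∃ y, y ^ p ^ s = x}

variable {G : Type*} [Group G]

theorem exists_coord [Finite G] (hodd : p ≠ 2) (hG : IsPGroup p G) (hm : Cfsg.IsMetacyclic G) :
    ∃ n, Nat.card (commutator G) = p ^ n ∧ Nonempty (Coord G p n) := by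
  classical
  obtain ⟨a, b, r, hd, -, -⟩ := exists_data hG hm
  choose u k hg using hd.cover
  have hconj : ∀ (k : ℕ) (v : ℤ), b ^ k * a ^ v = a ^ (r ^ k * v) * b ^ k := by
    intro k v
    have h := conj_pow_base hd.rel k
    rw [zpow_mul, ← h, conj_zpow]; group
  have hmulform : ∀ (u v : ℤ) (k l : ℕ),
      a ^ u * b ^ k * (a ^ v * b ^ l) = a ^ (u + r ^ k * v) * b ^ (k + l) := by
    intro u v k l
    rw [mul_assoc, ← mul_assoc (b ^ k), hconj, mul_assoc, ← pow_add, ← mul_assoc, ← zpow_add]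
  have hr : ∀ m : ℕ, r ^ m - 1 = (r - 1) * gsum r m := fun m => by rw [mul_comm, gsum_mul_sub]
  set c := a ^ (r - 1) with hc
  have hcomm : ∀ (u v : ℤ) (k l : ℕ),
      (a ^ u * b ^ k * (a ^ v * b ^ l)) * ((a ^ v * b ^ l) * (a ^ u * b ^ k))⁻¹
        = c ^ (v * gsum r k - u * gsum r l) := by
    intro u v k l
    rw [hmulform, hmulform, add_comm l k, mul_inv_rev, mul_assoc, mul_inv_cancel_left, ← zpow_neg,
      ← zpow_add, hc, ← zpow_mul]
    congr 1
    linear_combination v * hr k - u * hr l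
  have hcG : commutator G = zpowers c := by
    refine le_antisymm ?_ ?_
    · rw [commutator_def, commutator_le]
      intro g _ h _
      rw [hg g, hg h, commutatorElement_def]
      refine mem_zpowers_iff.2 ⟨u h * gsum r (k g) - u g * gsum r (k h), ?_⟩
      rw [← hcomm]; group
    · rw [zpowers_le, hc, zpow_sub, zpow_one, ← hd.rel, commutator_def]
      exact commutator_mem_commutator (mem_top b) (mem_top a)
  obtain ⟨n, hn⟩ := IsPGroup.iff_card.1 (hG.to_subgroup (zpowers c))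
  rw [← hcG] at hn
  refine ⟨n, hn, ?_⟩
  have hord : orderOf c = p ^ n := by rw [← Nat.card_zpowers, ← hcG, hn]
  have hzero : ∀ z : ℤ, c ^ z = 1 ↔ (z : ZMod (p ^ n)) = 0 := fun z => by
    rw [← orderOf_dvd_iff_zpow_eq_one, hord, ← ZMod.intCast_zmod_eq_zero_iff_dvd]
  have indep : ∀ (u v : ℤ) (k l : ℕ), a ^ u * b ^ k = a ^ v * b ^ l →
      (u : ZMod (p ^ n)) = v ∧ (gsum r k : ZMod (p ^ n)) = gsum r l := by
    have key : ∀ (u v : ℤ) (k d : ℕ), a ^ u * b ^ k = a ^ v * b ^ (k + d) →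
        (u : ZMod (p ^ n)) = v ∧ (gsum r k : ZMod (p ^ n)) = gsum r (k + d) := by
      intro u v k d h
      have hb : b ^ d = a ^ (u - v) := by
        rw [add_comm k d, pow_add, ← mul_assoc] at h
        have h2 := mul_right_cancel h
        rw [sub_eq_neg_add, zpow_add, zpow_neg, h2]; group
      constructor
      · have h1 : b * a ^ (u - v) * b⁻¹ = a ^ (u - v) := by rw [← hb]; group
        rw [← conj_zpow, hd.rel, ← zpow_mul] at h1
        have h2 : c ^ (u - v) = 1 := by
          rw [hc, ← zpow_mul, sub_mul, one_mul, zpow_sub, h1, mul_inv_cancel]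
        rw [hzero, Int.cast_sub, sub_eq_zero] at h2
        exact h2
      · have h1 := conj_pow_base hd.rel d
        rw [hb, show a ^ (u - v) * a * (a ^ (u - v))⁻¹ = a by group] at h1
        have h2 : c ^ gsum r d = 1 := by
          rw [hc, ← zpow_mul, ← hr, zpow_sub, ← h1, zpow_one, mul_inv_cancel]
        rw [hzero] at h2
        rw [gsum_add, Int.cast_add, Int.cast_mul, h2, mul_zero, add_zero]
    intro u v k l h
    rcases Nat.le_total k l with hle | hle
    · obtain ⟨d, rfl⟩ := Nat.exists_eq_add_of_le hle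
      exact key u v k d h
    · obtain ⟨d, rfl⟩ := Nat.exists_eq_add_of_le hle
      exact ⟨(key v u l d h.symm).1.symm, (key v u l d h.symm).2.symm⟩
  let φ : G → R2 p n := fun g => ((u g : ZMod (p ^ n)), (gsum r (k g) : ZMod (p ^ n)))
  have hφ : ∀ (g : G) (U : ℤ) (K : ℕ), g = a ^ U * b ^ K →
      φ g = ((U : ZMod (p ^ n)), (gsum r K : ZMod (p ^ n))) := by
    intro g U K h
    obtain ⟨e1, e2⟩ := indep (u g) U (k g) K ((hg g).symm.trans h)
    exact Prod.ext e1 e2
  refine ⟨⟨φ, fun g => ((r ^ k g : ℤ) : ZMod (p ^ n)), ?_, ?_, ?_, ?_, ?_⟩⟩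
  · intro g h
    rw [hφ (g * h) (u g + r ^ k g * u h) (k g + k h) (by rw [← hmulform, ← hg, ← hg])]
    refine Prod.ext ?_ ?_
    · simp [φ]
    · simp [φ, gsum_add]
  · exact fun g => ⟨r ^ k g, dvd_pow_sub_one hd.one _, rfl⟩
  · intro x
    obtain ⟨m, hm⟩ := gsum_surj hodd hd.one x.2
    refine ⟨a ^ ((x.1.val : ℤ)) * b ^ m, ?_⟩
    rw [hφ _ _ _ rfl, Int.cast_natCast, ZMod.natCast_zmod_val, hm]
  · intro g h
    have h1 : g * h = h * g ↔ c ^ (u h * gsum r (k g) - u g * gsum r (k h)) = 1 := by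
      rw [← hcomm, ← hg, ← hg, mul_inv_eq_one]
    rw [h1, hzero]
    simp only [φ, D, Int.cast_sub, Int.cast_mul]
    constructor <;> intro e <;> linear_combination -e
  · rintro s hs g ⟨y, hy⟩
    have hdvd : ∀ (z : ℤ) (w : ZMod (p ^ n)), (z : ZMod (p ^ n)) = (p : ZMod (p ^ n)) ^ s * w →
        (p : ℤ) ^ s ∣ z := by
      intro z w hz
      rw [← ZMod.natCast_zmod_val w, ← Nat.cast_pow, ← Nat.cast_mul, ← Int.cast_natCast,
        ← sub_eq_zero, ← Int.cast_sub, ZMod.intCast_zmod_eq_zero_iff_dvd] at hz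
      have h2 : ((p : ℤ) ^ s) ∣ ((p ^ n : ℕ) : ℤ) := by push_cast; exact pow_dvd_pow _ hs
      have h3 := h2.trans hz
      push_cast at h3
      have := dvd_add h3 (dvd_mul_right ((p : ℤ) ^ s) (w.val : ℤ))
      rwa [sub_add_cancel] at this
    obtain ⟨e1, he1⟩ := hdvd (u g) y.1 (congrArg Prod.fst hy)
    have h2 : p ^ s ∣ k g := by
      rw [← gsum_cast_eq_zero (n := s) hodd hd.one, ZMod.intCast_zmod_eq_zero_iff_dvd]
      push_cast
      exact hdvd _ y.2 (congrArg Prod.snd hy)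
    obtain ⟨e2, he2⟩ := h2
    rw [hg g, he1, he2]
    refine mul_mem (subset_closure ⟨a ^ e1, ?_⟩) (subset_closure ⟨b ^ e2, ?_⟩)
    · rw [← zpow_natCast (a ^ e1), ← zpow_mul]; push_cast; rw [mul_comm]
    · rw [← pow_mul, mul_comm]

namespace Coord

variable [Finite G] (C : Coord G p n)

theorem isUnit_chi (g : G) : IsUnit (C.χ g) := by
  obtain ⟨q, hq, e⟩ := C.chi' g
  rw [e]; exact isUnit_intCast (not_dvd_of_one_mod hq)

omit [Finite G] in
theorem phi_one : C.φ 1 = 0 := by
  have h1 : ∀ y, D (C.φ 1) y = 0 := fun y => by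
    obtain ⟨g, rfl⟩ := C.surj y
    exact (C.comm' 1 g).1 (by rw [one_mul, mul_one])
  exact eq_zero_of_forall_D h1

theorem mem_center_iff' (g : G) : g ∈ center G ↔ C.φ g = 0 := by
  rw [Subgroup.mem_center_iff]
  constructor
  · refine fun h => eq_zero_of_forall_D fun y => ?_
    obtain ⟨x, rfl⟩ := C.surj y
    exact (C.comm' g x).1 (h x).symm
  · intro h x
    exact ((C.comm' g x).2 (by simp [D, h])).symm

theorem phi_eq_iff (g h : G) : C.φ g = C.φ h ↔ g⁻¹ * h ∈ center G := by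
  have e := C.mul' g (g⁻¹ * h)
  rw [mul_inv_cancel_left] at e
  rw [C.mem_center_iff', e, left_eq_add, (C.isUnit_chi g).smul_eq_zero]

theorem card_preimage (T : Set (R2 p n)) :
    Nat.card {g : G // C.φ g ∈ T} = Nat.card (center G) * Nat.card T := by
  classical
  choose sec hsec using C.surj
  have hmul : ∀ (g z : G), z ∈ center G → C.φ (g * z) = C.φ g := fun g z hz => by
    rw [eq_comm, phi_eq_iff, inv_mul_cancel_left]; exact hz
  rw [← Nat.card_prod]
  symm
  refine Nat.card_congr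
    { toFun := fun zt => ⟨sec zt.2 * zt.1, by rw [hmul _ _ zt.1.2, hsec]; exact zt.2.2⟩
      invFun := fun g => (⟨(sec (C.φ g.1))⁻¹ * g.1, (C.phi_eq_iff _ _).1 (hsec _)⟩, ⟨C.φ g.1, g.2⟩)
      left_inv := fun zt => ?_
      right_inv := fun g => Subtype.ext (mul_inv_cancel_left _ _) }
  have h1 : C.φ (sec zt.2 * zt.1) = zt.2 := by rw [hmul _ _ zt.1.2, hsec]
  refine Prod.ext (Subtype.ext ?_) (Subtype.ext h1)
  show (sec (C.φ (sec zt.2 * zt.1)))⁻¹ * (sec zt.2 * zt.1) = zt.1
  rw [h1, inv_mul_cancel_left]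

include C in
theorem card_eq : Nat.card G = Nat.card (center G) * p ^ (2 * n) := by
  have h := C.card_preimage Set.univ
  rw [Nat.card_congr (Equiv.subtypeUnivEquiv fun _ => Set.mem_univ _), Nat.card_univ, Nat.card_prod,
    Nat.card_zmod, ← pow_add, ← two_mul] at h
  exact h

include C in
theorem center_index : (center G).index = (p ^ n) ^ 2 := by
  have h := card_mul_index (center G)
  rw [C.card_eq] at h
  rw [Nat.eq_of_mul_eq_mul_left Nat.card_pos h, ← pow_mul, mul_comm]

theorem smul_mem_image (L : Subgroup G) (hodd : p ≠ 2) {x : R2 p n} (hx : x ∈ C.φ '' L)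
    (c : ZMod (p ^ n)) : c • x ∈ C.φ '' L := by
  obtain ⟨g, hg, rfl⟩ := hx
  obtain ⟨q, hq, hχ⟩ := C.chi' g
  obtain ⟨m, rfl⟩ := gsum_surj hodd hq c
  refine ⟨g ^ m, L.pow_mem hg m, ?_⟩
  induction m with
  | zero => rw [pow_zero, C.phi_one]; simp [gsum]
  | succ m ih =>
    rw [pow_succ', C.mul', ih, hχ, smul_smul, add_comm m 1, gsum_add, Int.cast_add, Int.cast_mul,
      add_smul]
    simp [gsum]

/-- The image of a subgroup. -/
def img (hodd : p ≠ 2) (L : Subgroup G) : AddSubgroup (R2 p n) where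
  carrier := C.φ '' L
  zero_mem' := ⟨1, L.one_mem, C.phi_one⟩
  add_mem' := by
    rintro _ y ⟨g, hg, rfl⟩ hy
    obtain ⟨h, hh, e⟩ := C.smul_mem_image L hodd hy (↑(C.isUnit_chi g).unit⁻¹)
    refine ⟨g * h, L.mul_mem hg hh, ?_⟩
    rw [C.mul', e, smul_smul, (C.isUnit_chi g).mul_val_inv, one_smul]
  neg_mem' := by
    intro x hx
    have := C.smul_mem_image L hodd hx (-1)
    rwa [neg_one_smul] at this

/-- The preimage of an additive subgroup. -/
def pre (M : AddSubgroup (R2 p n)) : Subgroup G where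
  carrier := {g | C.φ g ∈ M}
  one_mem' := by show C.φ 1 ∈ M; rw [C.phi_one]; exact M.zero_mem
  mul_mem' := fun {g h} hg hh => by
    show C.φ (g * h) ∈ M; rw [C.mul']; exact M.add_mem hg (smul_mem M _ hh)
  inv_mem' := fun {g} hg => by
    show C.φ g⁻¹ ∈ M
    have e := C.mul' g g⁻¹
    rw [mul_inv_cancel, C.phi_one, eq_comm, add_eq_zero_iff_eq_neg'] at e
    have h1 : C.χ g • C.φ g⁻¹ ∈ M := e ▸ M.neg_mem hg
    have h2 := smul_mem M (↑(C.isUnit_chi g).unit⁻¹) h1
    rwa [smul_smul, (C.isUnit_chi g).val_inv_mul, one_smul] at h2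

theorem mem_pre (M : AddSubgroup (R2 p n)) (g : G) : g ∈ C.pre M ↔ C.φ g ∈ M := Iff.rfl

theorem card_pre (M : AddSubgroup (R2 p n)) :
    Nat.card (C.pre M) = Nat.card (center G) * Nat.card M :=
  C.card_preimage (M : Set (R2 p n))

theorem centralizer_eq (hodd : p ≠ 2) (L : Subgroup G) :
    centralizer (L : Set G) = C.pre (perp (C.img hodd L)) := by
  ext g
  rw [mem_centralizer_iff, mem_pre, mem_perp]
  constructor
  · rintro h _ ⟨x, hx, rfl⟩; exact (C.comm' x g).1 (h x hx)
  · intro h x hx; exact (C.comm' x g).2 (h _ ⟨x, hx, rfl⟩)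

theorem le_pre_img (hodd : p ≠ 2) (L : Subgroup G) : L ≤ C.pre (C.img hodd L) :=
  fun g hg => ⟨g, hg, rfl⟩

theorem pre_img (hodd : p ≠ 2) {L : Subgroup G} (h : center G ≤ L) : C.pre (C.img hodd L) = L := by
  refine le_antisymm ?_ (C.le_pre_img hodd L)
  rintro g ⟨x, hx, e⟩
  have := L.mul_mem hx (h ((C.phi_eq_iff x g).1 e))
  rwa [mul_inv_cancel_left] at this

theorem card_le_img (hodd : p ≠ 2) (L : Subgroup G) :
    Nat.card L ≤ Nat.card (center G) * Nat.card (C.img hodd L) := by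
  rw [← C.card_pre]
  exact Nat.le_of_dvd Nat.card_pos (card_dvd_of_le (C.le_pre_img hodd L))

theorem isMulCommutative_iff (hodd : p ≠ 2) (L : Subgroup G) :
    IsMulCommutative L ↔ C.img hodd L ≤ perp (C.img hodd L) := by
  constructor
  · rintro hL _ ⟨g, hg, rfl⟩ _ ⟨x, hx, rfl⟩
    exact (C.comm' x g).1 (congrArg Subtype.val (hL.is_comm.comm (⟨x, hx⟩ : L) ⟨g, hg⟩))
  · intro h
    exact ⟨⟨fun x y => Subtype.ext ((C.comm' x.1 y.1).2
      (mem_perp.1 (h ⟨y.1, y.2, rfl⟩) _ ⟨x.1, x.2, rfl⟩))⟩⟩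

include C in
theorem card_le_of_commutative (hodd : p ≠ 2) {L : Subgroup G} (hL : IsMulCommutative L) :
    Nat.card L ≤ Nat.card (center G) * p ^ n :=
  (C.card_le_img hodd L).trans
    (Nat.mul_le_mul_left _ (card_le_of_isotropic ((C.isMulCommutative_iff hodd L).1 hL)))

include C in
theorem commutator_index (hn : Nat.card (commutator G) = p ^ n) :
    (commutator G).index = Nat.card (center G) * p ^ n := by
  have h := card_mul_index (commutator G)
  rw [hn, C.card_eq, two_mul, pow_add, ← mul_assoc, mul_comm (Nat.card (center G) * p ^ n)] at h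
  exact Nat.eq_of_mul_eq_mul_left (pow_pos hp.out.pos n) h

theorem centralizer_singleton_index (hodd : p ≠ 2) (g : G) :
    (centralizer ({g} : Set G)).index = addOrderOf (C.φ g) := by
  have e : centralizer ({g} : Set G) = C.pre (perp (AddSubgroup.zmultiples (C.φ g))) := by
    ext x
    rw [mem_centralizer_singleton_iff, mem_pre, mem_perp]
    constructor
    · rintro h y hy
      obtain ⟨m, rfl⟩ := AddSubgroup.mem_zmultiples_iff.1 hy
      rw [← Int.cast_smul_eq_zsmul (ZMod (p ^ n)), D_smul_left, (C.comm' g x).1 h.symm, mul_zero]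
    · intro h
      exact ((C.comm' g x).2 (h _ (AddSubgroup.mem_zmultiples _))).symm
  have h1 := card_mul_index (centralizer ({g} : Set G))
  nth_rw 1 [e] at h1
  rw [C.card_pre, C.card_eq, ← card_mul_card_perp (AddSubgroup.zmultiples (C.φ g)),
    Nat.card_zmultiples, mul_assoc] at h1
  have h2 := Nat.eq_of_mul_eq_mul_left Nat.card_pos h1
  rw [mul_comm (addOrderOf _)] at h2
  exact Nat.eq_of_mul_eq_mul_left Nat.card_pos h2

theorem closure_powers (hodd : p ≠ 2) {s : ℕ} (hs : s ≤ n) (g : G) :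
    g ∈ closure {x : G | ∃ y, y ^ p ^ s = x} ↔ (p : ZMod (p ^ n)) ^ (n - s) • C.φ g = 0 := by
  let M : AddSubgroup (R2 p n) :=
    { carrier := {x | (p : ZMod (p ^ n)) ^ (n - s) • x = 0}
      zero_mem' := smul_zero _
      add_mem' := fun {x y} hx hy => by
        show _ • (x + y) = 0; rw [smul_add, hx, hy, add_zero]
      neg_mem' := fun {x} hx => by
        show _ • (-x) = 0; rw [smul_neg, hx, neg_zero] }
  constructor
  · intro h
    have hle : closure {x : G | ∃ y, y ^ p ^ s = x} ≤ C.pre M := by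
      rw [closure_le]
      rintro _ ⟨y, rfl⟩
      show (p : ZMod (p ^ n)) ^ (n - s) • C.φ (y ^ p ^ s) = 0
      obtain ⟨q, hq, hχ⟩ := C.chi' y
      have hpow : ∀ m, C.φ (y ^ m) = (gsum q m : ZMod (p ^ n)) • C.φ y := by
        intro m
        induction m with
        | zero => rw [pow_zero, C.phi_one]; simp [gsum]
        | succ m ih =>
          rw [pow_succ', C.mul', ih, hχ, smul_smul, add_comm m 1, gsum_add, Int.cast_add,
            Int.cast_mul, add_smul]
          simp [gsum]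
      obtain ⟨z, hz⟩ := gsum_eq hodd hq s
      rw [hpow, hz, show (p : ℤ) ^ s + (p : ℤ) ^ s * (q - 1) * z = (p : ℤ) ^ s * (1 + (q - 1) * z) by ring,
        smul_smul, Int.cast_mul, Int.cast_pow, Int.cast_natCast, ← mul_assoc, ← pow_add,
        Nat.sub_add_cancel hs, pow_eq_zero_iff'.2 le_rfl, zero_mul, zero_smul]
    exact hle h
  · intro h
    refine C.powers s hs g ?_
    have h1 := (pow_mul_eq_zero _).1 (congrArg Prod.fst h)
    have h2 := (pow_mul_eq_zero _).1 (congrArg Prod.snd h)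
    rw [show n - (n - s) = s by omega] at h1 h2
    obtain ⟨y1, h1⟩ := h1
    obtain ⟨y2, h2⟩ := h2
    exact ⟨(y1, y2), Prod.ext h1 h2⟩

end Coord

theorem isMetacyclic_subgroup (hm : Cfsg.IsMetacyclic G) (H : Subgroup G) : Cfsg.IsMetacyclic ↥H := by
  obtain ⟨N, hN, hNc, hQc⟩ := hm
  refine ⟨N.subgroupOf H, inferInstance, ?_, ?_⟩
  · exact isCyclic_of_injective
      ((H.subtype.comp (N.subgroupOf H).subtype).codRestrict N (fun x => x.2))
      (fun a b h => Subtype.ext (Subtype.ext (congrArg (fun z : N => (z : G)) h)))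
  · let f : ↥H →* G ⧸ N := (QuotientGroup.mk' N).comp H.subtype
    have hker : N.subgroupOf H = f.ker := by
      ext x
      simp [f, mem_subgroupOf]
    exact isCyclic_of_injective ((QuotientGroup.kerLift f).comp
      (QuotientGroup.quotientMulEquivOfEq hker).toMonoidHom)
      ((QuotientGroup.kerLift_injective f).comp (QuotientGroup.quotientMulEquivOfEq hker).injective)

theorem map_center_eq (L : Subgroup G) : (center L).map L.subtype = L ⊓ centralizer (L : Set G) := by
  ext x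
  constructor
  · rintro ⟨y, hy, rfl⟩
    exact ⟨y.2, mem_centralizer_iff.2 fun z hz =>
      congrArg Subtype.val (Subgroup.mem_center_iff.1 hy ⟨z, hz⟩)⟩
  · rintro ⟨hx, hc⟩
    exact ⟨⟨x, hx⟩, Subgroup.mem_center_iff.2 fun z => Subtype.ext (mem_centralizer_iff.1 hc z z.2),
      rfl⟩

/-- A nonabelian subgroup contains the centre. -/
theorem center_le_of_not_commutative [Finite G] (hodd : p ≠ 2) (hG : IsPGroup p G)
    (hm : Cfsg.IsMetacyclic G) (L : Subgroup G) (hL : ¬ IsMulCommutative L) : center G ≤ L := by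
  suffices H : ∀ (m : ℕ) (K : Subgroup G), Nat.card K ≤ m → L ≤ K →
      K ⊓ centralizer (K : Set G) ≤ L by
    intro z hz
    refine H _ ⊤ le_rfl le_top ⟨mem_top z, ?_⟩
    exact mem_centralizer_iff.2 fun x _ => Subgroup.mem_center_iff.1 hz x
  intro m
  induction m with
  | zero =>
    intro K hK _
    exact absurd hK (by have := Nat.card_pos (α := K); omega)
  | succ m ih =>
    intro K hK hLK
    by_cases hKL : K ≤ L
    · exact inf_le_left.trans hKL
    obtain ⟨n, -, ⟨C⟩⟩ := exists_coord hodd (hG.to_subgroup K) (isMetacyclic_subgroup hm K)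
    have hne : L.subgroupOf K ≠ ⊤ := fun h => hKL (subgroupOf_eq_top.1 h)
    obtain ⟨M, hM, hLM⟩ := (eq_top_or_exists_le_coatom (L.subgroupOf K)).resolve_left hne
    have hn1 : 1 ≤ n := by
      by_contra hn0
      refine hL ⟨⟨fun x y => Subtype.ext ?_⟩⟩
      have hD := (C.comm' ⟨x, hLK x.2⟩ ⟨y, hLK y.2⟩).2 (by
        have h0 : (p : ZMod (p ^ n)) ^ 0 = 0 := pow_eq_zero_iff'.2 (by omega)
        rw [pow_zero] at h0
        exact eq_zero_of_zero_eq_one h0.symm _)
      exact congrArg (fun z : K => (z : G)) hD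
    have hZM : center K ≤ M := by
      intro z hz
      have h1 : z ∈ closure {x : ↥K | ∃ y, y ^ p ^ n = x} := by
        rw [C.closure_powers hodd le_rfl]
        simp [(C.mem_center_iff' z).1 hz]
      refine (closure_le M).2 ?_ h1
      rintro _ ⟨y, rfl⟩
      obtain ⟨n', rfl⟩ := Nat.exists_eq_add_of_le hn1
      rw [pow_add, pow_one, pow_mul]
      exact M.pow_mem (pow_mem_of_coatom (hG.to_subgroup K) hM y) _
    set K' := M.map K.subtype with hK'
    have hLK' : L ≤ K' := fun x hx => ⟨⟨x, hLK hx⟩, hLM hx, rfl⟩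
    have hlt : Nat.card K' ≤ m := by
      have h1 : Nat.card M < Nat.card K := by
        refine lt_of_le_of_ne (Nat.le_of_dvd Nat.card_pos (card_subgroup_dvd_card M)) fun h => ?_
        exact hM.1 (eq_top_of_card_eq M h)
      rw [hK', card_map_of_injective K.subtype_injective]
      omega
    refine le_trans ?_ (ih K' hlt hLK')
    intro x hx
    refine ⟨⟨⟨x, hx.1⟩, hZM ?_, rfl⟩, centralizer_le (map_subtype_le _) hx.2⟩
    exact Subgroup.mem_center_iff.2 fun z => Subtype.ext (mem_centralizer_iff.1 hx.2 z z.2)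

end Cfsg.Lib.Solv.MC
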