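import Mathlib
import Cfsg.Prelude.Def_LocalStructure
import Cfsg.Agent.Lib.PLocal.FpfModule
import Cfsg.Agent.Lib.Solv.Coprime
import Cfsg.Agent.Lib.Solv.MinNormal
import Cfsg.Agent.Lib.Transfer.PGroupFrattini

/-!
Groups `A ⋊ C_p` with `A` an irreducible elementary abelian `q`-group.
-/

set_option autoImplicit false

open scoped Pointwise

namespace Cfsg.Lib.Solv

open Polynomial Cfsg.Lib.PLocal.FpfModule

universe u

theorem card_eq_of_irreducible {p q : ℕ} [hp : Fact p.Prime] [hq : Fact q.Prime] {V : Type*}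
    [AddCommGroup V] [Module (ZMod p) V] [Finite V] [Nontrivial V] (σ : Module.End (ZMod p) V)
    (hpq : p ≠ q) (hσ : σ ^ q = 1) (hfix : ∀ v, σ v = v → v = 0)
    (hirr : ∀ W : Submodule (ZMod p) V, (∀ w ∈ W, σ w ∈ W) → W = ⊥ ∨ W = ⊤) :
    Nat.card V = p ^ orderOf (p : ZMod q) := by
  have hint : IsIntegral (ZMod p) σ := ⟨cyclotomic q (ZMod p), cyclotomic.monic _ _, by
    rw [← aeval_def]; exact cyclotomic_eq_zero hσ hfix⟩
  set m := minpoly (ZMod p) σ with hmdef
  have hm1 : m.Monic := minpoly.monic hint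
  haveI : Nontrivial (Module.End (ZMod p) V) := by
    obtain ⟨v, hv⟩ := exists_ne (0 : V)
    exact ⟨1, 0, fun e => hv (by simpa using congrArg (fun f : Module.End (ZMod p) V => f v) e)⟩
  have hker : ∀ a : (ZMod p)[X], aeval σ a = 0 ∨ Function.Injective (aeval σ a) := by
    intro a
    rcases hirr (LinearMap.ker (aeval σ a)) (fun w hw => by
      rw [LinearMap.mem_ker] at hw ⊢
      have h : aeval σ (a * X) = aeval σ (X * a) := by rw [mul_comm]
      rw [map_mul, map_mul, aeval_X] at h
      have h2 := congrArg (fun f : Module.End (ZMod p) V => f w) h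
      simp only [Module.End.mul_apply] at h2
      rw [h2, hw, map_zero]) with h | h
    · exact Or.inr (LinearMap.ker_eq_bot.1 h)
    · exact Or.inl (LinearMap.ker_eq_top.1 h)
  have hmirr : Irreducible m := by
    refine irreducible_iff.2 ⟨minpoly.not_isUnit _ _, fun a b hab => ?_⟩
    have h0 : aeval σ a * aeval σ b = 0 := by rw [← map_mul, ← hab, minpoly.aeval]
    have hne : m ≠ 0 := hm1.ne_zero
    rw [hab] at hne
    rcases hker a with ha | ha
    · right
      obtain ⟨c, hc⟩ := minpoly.dvd (ZMod p) σ ha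
      refine IsUnit.of_mul_eq_one c ?_
      apply mul_left_cancel₀ (left_ne_zero_of_mul hne)
      rw [mul_one, ← mul_assoc, ← hab, ← hc]
    · left
      have hb : aeval σ b = 0 := LinearMap.ext fun v => ha (by
        have h2 := congrArg (fun f : Module.End (ZMod p) V => f v) h0
        simpa [Module.End.mul_apply] using h2)
      obtain ⟨c, hc⟩ := minpoly.dvd (ZMod p) σ hb
      refine IsUnit.of_mul_eq_one c ?_
      apply mul_right_cancel₀ (right_ne_zero_of_mul hne)
      rw [one_mul, mul_assoc, mul_comm c, ← mul_assoc]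
      rw [show a * b * c = b by rw [← hab, ← hc]]
  have hdeg := natDegree_of_irreducible hpq hmirr (minpoly.dvd _ _ (cyclotomic_eq_zero hσ hfix))
  haveI := Fact.mk hmirr
  obtain ⟨v, hv⟩ := exists_ne (0 : V)
  let φ : AdjoinRoot m →ₐ[ZMod p] Module.End (ZMod p) V :=
    Ideal.Quotient.liftₐ (Ideal.span {m}) (aeval σ) (fun a ha => by
      obtain ⟨c, rfl⟩ := Ideal.mem_span_singleton.1 ha
      rw [map_mul, hmdef, minpoly.aeval, zero_mul])
  let ev : AdjoinRoot m →ₗ[ZMod p] V := (LinearMap.applyₗ v).comp φ.toLinearMap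
  have hev : Function.Bijective ev := by
    constructor
    · rw [← LinearMap.ker_eq_bot, LinearMap.ker_eq_bot']
      intro z hz
      by_contra hz0
      apply hv
      have h1 : φ z⁻¹ (φ z v) = v := by
        rw [← Module.End.mul_apply, ← map_mul, inv_mul_cancel₀ hz0, map_one, Module.End.one_apply]
      rw [show φ z v = 0 from hz, map_zero] at h1
      exact h1.symm
    · rw [← LinearMap.range_eq_top]
      refine (hirr _ ?_).resolve_left ?_
      · rintro _ ⟨z, rfl⟩
        refine ⟨AdjoinRoot.root m * z, ?_⟩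
        show φ (AdjoinRoot.root m * z) v = σ (φ z v)
        rw [map_mul, Module.End.mul_apply]
        rw [show φ (AdjoinRoot.root m) = σ from aeval_X σ]
      · intro h
        rw [LinearMap.range_eq_bot] at h
        apply hv
        have := congrArg (fun f : AdjoinRoot m →ₗ[ZMod p] V => f 1) h
        simpa [ev] using this
  haveI : Module.Finite (ZMod p) (AdjoinRoot m) := (AdjoinRoot.powerBasis hm1.ne_zero).finite
  rw [← Nat.card_eq_of_bijective ev hev, Module.natCard_eq_pow_finrank (K := ZMod p), Nat.card_zmod,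
    (AdjoinRoot.powerBasis hm1.ne_zero).finrank, AdjoinRoot.powerBasis_dim, hdeg]

/-- Group version of `card_eq_of_irreducible`. -/
theorem card_eq_of_irreducible_group {p q : ℕ} [hp : Fact p.Prime] [hq : Fact q.Prime] {A : Type*}
    [CommGroup A] [Finite A] [Nontrivial A] (hpq : p ≠ q) (ψ : A →* A) (he : ∀ a : A, a ^ p = 1)
    (hσ : ∀ a, (⇑ψ)^[q] a = a) (hfix : ∀ a, ψ a = a → a = 1)
    (hirr : ∀ W : Subgroup A, (∀ w ∈ W, ψ w ∈ W) → W = ⊥ ∨ W = ⊤) :
    Nat.card A = p ^ orderOf (p : ZMod q) := by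
  haveI hmod : Module (ZMod p) (Additive A) := AddCommGroup.zmodModule (n := p) fun v =>
    Additive.toMul.injective (by simpa using he (Additive.toMul v))
  let σ : Module.End (ZMod p) (Additive A) := (MonoidHom.toAdditive ψ).toZModLinearMap p
  have hpow : ∀ (k : ℕ) (v : Additive A), (σ ^ k) v = Additive.ofMul ((⇑ψ)^[k] (Additive.toMul v)) := by
    intro k
    induction k with
    | zero => intro v; rfl
    | succ k ih =>
      intro v
      rw [pow_succ', Module.End.mul_apply, ih, Function.iterate_succ_apply']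
      rfl
  have h := card_eq_of_irreducible (p := p) (q := q) σ hpq
    (LinearMap.ext fun v => by rw [hpow, hσ]; rfl)
    (fun v hv => Additive.toMul.injective (hfix _ (congrArg Additive.toMul hv)))
    (fun W hW => by
      rcases hirr (AddSubgroup.toSubgroup' W.toAddSubgroup) (fun w hw => hW (Additive.ofMul w) hw) with h | h
      · left
        rw [eq_bot_iff]
        intro w hw
        exact (Submodule.mem_bot _).2 (Additive.toMul.injective
          (Subgroup.mem_bot.1 (h ▸ (hw : Additive.toMul w ∈ AddSubgroup.toSubgroup' W.toAddSubgroup))))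
      · right
        rw [eq_top_iff]
        intro w _
        exact (h ▸ Subgroup.mem_top (Additive.toMul w) :
          Additive.toMul w ∈ AddSubgroup.toSubgroup' W.toAddSubgroup))
  rwa [Nat.card_congr Additive.toMul] at h

variable {G : Type u} [Group G] [Finite G]

/-- `A` elementary abelian `q`, index `p`, minimal normal, `G` nonabelian: `|A| = q ^ ord_p(q)`. -/
theorem card_minimal_normal_index_prime {p q : ℕ} [hp : Fact p.Prime] (hq : q.Prime) (hpq : q ≠ p)
    (hna : ¬ IsMulCommutative G) (A : Subgroup G) [hAn : A.Normal] (hc : IsMulCommutative A)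
    (he : ∀ a ∈ A, a ^ q = 1) (hidx : A.index = p)
    (hmin : ∀ B : Subgroup G, B.Normal → B ≤ A → B = ⊥ ∨ B = A) :
    Nat.card A = q ^ orderOf (q : ZMod p) ∧
      ∃ x : G, orderOf x = p ∧ (∀ g : G, ∃ a ∈ A, ∃ n : ℤ, g = a * x ^ n) ∧
        ∀ a ∈ A, x * a * x⁻¹ = a → a = 1 := by
  haveI := Fact.mk hq
  haveI := hc
  obtain ⟨x, hx⟩ := exists_prime_orderOf_dvd_card' (G := G) p (hidx ▸ A.index_dvd_card)
  have hxA : x ∉ A := by
    intro h
    have h1 := he x h
    have := orderOf_dvd_of_pow_eq_one h1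
    rw [hx] at this
    exact hpq ((Nat.prime_dvd_prime_iff_eq hp.out hq).1 this).symm
  have hgen : ∀ g : G, ∃ a ∈ A, ∃ n : ℤ, g = a * x ^ n := by
    intro g
    have hc' : Nat.card (G ⧸ A) = p := by rw [← Subgroup.index_eq_card, hidx]
    have hne : QuotientGroup.mk' A x ≠ 1 := fun h => hxA ((QuotientGroup.eq_one_iff x).1 h)
    obtain ⟨n, hn⟩ := Subgroup.mem_zpowers_iff.1
      (mem_zpowers_of_prime_card hc' (g' := QuotientGroup.mk' A g) hne)
    refine ⟨g * (x ^ n)⁻¹, (QuotientGroup.eq_one_iff _).1 ?_, n, by group⟩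
    show QuotientGroup.mk' A (g * (x ^ n)⁻¹) = 1
    rw [map_mul, map_inv, map_zpow, hn, mul_inv_cancel]
  have hcomm : ∀ a ∈ A, ∀ b ∈ A, a * b = b * a := fun a ha b hb =>
    congrArg Subtype.val (mul_comm' (⟨a, ha⟩ : A) ⟨b, hb⟩)
  have hnorm : ∀ B : Subgroup G, B ≤ A → (∀ b ∈ B, x * b * x⁻¹ ∈ B) → B.Normal := by
    intro B hB hxB
    rw [← Subgroup.normalizer_eq_top_iff, eq_top_iff]
    intro g _
    obtain ⟨a, ha, n, rfl⟩ := hgen g
    refine mul_mem ?_ (zpow_mem ?_ n)
    · rw [Subgroup.mem_normalizer_iff]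
      intro b
      constructor
      · intro hb
        rwa [hcomm a ha b (hB hb), mul_inv_cancel_right]
      · intro hb
        have hb' := hB hb
        have : b = a⁻¹ * (a * b * a⁻¹) * a := by group
        rw [this, hcomm _ (A.inv_mem ha) _ hb', inv_mul_cancel_right]
        exact hb
    · rw [← conj_smul_eq_self_iff]
      refine Subgroup.eq_of_le_of_card_ge ?_ (card_conj_smul _ _).ge
      rintro _ ⟨b, hb, rfl⟩
      exact hxB b hb
  have hfix : ∀ a ∈ A, x * a * x⁻¹ = a → a = 1 := by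
    intro a ha hfa
    let B : Subgroup G := A ⊓ Subgroup.centralizer ({x} : Set G)
    have hBn : B.Normal := hnorm B inf_le_left fun b hb => by
      rwa [← Subgroup.mem_centralizer_singleton_iff.1 hb.2, mul_inv_cancel_right]
    rcases hmin B hBn inf_le_left with h | h
    · have : a ∈ B := ⟨ha, Subgroup.mem_centralizer_singleton_iff.2 (mul_inv_eq_iff_eq_mul.1 hfa).symm⟩
      rwa [h, Subgroup.mem_bot] at this
    · exfalso
      refine hna ⟨⟨fun g k => ?_⟩⟩
      obtain ⟨b, hb, n, rfl⟩ := hgen g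
      obtain ⟨c, hcA, j, rfl⟩ := hgen k
      have hx' : ∀ d ∈ A, Commute x d := fun d hd =>
        (Subgroup.mem_centralizer_singleton_iff.1 ((inf_eq_left.1 h) hd)).symm
      calc b * x ^ n * (c * x ^ j) = b * (x ^ n * c) * x ^ j := by group
        _ = b * c * (x ^ n * x ^ j) := by rw [((hx' c hcA).zpow_left n).eq]; group
        _ = c * b * (x ^ j * x ^ n) := by rw [hcomm b hb c hcA, ← zpow_add, ← zpow_add, add_comm]
        _ = c * (x ^ j * b) * x ^ n := by rw [((hx' b hb).zpow_left j).eq]; group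
        _ = _ := by group
  have hAne : A ≠ ⊥ := by
    intro h
    refine hna ⟨⟨fun g k => ?_⟩⟩
    obtain ⟨b, hb, n, rfl⟩ := hgen g
    obtain ⟨c, hcA, j, rfl⟩ := hgen k
    rw [h, Subgroup.mem_bot] at hb hcA
    rw [hb, hcA, one_mul, one_mul, ← zpow_add, ← zpow_add, add_comm]
  refine ⟨?_, x, hx, hgen, hfix⟩
  haveI : Nontrivial A := (Subgroup.nontrivial_iff_ne_bot A).2 hAne
  letI : CommGroup A := { (inferInstance : Group A) with mul_comm := mul_comm' }
  let ψ : A →* A :=
    { toFun := fun a => ⟨x * a * x⁻¹, hAn.conj_mem a a.2 x⟩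
      map_one' := by simp
      map_mul' := fun a b => Subtype.ext (by show x * ((a : G) * b) * x⁻¹ = _; simp [mul_assoc]) }
  have hψpow : ∀ (k : ℕ) (a : A), (((⇑ψ)^[k] a : A) : G) = x ^ k * (a : G) * (x ^ k)⁻¹ := by
    intro k
    induction k with
    | zero => intro a; simp
    | succ k ih =>
      intro a
      rw [Function.iterate_succ_apply']
      show x * (((⇑ψ)^[k] a : A) : G) * x⁻¹ = _
      rw [ih, pow_succ']
      group
  refine card_eq_of_irreducible_group hpq ψ (fun a => Subtype.ext (he a a.2)) (fun a => Subtype.ext ?_)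
    (fun a ha => Subtype.ext (hfix a a.2 (congrArg Subtype.val ha))) fun W hW => ?_
  · rw [hψpow, ← hx, pow_orderOf_eq_one]
    simp
  have hBn : (W.map A.subtype).Normal := hnorm _ (Subgroup.map_subtype_le _) (by
    rintro _ ⟨b, hb, rfl⟩
    exact ⟨ψ b, hW b hb, rfl⟩)
  rcases hmin _ hBn (Subgroup.map_subtype_le _) with h | h
  · left
    exact (Subgroup.map_eq_bot_iff_of_injective _ A.subtype_injective).1 h
  · right
    rw [eq_top_iff]
    intro w _
    obtain ⟨b, hb, hbw⟩ : (w : G) ∈ W.map A.subtype := h.symm ▸ w.2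
    rwa [← show b = w from Subtype.ext hbw]

/-- If every `p`-element normalized Sylow subgroup is centralized, conclude centralization. -/
theorem centralizes_of_sylows {x : G} (N : Subgroup G)
    (h : ∀ (r : ℕ) [Fact r.Prime], ∃ R : Sylow r N,
      (R : Subgroup N).map N.subtype ≤ Subgroup.centralizer ({x} : Set G)) :
    N ≤ Subgroup.centralizer ({x} : Set G) := by
  intro n hn
  set C := (Subgroup.centralizer ({x} : Set G)).comap N.subtype
  suffices hC : C = ⊤ by exact (hC ▸ Subgroup.mem_top (⟨n, hn⟩ : N) : (⟨n, hn⟩ : N) ∈ C)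
  rw [← Subgroup.index_eq_one]
  by_contra hne
  obtain ⟨r, hr, hrd⟩ := Nat.exists_prime_and_dvd hne
  haveI := Fact.mk hr
  obtain ⟨R, hR⟩ := h r
  exact R.not_dvd_index (hrd.trans (Subgroup.index_dvd_of_le (Subgroup.map_le_iff_le_comap.1 hR)))

/-- A subgroup of prime index above `N` when `G/N` is a `p`-group. -/
theorem exists_normal_index_prime_of_isPGroup_quotient {p : ℕ} [Fact p.Prime] (N : Subgroup G) [N.Normal]
    (hN : N ≠ ⊤) (hp : IsPGroup p (G ⧸ N)) :
    ∃ L : Subgroup G, L.Normal ∧ N ≤ L ∧ L.index = p := by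
  haveI : Nontrivial (G ⧸ N) := QuotientGroup.nontrivial_iff.2 hN
  obtain ⟨M, hM, -⟩ := (eq_top_or_exists_le_coatom (⊥ : Subgroup (G ⧸ N))).resolve_left bot_ne_top
  obtain ⟨hMn, hMi⟩ := Cfsg.Lib.Transfer.coatom_normal_index hp hM
  refine ⟨M.comap (QuotientGroup.mk' N), hMn.comap _, fun n hn => ?_, ?_⟩
  · rw [Subgroup.mem_comap, show QuotientGroup.mk' N n = 1 from (QuotientGroup.eq_one_iff n).2 hn]
    exact one_mem _
  · rw [Subgroup.index_comap_of_surjective _ (QuotientGroup.mk'_surjective N), hMi]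

/-- Structure from a `p'` minimal normal subgroup of index `p`. -/
theorem structure_of_centralizes {p : ℕ} [hp : Fact p.Prime] (N : Subgroup G) [hNn : N.Normal]
    (hN1 : N ≠ ⊥) (hmin : ∀ B : Subgroup G, B.Normal → B ≤ N → B = ⊥ ∨ B = N)
    (hpN : ¬ p ∣ Nat.card N) (hidx : N.index = p) (x : G) (hx : orderOf x = p)
    (hnc : ¬ N ≤ Subgroup.centralizer ({x} : Set G))
    (hR : ∀ R : Subgroup G, R ≤ N → R ≠ N → x ∈ Subgroup.normalizer (R : Set G) →
      R ≤ Subgroup.centralizer ({x} : Set G)) :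
    ∃ q : ℕ, q.Prime ∧ q ≠ p ∧ Nat.card G = p * q ^ orderOf (q : ZMod p) ∧
      ∃ A : Subgroup G, A.Normal ∧ Nat.card ↥A = q ^ orderOf (q : ZMod p) ∧
        (IsMulCommutative A ∧ ∀ a ∈ A, a ^ q = 1) ∧
        ∀ B : Subgroup G, B.Normal → B ≤ A → B = ⊥ ∨ B = A := by
  set P := Subgroup.zpowers x with hP
  have hPN : P ≤ Subgroup.normalizer (N : Set G) := by
    rw [Subgroup.normalizer_eq_top_iff.2 hNn]; exact le_top
  have hcop : (Nat.card P).Coprime (Nat.card N) := by
    rw [hP, Nat.card_zpowers, hx]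
    exact hp.out.coprime_iff_not_dvd.2 hpN
  have hsolv : Group.IsSolvable P ∨ Group.IsSolvable N := by
    have : IsPGroup p P := IsPGroup.of_card (n := 1) (by rw [hP, Nat.card_zpowers, hx, pow_one])
    haveI : Group.IsNilpotent P := this.isNilpotent
    exact Or.inl inferInstance
  obtain ⟨q, hq, hqN⟩ : ∃ q : ℕ, q.Prime ∧ IsPGroup q N := by
    by_contra hcon
    push_neg at hcon
    refine hnc (centralizes_of_sylows N fun r hr => ?_)
    obtain ⟨R, hRinv⟩ := exists_invariant_sylow P N hPN hcop hsolv r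
    refine ⟨R, hR _ (Subgroup.map_subtype_le _) (fun heq => ?_) (hRinv (Subgroup.mem_zpowers x))⟩
    apply hcon r hr.out
    rw [← heq]
    exact R.isPGroup'.map _
  haveI := Fact.mk hq
  have hqp : q ≠ p := by
    rintro rfl
    apply hpN
    obtain ⟨k, hk⟩ := IsPGroup.iff_card.1 hqN
    rcases k with _ | k
    · exact absurd (Subgroup.eq_bot_of_card_eq N (by simpa using hk)) hN1
    · rw [hk]; exact dvd_pow_self _ (Nat.succ_ne_zero k)
  have hsolN : Group.IsSolvable N := by
    haveI : Group.IsNilpotent N := hqN.isNilpotent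
    infer_instance
  obtain ⟨hc, r, hr, hrN, hexp⟩ := minimal_normal_elementary hN1 hsolN hmin
  have hrq : r = q := by
    haveI := Fact.mk hr
    by_contra hne
    obtain ⟨z, hz, hz1⟩ : ∃ z ∈ N, z ≠ 1 := by
      by_contra h
      push_neg at h
      exact hN1 (eq_bot_iff.2 fun a ha => Subgroup.mem_bot.2 (h a ha))
    obtain ⟨k, hk⟩ := IsPGroup.iff_orderOf.1 hqN ⟨z, hz⟩
    rw [← Subgroup.orderOf_coe] at hk
    exact hz1 (orderOf_eq_one_iff.1 (Nat.eq_one_of_dvd_coprimes
      (((Nat.coprime_primes hr hq).2 hne).pow_right k) (orderOf_dvd_of_pow_eq_one (hexp z hz)) (hk ▸ dvd_rfl)))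
  subst hrq
  have hna : ¬ IsMulCommutative G := fun h => hnc fun n _ =>
    Subgroup.mem_centralizer_singleton_iff.2 (h.is_comm.comm n x)
  have hcard := (card_minimal_normal_index_prime hq hqp hna N hc hexp hidx hmin).1
  refine ⟨r, hq, hqp, ?_, N, hNn, hcard, ⟨hc, hexp⟩, hmin⟩
  rw [← N.card_mul_index, hidx, hcard, mul_comm]

end Cfsg.Lib.Solv
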