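import Mathlib
import Cfsg.Agent.Lib.Solv.MinimalNonNilpotent

/-!
Nilpotent subgroups of projective linear groups containing a regular unipotent element.
-/

set_option autoImplicit false

namespace Cfsg.Lib.Solv.NilCover

open Matrix

noncomputable section

variable {F : Type*} [Field F] {n : ℕ}

/-- The nilpotent shift. -/
def shift (F : Type*) [Field F] (n : ℕ) : Matrix (Fin n) (Fin n) F :=
  Matrix.of fun j k => if (k : ℕ) = j + 1 then 1 else 0

theorem shift_mul_apply (M : Matrix (Fin n) (Fin n) F) (j k : Fin n) :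
    (shift F n * M) j k = if h : (j : ℕ) + 1 < n then M ⟨j + 1, h⟩ k else 0 := by
  rw [Matrix.mul_apply]
  split_ifs with h
  · rw [Finset.sum_eq_single ⟨(j : ℕ) + 1, h⟩]
    · simp [shift]
    · intro b _ hb
      have : (b : ℕ) ≠ j + 1 := fun e => hb (Fin.ext e)
      simp [shift, this]
    · exact fun h' => absurd (Finset.mem_univ _) h'
  · refine Finset.sum_eq_zero fun b _ => ?_
    have : (b : ℕ) ≠ j + 1 := fun e => h (e ▸ b.2)
    simp [shift, this]

theorem mul_shift_apply (M : Matrix (Fin n) (Fin n) F) (j k : Fin n) :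
    (M * shift F n) j k = if 0 < (k : ℕ) then M j ⟨k - 1, by omega⟩ else 0 := by
  rw [Matrix.mul_apply]
  split_ifs with h
  · rw [Finset.sum_eq_single ⟨(k : ℕ) - 1, by omega⟩]
    · simp [shift, Nat.sub_add_cancel h]
    · intro b _ hb
      have : (k : ℕ) ≠ b + 1 := fun e => hb (Fin.ext (by simp only; omega))
      simp [shift, this]
    · exact fun h' => absurd (Finset.mem_univ _) h'
  · refine Finset.sum_eq_zero fun b _ => ?_
    have : (k : ℕ) ≠ b + 1 := by omega
    simp [shift, this]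

theorem shift_mulVec_apply (v : Fin n → F) (j : Fin n) :
    (shift F n *ᵥ v) j = if h : (j : ℕ) + 1 < n then v ⟨j + 1, h⟩ else 0 := by
  simp only [Matrix.mulVec, dotProduct]
  split_ifs with h
  · rw [Finset.sum_eq_single ⟨(j : ℕ) + 1, h⟩]
    · simp [shift]
    · intro b _ hb
      have : (b : ℕ) ≠ j + 1 := fun e => hb (Fin.ext e)
      simp [shift, this]
    · exact fun h' => absurd (Finset.mem_univ _) h'
  · refine Finset.sum_eq_zero fun b _ => ?_
    have : (b : ℕ) ≠ j + 1 := fun e => h (e ▸ b.2)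
    simp [shift, this]

theorem strictUpper_pow (K : Matrix (Fin n) (Fin n) F)
    (hK : ∀ j k : Fin n, k ≤ j → K j k = 0) : K ^ n = 0 := by
  have key : ∀ m : ℕ, ∀ j k : Fin n, (k : ℕ) < j + m → (K ^ m) j k = 0 := by
    intro m
    induction m with
    | zero =>
      intro j k h
      rw [pow_zero, Matrix.one_apply_ne]
      intro e; subst e; omega
    | succ m ih =>
      intro j k h
      rw [pow_succ, Matrix.mul_apply]
      refine Finset.sum_eq_zero fun b _ => ?_
      by_cases hb : (b : ℕ) < j + m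
      · rw [ih j b hb, zero_mul]
      · rw [hK b k (Fin.le_def.2 (by omega)), mul_zero]
  ext j k
  exact key n j k (by omega)

theorem shift_strictUpper : ∀ j k : Fin n, k ≤ j → shift F n j k = 0 := fun j k h => by
  have : (k : ℕ) ≠ j + 1 := by rw [Fin.le_def] at h; omega
  simp [shift, this]

theorem shift_pow_n : shift F n ^ n = 0 := strictUpper_pow _ shift_strictUpper

theorem isNilpotent_strictUpper (K : Matrix (Fin n) (Fin n) F)
    (hK : ∀ j k : Fin n, k ≤ j → K j k = 0) : IsNilpotent K := ⟨n, strictUpper_pow K hK⟩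

theorem shift_isNilpotent : IsNilpotent (shift F n) := ⟨n, shift_pow_n⟩

theorem toeplitz {M : Matrix (Fin n) (Fin n) F} (h : M * shift F n = shift F n * M) :
    ∀ j k : Fin n, M j k = if (j : ℕ) ≤ k then M ⟨0, j.pos⟩ ⟨(k : ℕ) - j, by omega⟩ else 0 := by
  suffices ∀ (a : ℕ) (ha : a < n) (k : Fin n), M ⟨a, ha⟩ k =
      if a ≤ (k : ℕ) then M ⟨0, by omega⟩ ⟨(k : ℕ) - a, by omega⟩ else 0 from
    fun j k => this j j.2 k
  intro a
  induction a with
  | zero => intro ha k; simp
  | succ a ih =>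
    intro ha k
    have h1 := congrFun (congrFun h ⟨a, by omega⟩) k
    rw [shift_mul_apply, mul_shift_apply, dif_pos ha] at h1
    rw [← h1]
    by_cases hk : 0 < (k : ℕ)
    · rw [if_pos hk, ih]
      by_cases hle : a + 1 ≤ (k : ℕ)
      · rw [if_pos hle, if_pos (show a ≤ ((⟨(k : ℕ) - 1, by omega⟩ : Fin n) : ℕ) by simp only; omega)]
        congr 2
        simp only; omega
      · rw [if_neg hle, if_neg (show ¬ a ≤ ((⟨(k : ℕ) - 1, by omega⟩ : Fin n) : ℕ) by simp only; omega)]
    · rw [if_neg hk, if_neg (by omega)]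

theorem eq_zero_of_smul_one_isNilpotent [NeZero n] {c : F}
    (h : IsNilpotent (c • (1 : Matrix (Fin n) (Fin n) F))) : c = 0 := by
  obtain ⟨m, hm⟩ := h
  rw [smul_pow, one_pow] at hm
  have := congrFun (congrFun hm 0) 0
  simp at this
  exact this.1

theorem scalar_eq_zero [NeZero n] {M K : Matrix (Fin n) (Fin n) F} {c : F} (hM : IsNilpotent M)
    (hK : IsNilpotent K) (h : M = c • 1 + K) : c = 0 := by
  refine eq_zero_of_smul_one_isNilpotent (n := n) ?_
  have e : c • (1 : Matrix (Fin n) (Fin n) F) = M - K := by rw [h, add_sub_cancel_right]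
  rw [e]
  refine Commute.isNilpotent_sub ?_ hM hK
  rw [h]
  exact ((Commute.one_left K).smul_left c).add_left (Commute.refl K)

theorem isNilpotent_conj (g : GL (Fin n) F) {K : Matrix (Fin n) (Fin n) F} (hK : IsNilpotent K) :
    IsNilpotent ((g : Matrix (Fin n) (Fin n) F) * K * (↑g⁻¹ : Matrix (Fin n) (Fin n) F)) := by
  obtain ⟨m, hm⟩ := hK
  refine ⟨m, ?_⟩
  rw [Units.conj_pow, hm, mul_zero, zero_mul]

/-- The centre of `GL` consists of the scalar matrices. -/
theorem mem_center_iff_smul [NeZero n] {g : GL (Fin n) F} :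
    g ∈ Subgroup.center (GL (Fin n) F) ↔ ∃ c : F, (g : Matrix (Fin n) (Fin n) F) = c • 1 := by
  rw [Matrix.GeneralLinearGroup.mem_center_iff_val_mem_range_scalar]
  simp only [Set.mem_range, Matrix.scalar_apply, ← Matrix.smul_one_eq_diagonal, eq_comm]

/-- Commuting projective images commute up to a scalar. -/
theorem exists_smul_of_commute [NeZero n] {a z : GL (Fin n) F}
    (h : QuotientGroup.mk' (Subgroup.center (GL (Fin n) F)) a *
        QuotientGroup.mk' (Subgroup.center (GL (Fin n) F)) z =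
      QuotientGroup.mk' (Subgroup.center (GL (Fin n) F)) z *
        QuotientGroup.mk' (Subgroup.center (GL (Fin n) F)) a) :
    ∃ c : F, c ≠ 0 ∧ (a : Matrix (Fin n) (Fin n) F) * z =
      c • ((z : Matrix (Fin n) (Fin n) F) * a) := by
  rw [← map_mul, ← map_mul, QuotientGroup.mk'_eq_mk'] at h
  obtain ⟨w, hw, hwe⟩ := h
  obtain ⟨c, hc⟩ := mem_center_iff_smul.1 (inv_mem hw)
  refine ⟨c, fun h0 => ?_, ?_⟩
  · rw [h0, zero_smul] at hc
    exact (w⁻¹).ne_zero hc
  · have e : a * z = z * a * w⁻¹ := by rw [← hwe]; group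
    have := congrArg Units.val e
    simp only [Units.val_mul] at this
    rw [this, hc, mul_smul_comm, mul_one]

/-- The core computation. -/
theorem core [NeZero n] {z : GL (Fin n) F} (hz : z ∉ Subgroup.center (GL (Fin n) F)) {d : F}
    (h : (z : Matrix (Fin n) (Fin n) F) * (1 + shift F n) =
      d • ((1 + shift F n) * (z : Matrix (Fin n) (Fin n) F))) :
    ∃ s : ℕ, 0 < s ∧ s < n ∧ ∀ a : GL (Fin n) F,
      (∃ c : F, (a : Matrix (Fin n) (Fin n) F) * z = c • ((z : Matrix (Fin n) (Fin n) F) * a)) →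
      ∀ v : Fin n → F, (∀ j : Fin n, s ≤ (j : ℕ) → v j = 0) →
        ∀ j : Fin n, s ≤ (j : ℕ) → ((a : Matrix (Fin n) (Fin n) F) *ᵥ v) j = 0 := by
  set Z := (z : Matrix (Fin n) (Fin n) F) with hZ
  set N := shift F n with hN
  have h1 : Z * N * (↑z⁻¹ : Matrix (Fin n) (Fin n) F) = (d - 1) • 1 + d • N := by
    have h2 := congrArg (· * (↑z⁻¹ : Matrix (Fin n) (Fin n) F)) h
    simp only [mul_add, mul_one, add_mul, one_mul, smul_mul_assoc, hZ, Units.mul_inv, mul_assoc,
      smul_add] at h2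
    simp only [hZ, sub_smul, one_smul, mul_assoc]
    rw [eq_sub_of_add_eq' h2]
    abel
  have hd : d = 1 := sub_eq_zero.1
    (scalar_eq_zero (isNilpotent_conj z shift_isNilpotent) (shift_isNilpotent.smul d) h1)
  have hcomm : Z * N = N * Z := by
    subst hd
    simpa [mul_add, add_mul] using h
  have ht := toeplitz hcomm
  set a0 := Z 0 0 with ha0
  have hdiag : ∀ j : Fin n, Z j j = a0 := fun j => by rw [ht j j, if_pos le_rfl]; congr 1; ext; simp
  have hlow : ∀ j k : Fin n, (k : ℕ) < j → Z j k = 0 := fun j k h => by rw [ht j k, if_neg (by omega)]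
  have hK : IsNilpotent (Z - a0 • 1) := isNilpotent_strictUpper _ fun j k hkj => by
    rcases (Fin.le_def.1 hkj).lt_or_eq with h | h
    · have hne : j ≠ k := fun e => by subst e; omega
      simp [hlow j k h, Matrix.one_apply_ne hne]
    · obtain rfl : k = j := Fin.ext h
      simp [hdiag k]
  have hex : ∃ s : Fin n, (s : ℕ) ≠ 0 ∧ Z 0 s ≠ 0 := by
    by_contra! hcon
    refine hz (mem_center_iff_smul.2 ⟨a0, ?_⟩)
    ext j k
    rcases lt_trichotomy (j : ℕ) k with hlt | heq | hgt
    · have hne : j ≠ k := fun e => by subst e; omega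
      show Z j k = _
      rw [ht j k, if_pos hlt.le]
      simp only [Matrix.smul_apply, Matrix.one_apply_ne hne, smul_zero]
      exact hcon ⟨(k : ℕ) - j, by omega⟩ (by simp only; omega)
    · obtain rfl : j = k := Fin.ext heq
      show Z j j = _
      simp [hdiag j]
    · have hne : j ≠ k := fun e => by subst e; omega
      show Z j k = _
      simp [hlow j k hgt, Matrix.one_apply_ne hne]
  classical
  have hfind := Nat.find_spec (p := fun s => ∃ h : s < n, s ≠ 0 ∧ Z 0 ⟨s, h⟩ ≠ 0)
    (let ⟨s, hs⟩ := hex; ⟨s, s.2, hs⟩)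
  set s := Nat.find (p := fun s => ∃ h : s < n, s ≠ 0 ∧ Z 0 ⟨s, h⟩ ≠ 0)
    (let ⟨s, hs⟩ := hex; ⟨s, s.2, hs⟩) with hs
  obtain ⟨hsn, hs0, hsc⟩ := hfind
  have hlt : ∀ r : Fin n, (r : ℕ) ≠ 0 → (r : ℕ) < s → Z 0 r = 0 := fun r hr0 hrs => by
    by_contra hne
    exact Nat.find_min _ (hs ▸ hrs) ⟨r.2, hr0, hne⟩
  have hker : ∀ v : Fin n → F, Z *ᵥ v = a0 • v ↔ ∀ j : Fin n, s ≤ (j : ℕ) → v j = 0 := by
    intro v
    constructor
    · intro hv
      suffices ∀ m : ℕ, ∀ j : Fin n, s ≤ (j : ℕ) → n ≤ j + m → v j = 0 from fun j hj => this n j hj (by omega)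
      intro m
      induction m with
      | zero => intro j _ hj; have := j.2; omega
      | succ m ih =>
        intro j hsj hjm
        set i : Fin n := ⟨(j : ℕ) - s, by omega⟩ with hi
        have hne : i ≠ j := fun e => by
          have := congrArg Fin.val e
          simp only [hi] at this; omega
        have hrow := congrFun hv i
        simp only [Matrix.mulVec, dotProduct, Pi.smul_apply, smul_eq_mul] at hrow
        rw [← Finset.sum_subset (Finset.subset_univ {i, j}) (fun k _ hk => ?_),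
          Finset.sum_pair hne, hdiag i] at hrow
        · have e : Z i j = Z 0 ⟨s, hsn⟩ := by
            rw [ht i j, if_pos (by simp only [hi]; omega)]
            congr 1
            ext; simp only [hi]; omega
          rw [e, add_eq_left, mul_eq_zero] at hrow
          exact hrow.resolve_left hsc
        · simp only [Finset.mem_insert, Finset.mem_singleton, not_or] at hk
          rcases lt_trichotomy (k : ℕ) i with h' | h' | h'
          · rw [hlow i k h', zero_mul]
          · exact absurd (Fin.ext h') hk.1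
          · rcases lt_trichotomy (k : ℕ) j with h'' | h'' | h''
            · rw [ht i k, if_pos h'.le]
              rw [show Z ⟨0, i.pos⟩ = Z 0 by congr 1, hlt ⟨(k : ℕ) - i, by omega⟩ (by simp only; omega)
                (by simp only [hi] at h' ⊢; omega), zero_mul]
            · exact absurd (Fin.ext h'') hk.2
            · rw [ih k (by omega) (by omega), mul_zero]
    · intro hv
      funext i
      simp only [Matrix.mulVec, dotProduct, Pi.smul_apply, smul_eq_mul]
      rw [Finset.sum_eq_single i, hdiag i]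
      · intro k _ hk
        rcases lt_trichotomy (k : ℕ) i with h' | h' | h'
        · rw [hlow i k h', zero_mul]
        · exact absurd (Fin.ext h') hk
        · by_cases hks : (k : ℕ) - i < s
          · rw [ht i k, if_pos h'.le, show Z ⟨0, i.pos⟩ = Z 0 by congr 1,
              hlt ⟨(k : ℕ) - i, by omega⟩ (by simp only; omega) hks, zero_mul]
          · rw [hv k (by omega), mul_zero]
      · exact fun h' => absurd (Finset.mem_univ _) h'
  have ha0ne : a0 ≠ 0 := fun h0 => by
    rw [h0, zero_smul, sub_zero] at hK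
    exact hK.not_isUnit z.isUnit
  refine ⟨s, Nat.pos_of_ne_zero hs0, hsn, fun a ⟨c, hc⟩ v hv => (hker _).1 ?_⟩
  have h2 : (a : Matrix (Fin n) (Fin n) F) * (Z - a0 • 1) * (↑a⁻¹ : Matrix (Fin n) (Fin n) F) =
      (c * a0 - a0) • 1 + c • (Z - a0 • 1) := by
    have hc' : (a : Matrix (Fin n) (Fin n) F) * Z = c • (Z * (a : Matrix (Fin n) (Fin n) F)) := hc
    rw [mul_sub, sub_mul, hc']
    simp only [smul_mul_assoc, mul_smul_comm, mul_one, Units.mul_inv, mul_assoc, smul_sub, smul_smul,
      sub_smul]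
    abel
  have hc1 : c = 1 := by
    have h3 := scalar_eq_zero (isNilpotent_conj a hK) (hK.smul c) h2
    rw [sub_eq_zero] at h3
    exact mul_right_cancel₀ ha0ne (h3.trans (one_mul a0).symm)
  subst hc1
  rw [one_smul] at hc
  rw [Matrix.mulVec_mulVec, ← hc, ← Matrix.mulVec_mulVec, (hker v).2 hv, Matrix.mulVec_smul]

/-- The subspace of level `i` of the flag of `g`. -/
def W (g : GL (Fin n) F) (i : ℕ) : Submodule F (Fin n → F) where
  carrier := {v | ∀ j : Fin n, i ≤ (j : ℕ) → ((↑g⁻¹ : Matrix (Fin n) (Fin n) F) *ᵥ v) j = 0}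
  zero_mem' := fun j _ => by simp
  add_mem' := fun {u v} hu hv j hj => by
    show ((↑g⁻¹ : Matrix (Fin n) (Fin n) F) *ᵥ (u + v)) j = 0
    rw [Matrix.mulVec_add, Pi.add_apply, hu j hj, hv j hj, add_zero]
  smul_mem' := fun c {v} hv j hj => by
    show ((↑g⁻¹ : Matrix (Fin n) (Fin n) F) *ᵥ (c • v)) j = 0
    rw [Matrix.mulVec_smul, Pi.smul_apply, hv j hj, smul_zero]

theorem mem_W {g : GL (Fin n) F} {i : ℕ} {v : Fin n → F} :
    v ∈ W g i ↔ ∀ j : Fin n, i ≤ (j : ℕ) → ((↑g⁻¹ : Matrix (Fin n) (Fin n) F) *ᵥ v) j = 0 :=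
  Iff.rfl

theorem inv_mulVec_mulVec (g : GL (Fin n) F) (v : Fin n → F) :
    (↑g⁻¹ : Matrix (Fin n) (Fin n) F) *ᵥ ((g : Matrix (Fin n) (Fin n) F) *ᵥ v) = v := by
  rw [Matrix.mulVec_mulVec, Units.inv_mul, Matrix.one_mulVec]

theorem mulVec_inv_mulVec (g : GL (Fin n) F) (v : Fin n → F) :
    (g : Matrix (Fin n) (Fin n) F) *ᵥ ((↑g⁻¹ : Matrix (Fin n) (Fin n) F) *ᵥ v) = v := by
  rw [Matrix.mulVec_mulVec, Units.mul_inv, Matrix.one_mulVec]

/-- The standard regular unipotent element. -/
def u1 (F : Type*) [Field F] (n : ℕ) : GL (Fin n) F :=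
  (shift_isNilpotent.isUnit_one_add (r := shift F n)).unit

@[simp] theorem coe_u1 : (u1 F n : Matrix (Fin n) (Fin n) F) = 1 + shift F n := rfl

/-- Conjugate regular unipotent element. -/
def uu (g : GL (Fin n) F) : GL (Fin n) F := g * u1 F n * g⁻¹

theorem inv_uu_mulVec (g : GL (Fin n) F) (v : Fin n → F) :
    (↑g⁻¹ : Matrix (Fin n) (Fin n) F) *ᵥ ((uu g : Matrix (Fin n) (Fin n) F) *ᵥ v) =
      (↑g⁻¹ : Matrix (Fin n) (Fin n) F) *ᵥ v + shift F n *ᵥ ((↑g⁻¹ : Matrix (Fin n) (Fin n) F) *ᵥ v) := by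
  rw [uu, Units.val_mul, Units.val_mul, coe_u1, ← Matrix.mulVec_mulVec, ← Matrix.mulVec_mulVec,
    inv_mulVec_mulVec, Matrix.add_mulVec, Matrix.one_mulVec]

theorem det_u1 : Matrix.det ((u1 F n : Matrix (Fin n) (Fin n) F)) = 1 := by
  rw [coe_u1, Matrix.det_of_upperTriangular]
  · refine Finset.prod_eq_one fun i _ => ?_
    simp [shift]
  · intro i j hij
    have h1 : (j : ℕ) ≠ i + 1 := by simp only [id_eq, Fin.lt_def] at hij; omega
    have h2 : i ≠ j := fun e => by subst e; exact lt_irrefl _ hij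
    simp [shift, h1, Matrix.one_apply_ne h2]

theorem uu_det (g : GL (Fin n) F) : Matrix.det ((uu g : Matrix (Fin n) (Fin n) F)) = 1 := by
  rw [uu, Units.val_mul, Units.val_mul, Matrix.det_units_conj, det_u1]

theorem uu_not_center (hn : 2 ≤ n) (g : GL (Fin n) F) : uu g ∉ Subgroup.center (GL (Fin n) F) := by
  haveI : NeZero n := ⟨by omega⟩
  intro h
  have h1 : u1 F n ∈ Subgroup.center (GL (Fin n) F) := by
    have := Subgroup.Normal.conj_mem inferInstance (uu g) h g⁻¹
    simpa [uu, mul_assoc] using this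
  obtain ⟨c, hc⟩ := mem_center_iff_smul.1 h1
  have := congrFun (congrFun hc ⟨0, by omega⟩) ⟨1, by omega⟩
  simp [shift] at this

/-- The matrices preserving a subspace. -/
def stabGL [Finite F] (U : Submodule F (Fin n → F)) : Subgroup (GL (Fin n) F) where
  carrier := {a | ∀ v ∈ U, (a : Matrix (Fin n) (Fin n) F) *ᵥ v ∈ U}
  one_mem' := fun v hv => by simpa using hv
  mul_mem' := fun {a b} ha hb v hv => by
    rw [Units.val_mul, ← Matrix.mulVec_mulVec]; exact ha _ (hb v hv)
  inv_mem' := fun {a} ha => by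
    have : Finite (GL (Fin n) F) := inferInstance
    have hpow : ∀ m : ℕ, ∀ v ∈ U, ((a ^ m : GL (Fin n) F) : Matrix (Fin n) (Fin n) F) *ᵥ v ∈ U := by
      intro m
      induction m with
      | zero => intro v hv; simpa using hv
      | succ m ih =>
        intro v hv
        rw [pow_succ', Units.val_mul, ← Matrix.mulVec_mulVec]; exact ha _ (ih v hv)
    intro v hv
    have h1 : a⁻¹ = a ^ (orderOf a - 1) := by
      rw [inv_eq_iff_mul_eq_one, ← pow_succ', Nat.sub_add_cancel (orderOf_pos a), pow_orderOf_eq_one]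
    rw [h1]; exact hpow _ v hv

theorem mem_stabGL [Finite F] {U : Submodule F (Fin n → F)} {a : GL (Fin n) F} :
    a ∈ stabGL U ↔ ∀ v ∈ U, (a : Matrix (Fin n) (Fin n) F) *ᵥ v ∈ U :=
  Iff.rfl

theorem center_le_stabGL [Finite F] [NeZero n] (U : Submodule F (Fin n → F)) :
    Subgroup.center (GL (Fin n) F) ≤ stabGL U := by
  intro a ha v hv
  obtain ⟨c, hc⟩ := mem_center_iff_smul.1 ha
  rw [hc, Matrix.smul_mulVec, Matrix.one_mulVec]
  exact U.smul_mem c hv

theorem uu_mem_stabGL [Finite F] (g : GL (Fin n) F) (i : ℕ) : uu g ∈ stabGL (W g i) := by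
  intro v hv j hj
  rw [inv_uu_mulVec, Pi.add_apply, hv j hj, shift_mulVec_apply, zero_add]
  split_ifs with h
  · exact hv _ (by simp only; omega)
  · rfl

variable (G : Subgroup (GL (Fin n) F ⧸ Subgroup.center (GL (Fin n) F)))

/-- The trace on `G` of the stabilizer of a subspace. -/
def stabG [Finite F] (U : Submodule F (Fin n → F)) : Subgroup ↥G :=
  ((stabGL U).map (QuotientGroup.mk' (Subgroup.center (GL (Fin n) F)))).subgroupOf G

theorem mem_stabG [Finite F] [NeZero n] {U : Submodule F (Fin n → F)} {x : ↥G} {a : GL (Fin n) F}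
    (ha : QuotientGroup.mk' (Subgroup.center (GL (Fin n) F)) a = (x : GL (Fin n) F ⧸ _)) :
    x ∈ stabG G U ↔ ∀ v ∈ U, (a : Matrix (Fin n) (Fin n) F) *ᵥ v ∈ U := by
  rw [stabG, Subgroup.mem_subgroupOf, ← ha, ← mem_stabGL]
  constructor
  · rintro ⟨b, hb, hbe⟩
    rw [QuotientGroup.mk'_eq_mk'] at hbe
    obtain ⟨w, hw, rfl⟩ := hbe
    exact mul_mem hb (center_le_stabGL U hw)
  · exact fun h => Subgroup.mem_map_of_mem _ h

variable {G}

theorem mem_G_of_det {m : GL (Fin n) F}
    (hG : ((Matrix.SpecialLinearGroup.toGL : Matrix.SpecialLinearGroup (Fin n) F →* GL (Fin n) F).range).map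
      (QuotientGroup.mk' (Subgroup.center (GL (Fin n) F))) ≤ G)
    (hm : Matrix.det (m : Matrix (Fin n) (Fin n) F) = 1) :
    QuotientGroup.mk' (Subgroup.center (GL (Fin n) F)) m ∈ G :=
  hG (Subgroup.mem_map_of_mem _ ⟨⟨(m : Matrix (Fin n) (Fin n) F), hm⟩, Units.ext rfl⟩)

/-- A nilpotent subgroup containing a regular unipotent element stabilizes a level of its flag. -/
theorem member_fix [Finite F] (hn : 2 ≤ n) {g : GL (Fin n) F} {A : Subgroup ↥G} (hA : Group.IsNilpotent A)
    {x : ↥G} (hxA : x ∈ A)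
    (hx : (x : GL (Fin n) F ⧸ _) = QuotientGroup.mk' (Subgroup.center (GL (Fin n) F)) (uu g)) :
    ∃ s : ℕ, 0 < s ∧ s < n ∧ A ≤ stabG G (W g s) := by
  haveI : NeZero n := ⟨by omega⟩
  set q := QuotientGroup.mk' (Subgroup.center (GL (Fin n) F)) with hq
  have hx1 : x ≠ 1 := fun e => uu_not_center hn g ((QuotientGroup.eq_one_iff _).1 (by
    show q (uu g) = 1
    rw [← hx, e, Subgroup.coe_one]))
  haveI : Nontrivial A := ⟨⟨x, hxA⟩, 1, fun e => hx1 (congrArg Subtype.val e)⟩
  haveI := hA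
  obtain ⟨z, hz, hz1⟩ := (Subgroup.bot_or_exists_ne_one (Subgroup.center A)).resolve_left
    (Group.IsNilpotent.center_ne_bot A)
  obtain ⟨zl, hzl⟩ := QuotientGroup.mk'_surjective (Subgroup.center (GL (Fin n) F)) ((z : ↥G) : GL (Fin n) F ⧸ _)
  set z2 := g⁻¹ * zl * g with hz2
  have hz2n : z2 ∉ Subgroup.center (GL (Fin n) F) := by
    intro h
    have h1 := Subgroup.Normal.conj_mem inferInstance z2 h g
    rw [show g * z2 * g⁻¹ = zl by rw [hz2]; group, ← QuotientGroup.eq_one_iff] at h1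
    exact hz1 (Subtype.ext (Subtype.ext (by rw [← hzl]; exact h1)))
  have hcomm : ∀ a : A, q zl * ((a : ↥G) : GL (Fin n) F ⧸ _) = ((a : ↥G) : GL (Fin n) F ⧸ _) * q zl := by
    intro a
    rw [hzl]
    exact congrArg (fun t : A => t.1.1) (Subgroup.mem_center_iff.1 hz a).symm
  obtain ⟨d, -, hd⟩ := exists_smul_of_commute (a := z2) (z := u1 F n) (by
    have h1 := hcomm ⟨x, hxA⟩
    simp only [hx] at h1
    have h2 : q z2 * q (u1 F n) = (q g)⁻¹ * (q zl * q (uu g)) * q g := by
      simp only [hz2, uu, map_mul, map_inv]; group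
    show q z2 * q (u1 F n) = q (u1 F n) * q z2
    rw [h2, h1]
    simp only [hz2, uu, map_mul, map_inv]; group)
  obtain ⟨s, hs0, hsn, hfix⟩ := core hz2n hd
  refine ⟨s, hs0, hsn, fun a ha => ?_⟩
  obtain ⟨al, hal⟩ := QuotientGroup.mk'_surjective (Subgroup.center (GL (Fin n) F)) (a : GL (Fin n) F ⧸ _)
  rw [mem_stabG G hal]
  obtain ⟨c, -, hc⟩ := exists_smul_of_commute (a := g⁻¹ * al * g) (z := z2) (by
    have h1 : q zl * q al = q al * q zl := by rw [hq] at hcomm ⊢; rw [hal]; exact hcomm ⟨a, ha⟩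
    show q (g⁻¹ * al * g) * q z2 = q z2 * q (g⁻¹ * al * g)
    have h2 : q (g⁻¹ * al * g) * q z2 = (q g)⁻¹ * (q al * q zl) * q g := by
      simp only [hz2, map_mul, map_inv]; group
    rw [h2, ← h1]
    simp only [hz2, map_mul, map_inv]; group)
  intro v hv j hj
  have := hfix (g⁻¹ * al * g) ⟨c, hc⟩ _ hv j hj
  rw [Units.val_mul, Units.val_mul, ← Matrix.mulVec_mulVec, ← Matrix.mulVec_mulVec,
    mulVec_inv_mulVec] at this
  exact this

theorem stab_ne_top [Finite F] (hG : ((Matrix.SpecialLinearGroup.toGL : Matrix.SpecialLinearGroup (Fin n) F →* GL (Fin n) F).range).map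
      (QuotientGroup.mk' (Subgroup.center (GL (Fin n) F))) ≤ G)
    (g : GL (Fin n) F) {s : ℕ} (hs0 : 0 < s) (hsn : s < n) : stabG G (W g s) ≠ ⊤ := by
  haveI : NeZero n := ⟨by omega⟩
  intro htop
  set i0 : Fin n := ⟨0, by omega⟩
  set i1 : Fin n := ⟨s, hsn⟩
  have hne : i1 ≠ i0 := fun e => by have := congrArg Fin.val e; simp [i0, i1] at this; omega
  have hdet : Matrix.det (Matrix.transvection i1 i0 (1 : F)) = 1 := Matrix.det_transvection_of_ne _ _ hne _
  let t : GL (Fin n) F := Matrix.GeneralLinearGroup.mkOfDetNeZero (Matrix.transvection i1 i0 (1 : F))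
    (by rw [hdet]; exact one_ne_zero)
  have hm : Matrix.det ((g * t * g⁻¹ : GL (Fin n) F) : Matrix (Fin n) (Fin n) F) = 1 := by
    rw [Units.val_mul, Units.val_mul, Matrix.det_units_conj]; exact hdet
  have hmem : (⟨_, mem_G_of_det hG hm⟩ : ↥G) ∈ stabG G (W g s) := htop ▸ Subgroup.mem_top _
  rw [mem_stabG G (a := g * t * g⁻¹) rfl] at hmem
  have hv : (g : Matrix (Fin n) (Fin n) F) *ᵥ Pi.single i0 1 ∈ W g s := by
    intro j hj
    rw [inv_mulVec_mulVec, Pi.single_apply, if_neg]
    intro e; subst e; simp [i0] at hj; omega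
  have h1 := hmem _ hv i1 (le_refl s)
  rw [Units.val_mul, Units.val_mul, ← Matrix.mulVec_mulVec, ← Matrix.mulVec_mulVec, inv_mulVec_mulVec,
    inv_mulVec_mulVec, Matrix.mulVec_single_one] at h1
  simp [t, Matrix.transvection, Matrix.one_apply_ne hne] at h1

/-- Two regular unipotent elements in a common nilpotent subgroup define the same flag. -/
theorem same_flag [Finite F] (hn : 2 ≤ n) {g g' : GL (Fin n) F} {A : Subgroup ↥G} (hA : Group.IsNilpotent A)
    {x x' : ↥G} (hxA : x ∈ A) (hxA' : x' ∈ A)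
    (hx : (x : GL (Fin n) F ⧸ _) = QuotientGroup.mk' (Subgroup.center (GL (Fin n) F)) (uu g))
    (hx' : (x' : GL (Fin n) F ⧸ _) = QuotientGroup.mk' (Subgroup.center (GL (Fin n) F)) (uu g')) :
    ∀ j ≤ n, W g j = W g' j := by
  haveI : NeZero n := ⟨by omega⟩
  haveI := Fintype.ofFinite F
  obtain ⟨p, hp⟩ := CharP.exists F
  obtain ⟨k, hpp, hcard⟩ := FiniteField.card F p
  haveI := Fact.mk hpp
  set q := QuotientGroup.mk' (Subgroup.center (GL (Fin n) F)) with hq
  set L := A.map G.subtype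
  set Lt := L.comap q
  haveI := hA
  have hL : Group.IsNilpotent L := Group.nilpotent_of_surjective (G.subtype.subgroupMap A) (G.subtype.subgroupMap_surjective A)
  haveI := hL
  let f : Lt →* L := (q.comp Lt.subtype).codRestrict L fun a => a.2
  haveI hLt : Group.IsNilpotent Lt := by
    refine Subgroup.isNilpotent_of_ker_le_center f ?_
    intro a ha
    rw [Subgroup.mem_center_iff]
    intro b
    have h1 : (a : GL (Fin n) F) ∈ Subgroup.center (GL (Fin n) F) :=
      (QuotientGroup.eq_one_iff _).1 (congrArg Subtype.val ha)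
    exact Subtype.ext (Subgroup.mem_center_iff.1 h1 b)
  have hpel : ∀ g0 : GL (Fin n) F, uu g0 ^ p ^ n = 1 := by
    intro g0
    have h1 : u1 F n ^ p ^ n = 1 := by
      refine Units.ext ?_
      rw [Units.val_pow_eq_pow_val, coe_u1, Units.val_one, add_pow_char_pow_of_commute (p := p) (n := n) (x := (1 : Matrix (Fin n) (Fin n) F)) (y := shift F n) (h := Commute.one_left _), one_pow]
      have hz : shift F n ^ p ^ n = 0 := by
        obtain ⟨m, hm⟩ := (shift_isNilpotent : IsNilpotent (shift F n))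
        refine pow_eq_zero_of_le (m := n) ((Nat.lt_pow_self hpp.one_lt).le) ?_
        exact shift_pow_n
      rw [hz, add_zero]
    rw [uu, conj_pow, h1, mul_one, mul_inv_cancel]
  have hu : uu g ∈ Lt := show q (uu g) ∈ L from hx ▸ Subgroup.mem_map_of_mem _ hxA
  have hu' : uu g' ∈ Lt := show q (uu g') ∈ L from hx' ▸ Subgroup.mem_map_of_mem _ hxA'
  let P : Sylow p Lt := default
  haveI hPn : (P : Subgroup Lt).Normal :=
    ((Group.isNilpotent_of_finite_tfae (G := Lt)).out 0 3 :).1 hLt p inferInstance P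
  set PP := (P : Subgroup Lt).map Lt.subtype
  have hin : ∀ g0 : GL (Fin n) F, uu g0 ∈ Lt → uu g0 ∈ PP := by
    intro g0 hg0
    obtain ⟨i, -, hi⟩ := (Nat.dvd_prime_pow hpp).1 (orderOf_dvd_of_pow_eq_one (hpel g0))
    have hz : IsPGroup p (Subgroup.zpowers (⟨uu g0, hg0⟩ : Lt)) :=
      IsPGroup.of_card (n := i) (by rw [Nat.card_zpowers, Subgroup.orderOf_mk, hi])
    have hle := (P.is_maximal' (hz.to_sup_of_normal_right P.isPGroup') le_sup_right).le
    exact ⟨⟨uu g0, hg0⟩, hle (Subgroup.mem_sup_left (Subgroup.mem_zpowers _)), rfl⟩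
  set H := Subgroup.closure ({uu g, uu g'} : Set (GL (Fin n) F))
  have hH : IsPGroup p H := (P.isPGroup'.map Lt.subtype).to_le ((Subgroup.closure_le _).2 (by
    rintro y (rfl | rfl)
    · exact hin g hu
    · exact hin g' hu'))
  intro j
  induction j with
  | zero =>
    intro _
    have : ∀ g0 : GL (Fin n) F, W g0 0 = ⊥ := fun g0 => by
      rw [eq_bot_iff]
      intro v hv
      rw [Submodule.mem_bot, ← mulVec_inv_mulVec g0 v,
        show (↑g0⁻¹ : Matrix (Fin n) (Fin n) F) *ᵥ v = 0 from funext fun i => hv i (Nat.zero_le _),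
        Matrix.mulVec_zero]
    rw [this, this]
  | succ j ih =>
    intro hjn
    specialize ih (by omega)
    set U := W g j with hU
    have hHU : H ≤ stabGL U := (Subgroup.closure_le _).2 (by
      rintro y (rfl | rfl)
      · exact uu_mem_stabGL g j
      · rw [ih]; exact uu_mem_stabGL g' j)
    letI : MulAction H ((Fin n → F) ⧸ U) :=
      { smul := fun a => U.mapQ U (Matrix.mulVecLin ((a : GL (Fin n) F) : Matrix (Fin n) (Fin n) F)) fun v hv => hHU a.2 v hv
        one_smul := fun w => by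
          induction w using Submodule.Quotient.induction_on with
          | _ v => exact congrArg Submodule.Quotient.mk (Matrix.one_mulVec v)
        mul_smul := fun a b w => by
          induction w using Submodule.Quotient.induction_on with
          | _ v =>
            refine congrArg Submodule.Quotient.mk ?_
            show ((a * b : H) : GL (Fin n) F).val *ᵥ v = _
            rw [Subgroup.coe_mul, Units.val_mul, ← Matrix.mulVec_mulVec]
            rfl }
    have hne : U ≠ ⊤ := fun h => by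
      have h1 : (g : Matrix (Fin n) (Fin n) F) *ᵥ Pi.single ⟨j, by omega⟩ 1 ∈ U := h ▸ Submodule.mem_top
      have h2 := h1 ⟨j, by omega⟩ le_rfl
      rw [inv_mulVec_mulVec, Pi.single_eq_same] at h2
      exact one_ne_zero h2
    have hdvd : p ∣ Nat.card ((Fin n → F) ⧸ U) := by
      have h1 : Nat.card ((Fin n → F) ⧸ U) ∣ p ^ ((k : ℕ) * n) := by
        refine (AddSubgroup.card_quotient_dvd_card U.toAddSubgroup).trans (dvd_of_eq ?_)
        rw [Nat.card_eq_fintype_card, Fintype.card_fun, hcard, Fintype.card_fin, ← pow_mul]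
      obtain ⟨i, -, hi⟩ := (Nat.dvd_prime_pow hpp).1 h1
      rw [hi]
      refine dvd_pow_self p ?_
      rintro rfl
      rw [pow_zero, Nat.card_eq_one_iff_unique] at hi
      exact hne (Submodule.Quotient.subsingleton_iff.1 hi.1)
    obtain ⟨w, hw, hw0⟩ := hH.exists_fixed_point_of_prime_dvd_card_of_fixed_point ((Fin n → F) ⧸ U) hdvd
      (a := 0) (fun a => map_zero (U.mapQ U (Matrix.mulVecLin ((a : GL (Fin n) F) : Matrix (Fin n) (Fin n) F)) _))
    obtain ⟨v, rfl⟩ := Submodule.Quotient.mk_surjective U w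
    have hvU : v ∉ U := fun h => hw0 ((Submodule.Quotient.mk_eq_zero U).2 h).symm
    have hfixv : ∀ y ∈ H, ((y : GL (Fin n) F) : Matrix (Fin n) (Fin n) F) *ᵥ v - v ∈ U := fun y hy =>
      (Submodule.Quotient.eq U).1 (hw ⟨y, hy⟩)
    have hstep : ∀ g0 : GL (Fin n) F, W g0 j = U → uu g0 ∈ H →
        v ∈ W g0 (j + 1) ∧ ((↑g0⁻¹ : Matrix (Fin n) (Fin n) F) *ᵥ v) ⟨j, by omega⟩ ≠ 0 := by
      intro g0 hg0 hg0H
      have h1 := hfixv _ hg0H
      rw [← hg0] at h1
      have h2 : v ∈ W g0 (j + 1) := by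
        intro i hi
        have h3 := h1 ⟨(i : ℕ) - 1, by omega⟩ (by simp only; omega)
        rw [Matrix.mulVec_sub, inv_uu_mulVec, add_sub_cancel_left, shift_mulVec_apply,
          dif_pos (show ((⟨(i : ℕ) - 1, by omega⟩ : Fin n) : ℕ) + 1 < n by simp only; omega)] at h3
        convert h3 using 2
        ext; simp only; omega
      refine ⟨h2, fun h0 => hvU (hg0 ▸ fun i hi => ?_)⟩
      rcases hi.lt_or_eq with hlt | heq
      · exact h2 i hlt
      · rwa [show i = ⟨j, by omega⟩ from Fin.ext heq.symm]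
    have hg : uu g ∈ H := Subgroup.subset_closure (Set.mem_insert _ _)
    have hg' : uu g' ∈ H := Subgroup.subset_closure (Set.mem_insert_of_mem _ rfl)
    have hsub : ∀ g0 g1 : GL (Fin n) F, W g0 j = U → W g1 j = U → uu g0 ∈ H → uu g1 ∈ H →
        W g0 (j + 1) ≤ W g1 (j + 1) := by
      intro g0 g1 h0 h1 h0H h1H y hy
      obtain ⟨hv0, hvj⟩ := hstep g0 h0 h0H
      obtain ⟨hv1, -⟩ := hstep g1 h1 h1H
      set c := ((↑g0⁻¹ : Matrix (Fin n) (Fin n) F) *ᵥ y) ⟨j, by omega⟩ /
        ((↑g0⁻¹ : Matrix (Fin n) (Fin n) F) *ᵥ v) ⟨j, by omega⟩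
      have hmem : y - c • v ∈ U := by
        rw [← h0]
        intro i hi
        rw [Matrix.mulVec_sub, Matrix.mulVec_smul, Pi.sub_apply, Pi.smul_apply, smul_eq_mul]
        rcases hi.lt_or_eq with hlt | heq
        · rw [hy i hlt, hv0 i hlt, mul_zero, sub_zero]
        · rw [show i = ⟨j, by omega⟩ from Fin.ext heq.symm, div_mul_cancel₀ _ hvj, sub_self]
      rw [← h1] at hmem
      have hmem' : y - c • v ∈ W g1 (j + 1) := fun i hi => hmem i (by omega)
      simpa using (W g1 (j + 1)).add_mem hmem' ((W g1 (j + 1)).smul_mem c hv1)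
    exact le_antisymm (hsub g g' rfl ih.symm hg hg') (hsub g' g ih.symm rfl hg' hg)

end

end Cfsg.Lib.Solv.NilCover
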