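import Cfsg.Agent.Lib.Solv.MinimalNonNilpotent
import Cfsg.Agent.S3889

/-!
# Abelian Sylow subgroups of centerless groups with a nilpotent minimal cover
-/

set_option autoImplicit false

namespace Cfsg.Lib.Solv.NilCover

open Subgroup
open scoped Pointwise

variable {G : Type*} [Group G] [Finite G]

theorem main (hZ : Subgroup.center G = ⊥) (𝓐 : Finset (Subgroup G))
    (h𝓐 : ((∀ A ∈ 𝓐, A ≠ ⊤) ∧ (∀ g : G, ∃ A ∈ 𝓐, g ∈ A)) ∧ (∀ 𝓑 : Finset (Subgroup G), (∀ A ∈ 𝓑, A ≠ ⊤) ∧ (∀ g : G, ∃ A ∈ 𝓑, g ∈ A) → 𝓐.card ≤ 𝓑.card) ∧ (∀ A ∈ 𝓐, Group.IsNilpotent ↥A))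
    {p : ℕ} [Fact p.Prime] (P : Sylow p G) (hab : IsMulCommutative ↥(P : Subgroup G))
    (hnn : ¬ (P : Subgroup G).Normal)
    (hP : IsCyclic ↥(P : Subgroup G) ∨ ∃ z ∈ (P : Subgroup G), z ^ p ≠ 1) :
    ∃ A ∈ 𝓐, (P : Subgroup G) ≤ A ∧ centralizer ((P : Subgroup G) : Set G) = A ∧
      IsCoatom (normalizer ((P : Subgroup G) : Set G)) ∧
      (∀ M : Subgroup G, IsCoatom M → centralizer ((P : Subgroup G) : Set G) ≤ M →
        M = normalizer ((P : Subgroup G) : Set G)) ∧
      (∀ g : G, g ∉ normalizer ((P : Subgroup G) : Set G) →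
        ¬ p ∣ Nat.card ↥(normalizer ((P : Subgroup G) : Set G) ⊓
          (normalizer ((P : Subgroup G) : Set G)).map (MulAut.conj g).toMonoidHom)) := by
  classical
  obtain ⟨⟨hprop, hcov⟩, hmin, hnil⟩ := h𝓐
  have hpp : p.Prime := Fact.out
  set C := centralizer ((P : Subgroup G) : Set G) with hC
  set N := normalizer ((P : Subgroup G) : Set G) with hN
  have hNtop : N ≠ ⊤ := fun h => hnn (normalizer_eq_top_iff.1 h)
  have hCN : C ≤ N := centralizer_le_normalizer _
  have hPne : (P : Subgroup G) ≠ ⊥ := fun h => hnn (h ▸ inferInstance)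
  -- two members in one proper subgroup
  have hrep : ∀ K : Subgroup G, K ≠ ⊤ → ∀ A ∈ 𝓐, ∀ B ∈ 𝓐, A ≤ K → B ≤ K → A = B := by
    intro K hK A hA B hB hAK hBK
    by_contra hne
    have hB' : B ∈ 𝓐.erase A := Finset.mem_erase.2 ⟨fun e => hne e.symm, hB⟩
    have h1 := hmin (insert K ((𝓐.erase A).erase B)) ⟨?_, ?_⟩
    · have h2 := Finset.card_insert_le K ((𝓐.erase A).erase B)
      rw [Finset.card_erase_of_mem hB', Finset.card_erase_of_mem hA] at h2
      have h3 : 2 ≤ 𝓐.card := by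
        rw [← Finset.card_pair hne]
        exact Finset.card_le_card (Finset.insert_subset hA (Finset.singleton_subset_iff.2 hB))
      omega
    · intro D hD
      rcases Finset.mem_insert.1 hD with rfl | hD
      · exact hK
      · exact hprop D (Finset.mem_of_mem_erase (Finset.mem_of_mem_erase hD))
    · intro g
      obtain ⟨D, hD, hg⟩ := hcov g
      by_cases hDA : D = A
      · exact ⟨K, Finset.mem_insert_self _ _, hAK (hDA ▸ hg)⟩
      by_cases hDB : D = B
      · exact ⟨K, Finset.mem_insert_self _ _, hBK (hDB ▸ hg)⟩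
      exact ⟨D, Finset.mem_insert_of_mem (Finset.mem_erase.2 ⟨hDB, Finset.mem_erase.2 ⟨hDA, hD⟩⟩), hg⟩
  -- centralizers of nontrivial elements are proper
  have hCx : ∀ x : G, x ≠ 1 → centralizer ({x} : Set G) ≠ ⊤ := by
    intro x hx h
    apply hx
    rw [← mem_bot, ← hZ, mem_center_iff]
    intro y
    exact mem_centralizer_singleton_iff.1 (h ▸ mem_top y)
  -- all p-subgroups are abelian
  have habp : ∀ R : Subgroup G, IsPGroup p R → ∀ a ∈ R, ∀ b ∈ R, a * b = b * a := by
    intro R hR a ha b hb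
    obtain ⟨S, hS⟩ := hR.exists_le_sylow
    obtain ⟨g, hg⟩ := MulAction.exists_smul_eq G S P
    have hmem : ∀ c ∈ R, g * c * g⁻¹ ∈ (P : Subgroup G) := fun c hc => by
      rw [← hg, Sylow.coe_subgroup_smul, mem_pointwise_smul_iff_inv_smul_mem]
      simpa [mul_assoc] using hS hc
    have h := congrArg Subtype.val (hab.is_comm.comm ⟨_, hmem a ha⟩ ⟨_, hmem b hb⟩)
    apply (MulAut.conj g).injective
    rw [map_mul, map_mul]
    exact h
  -- members centralize their p-elements
  have hcent : ∀ B ∈ 𝓐, ∀ x ∈ B, (∃ k, orderOf x = p ^ k) → B ≤ centralizer ({x} : Set G) := by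
    rintro B hB x hx ⟨k, hk⟩ b hb
    haveI := hnil B hB
    have htop : (centralizer ({x} : Set G)).subgroupOf B = ⊤ := by
      refine eq_top_of_forall_sylow_le fun r hr _ => ?_
      haveI := Fact.mk hr
      obtain ⟨R⟩ : Nonempty (Sylow r B) := inferInstance
      refine ⟨R, fun c hc => ?_⟩
      rw [mem_subgroupOf, mem_centralizer_singleton_iff]
      by_cases hrp : r = p
      · subst hrp
        obtain ⟨R', hR'⟩ := (IsPGroup.of_card (p := r) (G := zpowers (⟨x, hx⟩ : B)) (n := k)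
          (by rw [Nat.card_zpowers, Subgroup.orderOf_mk, hk])).exists_le_sylow
        haveI := normal_sylow_of_nilpotent R
        haveI : Subsingleton (Sylow r B) :=
          ⟨fun S T => by haveI := Sylow.unique_of_normal R inferInstance; exact Subsingleton.elim S T⟩
        rw [Subsingleton.elim R' R] at hR'
        exact habp _ (R.isPGroup'.map B.subtype) (c : G) (mem_map_of_mem _ hc) x
          ⟨⟨x, hx⟩, hR' (mem_zpowers _), rfl⟩
      · obtain ⟨j, hj⟩ := IsPGroup.iff_orderOf.1 R.isPGroup' ⟨c, hc⟩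
        exact (commute_of_nilpotent_subgroup (hnil B hB) hr hpp hrp c.2 hx
          (by rw [Subgroup.orderOf_coe, ← Subgroup.orderOf_mk c hc]; exact hj) hk).eq
    exact (htop ▸ mem_top (⟨b, hb⟩ : B) : (⟨b, hb⟩ : B) ∈ (centralizer ({x} : Set G)).subgroupOf B)
  have hPe : ∀ z ∈ (P : Subgroup G), ∃ k, orderOf z = p ^ k := fun z hz => by
    obtain ⟨k, hk⟩ := IsPGroup.iff_orderOf.1 P.isPGroup' ⟨z, hz⟩
    exact ⟨k, by rwa [Subgroup.orderOf_mk] at hk⟩
  -- a member contains P and a given p'-element centralizing P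
  have hmemb : ∀ y ∈ C, (orderOf y).Coprime p → ∃ B ∈ 𝓐, (P : Subgroup G) ≤ B ∧ y ∈ B := by
    intro y hy hyp
    have hcov' : ∀ z ∈ (P : Subgroup G), ∃ B ∈ 𝓐, z ∈ B ∧ y ∈ B := by
      intro z hz
      obtain ⟨B, hB, hyz⟩ := hcov (y * z)
      obtain ⟨k, hk⟩ := hPe z hz
      have hc : Commute y z := (mem_centralizer_iff.1 hy z hz).symm
      have h1 : y ^ p ^ k ∈ B := by
        have := pow_mem hyz (p ^ k)
        rwa [hc.mul_pow, show z ^ p ^ k = 1 from hk ▸ pow_orderOf_eq_one z, mul_one] at this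
      obtain ⟨m, hm⟩ := exists_pow_eq_self_of_coprime (x := y) (n := p ^ k) (hyp.pow_right k).symm
      have hyB : y ∈ B := hm ▸ pow_mem h1 m
      exact ⟨B, hB, by simpa using mul_mem (inv_mem hyB) hyz, hyB⟩
    by_contra hno
    push Not at hno
    rcases hP with hcyc | ⟨z, hz, hzp⟩
    · obtain ⟨g, hg⟩ := hcyc.exists_generator
      obtain ⟨B, hB, hgB, hyB⟩ := hcov' g g.2
      refine hno B hB (fun w hw => ?_) hyB
      obtain ⟨i, hi⟩ := mem_zpowers_iff.1 (hg ⟨w, hw⟩)
      rw [show w = (g : G) ^ i from (congrArg Subtype.val hi).symm]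
      exact zpow_mem hgB i
    · letI : CommGroup ↥(P : Subgroup G) :=
        { (inferInstance : Group ↥(P : Subgroup G)) with mul_comm := fun a b => hab.is_comm.comm a b }
      set 𝓟 : Set (Subgroup ↥(P : Subgroup G)) :=
        {X | ∃ B ∈ 𝓐, y ∈ B ∧ X = B.subgroupOf (P : Subgroup G)} with h𝓟
      have hex := Cfsg.Agent.S3889.result 𝓟 (by
          rintro X ⟨B, hB, hyB, rfl⟩ h
          exact hno B hB (subgroupOf_eq_top.1 h) hyB)
        (fun w => by
          obtain ⟨B, hB, hwB, hyB⟩ := hcov' w w.2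
          exact ⟨_, ⟨B, hB, hyB, rfl⟩, hwB⟩)
        (by
          rintro X ⟨B, hB, hyB, rfl⟩ Y ⟨D, hD, hyD, rfl⟩ hne
          rw [eq_bot_iff_forall]
          rintro ⟨w, hw⟩ ⟨hwB, hwD⟩
          by_contra hw1
          have hw1' : w ≠ 1 := fun e => hw1 (Subtype.ext e)
          exact hne (by rw [hrep _ (hCx w hw1') B hB D hD (hcent B hB w hwB (hPe w hw)) (hcent D hD w hwD (hPe w hw))]))
      set q := Monoid.exponent ↥(P : Subgroup G)
      have hqp : q ∣ Nat.card ↥(P : Subgroup G) := Group.exponent_dvd_nat_card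
      obtain ⟨e, he⟩ := IsPGroup.iff_card.1 P.isPGroup'
      rw [he] at hqp
      have hq : q = p := (Nat.prime_dvd_prime_iff_eq hex hpp).1 (hex.dvd_of_dvd_pow hqp)
      apply hzp
      have := Monoid.pow_exponent_eq_one (⟨z, hz⟩ : ↥(P : Subgroup G))
      rw [show Monoid.exponent ↥(P : Subgroup G) = p from hq] at this
      exact congrArg Subtype.val this
  obtain ⟨A, hA, hPA, -⟩ := hmemb 1 (one_mem _) (by simp)
  have hle : ∀ B ∈ 𝓐, (P : Subgroup G) ≤ B → B ≤ C := by
    intro B hB hPB b hb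
    rw [hC, mem_centralizer_iff]
    intro z hz
    exact (mem_centralizer_singleton_iff.1 (hcent B hB z (hPB hz) (hPe z hz) hb)).symm
  have hCA : C = A := by
    refine le_antisymm ?_ (hle A hA hPA)
    rw [← subgroupOf_eq_top]
    refine eq_top_of_forall_sylow_le fun r hr _ => ?_
    haveI := Fact.mk hr
    obtain ⟨R⟩ : Nonempty (Sylow r C) := inferInstance
    refine ⟨R, fun y hy => ?_⟩
    rw [mem_subgroupOf]
    obtain ⟨j, hj⟩ := IsPGroup.iff_orderOf.1 R.isPGroup' ⟨y, hy⟩
    have hj' : orderOf (y : G) = r ^ j := by rw [Subgroup.orderOf_coe, ← Subgroup.orderOf_mk y hy]; exact hj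
    by_cases hrp : r = p
    · subst hrp
      have hp2 : IsPGroup r ↥((P : Subgroup G) ⊔ zpowers (y : G)) :=
        P.isPGroup'.to_sup_of_normal_left' (IsPGroup.of_card (n := j) (by rw [Nat.card_zpowers, hj']))
          (zpowers_le.2 (hCN y.2))
      exact hPA (P.3 hp2 le_sup_left ▸ mem_sup_right (mem_zpowers (y : G)))
    · obtain ⟨B, hB, hPB, hyB⟩ := hmemb y y.2 (hj' ▸ ((Nat.coprime_primes hr hpp).2 hrp).pow_left j)
      rwa [hrep N hNtop A hA B hB ((hle A hA hPA).trans hCN) ((hle B hB hPB).trans hCN)]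
  -- uniqueness
  have huniq : ∀ M : Subgroup G, M ≠ ⊤ → C ≤ M → M ≤ N := by
    intro M hM hCM m hm
    set P' := (P : Subgroup G).map (MulAut.conj m).toMonoidHom
    obtain ⟨B, hB, hPB⟩ : ∃ B ∈ 𝓐, P' ≤ B := by
      by_contra hno
      push Not at hno
      rcases hP with hcyc | ⟨z, hz, hzp⟩
      · obtain ⟨g, hg⟩ := hcyc.exists_generator
        obtain ⟨B, hB, hgB⟩ := hcov (MulAut.conj m g)
        refine hno B hB ?_
        rintro _ ⟨w, hw, rfl⟩
        obtain ⟨i, hi⟩ := mem_zpowers_iff.1 (hg ⟨w, hw⟩)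
        rw [show w = (g : G) ^ i from (congrArg Subtype.val hi).symm, map_zpow]
        exact zpow_mem hgB i
      · letI : CommGroup ↥(P : Subgroup G) :=
          { (inferInstance : Group ↥(P : Subgroup G)) with mul_comm := fun a b => hab.is_comm.comm a b }
        let f : ↥(P : Subgroup G) →* G := (MulAut.conj m).toMonoidHom.comp (P : Subgroup G).subtype
        have hfi : Function.Injective f := (MulAut.conj m).injective.comp (P : Subgroup G).subtype_injective
        set 𝓟 : Set (Subgroup ↥(P : Subgroup G)) := {X | ∃ B ∈ 𝓐, X = B.comap f}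
        have hex := Cfsg.Agent.S3889.result 𝓟 (by
            rintro X ⟨B, hB, rfl⟩ h
            refine hno B hB ?_
            rintro _ ⟨w, hw, rfl⟩
            exact (h ▸ mem_top (⟨w, hw⟩ : ↥(P : Subgroup G)) : (⟨w, hw⟩ : ↥(P : Subgroup G)) ∈ B.comap f))
          (fun w => by
            obtain ⟨B, hB, hwB⟩ := hcov (f w)
            exact ⟨_, ⟨B, hB, rfl⟩, hwB⟩)
          (by
            rintro X ⟨B, hB, rfl⟩ Y ⟨D, hD, rfl⟩ hne
            rw [eq_bot_iff_forall]
            rintro w ⟨hwB, hwD⟩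
            by_contra hw1
            have hfw : f w ≠ 1 := fun e => hw1 (hfi (e.trans f.map_one.symm))
            have hfo : ∃ k, orderOf (f w) = p ^ k := by
              obtain ⟨k, hk⟩ := IsPGroup.iff_orderOf.1 P.isPGroup' w
              exact ⟨k, by rw [orderOf_injective f hfi, hk]⟩
            exact hne (by rw [hrep _ (hCx _ hfw) B hB D hD (hcent B hB _ hwB hfo) (hcent D hD _ hwD hfo)]))
        set q := Monoid.exponent ↥(P : Subgroup G)
        have hqp : q ∣ Nat.card ↥(P : Subgroup G) := Group.exponent_dvd_nat_card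
        obtain ⟨e, he⟩ := IsPGroup.iff_card.1 P.isPGroup'
        rw [he] at hqp
        have hq : q = p := (Nat.prime_dvd_prime_iff_eq hex hpp).1 (hex.dvd_of_dvd_pow hqp)
        apply hzp
        have := Monoid.pow_exponent_eq_one (⟨z, hz⟩ : ↥(P : Subgroup G))
        rw [show Monoid.exponent ↥(P : Subgroup G) = p from hq] at this
        exact congrArg Subtype.val this
    have hBM : B ≤ M := by
      intro b hb
      have hbC : m⁻¹ * b * m ∈ C := by
        rw [hC, mem_centralizer_iff]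
        intro z hz
        have hz' : (MulAut.conj m).toMonoidHom z ∈ P' := mem_map_of_mem _ hz
        have hzo : ∃ k, orderOf ((MulAut.conj m).toMonoidHom z) = p ^ k := by
          obtain ⟨k, hk⟩ := hPe z hz
          exact ⟨k, by rw [← hk]; exact MulEquiv.orderOf_eq (MulAut.conj m) z⟩
        have h : b * (m * z * m⁻¹) = m * z * m⁻¹ * b := mem_centralizer_singleton_iff.1 (hcent B hB _ (hPB hz') hzo hb)
        calc z * (m⁻¹ * b * m) = m⁻¹ * (m * z * m⁻¹ * b) * m := by group
          _ = _ := by rw [← h]; group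
      have := mul_mem (mul_mem hm (hCM hbC)) (inv_mem hm)
      simpa [mul_assoc] using this
    have hBA : B = A := hrep M hM B hB A hA hBM (hCA ▸ hCM)
    have hP'C : P' ≤ C := hCA ▸ hBA ▸ hPB
    have hp2 : IsPGroup p ↥((P : Subgroup G) ⊔ P') :=
      P.isPGroup'.to_sup_of_normal_left' (P.isPGroup'.map _) (hP'C.trans hCN)
    have hP'P : P' ≤ (P : Subgroup G) := P.3 hp2 le_sup_left ▸ le_sup_right
    rw [hN, ← conj_smul_eq_self_iff]
    exact eq_of_le_of_card_ge hP'P (card_map_of_injective (MulAut.conj m).injective).ge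
  have hcoatom : IsCoatom N := by
    refine ⟨hNtop, fun M hlt => ?_⟩
    by_contra hM
    exact hlt.not_ge (huniq M hM (hCN.trans hlt.le))
  refine ⟨A, hA, hPA, hCA, hcoatom, fun M hM hCM => ?_, fun g hg hd => ?_⟩
  · exact ((hM.le_iff.1 (huniq M hM.1 hCM)).resolve_left hNtop).symm
  obtain ⟨x, hx⟩ := exists_prime_orderOf_dvd_card' p hd
  set P' := (P : Subgroup G).map (MulAut.conj g).toMonoidHom
  have hinP : ∀ u : G, u ∈ N → (∃ k, orderOf u = p ^ k) → u ∈ (P : Subgroup G) := by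
    rintro u hu ⟨k, hk⟩
    have hp2 : IsPGroup p ↥((P : Subgroup G) ⊔ zpowers u) :=
      P.isPGroup'.to_sup_of_normal_left' (IsPGroup.of_card (n := k) (by rw [Nat.card_zpowers, hk])) (zpowers_le.2 hu)
    exact P.3 hp2 le_sup_left ▸ mem_sup_right (mem_zpowers u)
  have hxo : orderOf (x : G) = p ^ 1 := by rw [Subgroup.orderOf_coe, hx, pow_one]
  have hx1 : (x : G) ≠ 1 := fun e => by
    rw [e, orderOf_one, pow_one] at hxo
    exact hpp.one_lt.ne hxo
  have hxP : (x : G) ∈ (P : Subgroup G) := hinP _ x.2.1 ⟨1, hxo⟩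
  obtain ⟨u, hu, hux⟩ := x.2.2
  have huo : orderOf u = p ^ 1 := by
    rw [← hxo, ← hux]; exact (MulEquiv.orderOf_eq (MulAut.conj g) u).symm
  have huP : u ∈ (P : Subgroup G) := hinP u hu ⟨1, huo⟩
  have hAx : A ≤ centralizer ({(x : G)} : Set G) := hcent A hA _ (hPA hxP) ⟨1, hxo⟩
  have hxc : P' ≤ centralizer ({(x : G)} : Set G) := by
    rintro _ ⟨w, hw, rfl⟩
    rw [mem_centralizer_singleton_iff, ← hux]
    show (MulAut.conj g) w * (MulAut.conj g) u = (MulAut.conj g) u * (MulAut.conj g) w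
    rw [← map_mul, ← map_mul, show w * u = u * w from congrArg Subtype.val (hab.is_comm.comm ⟨w, hw⟩ ⟨u, huP⟩)]
  obtain ⟨M, hCxM, hM⟩ : ∃ M : Subgroup G, centralizer ({(x : G)} : Set G) ≤ M ∧ IsCoatom M := by
    rcases eq_top_or_exists_le_coatom (centralizer ({(x : G)} : Set G)) with h | ⟨M, hM, h⟩
    · exact absurd h (hCx _ hx1)
    · exact ⟨M, h, hM⟩
  have hMN : M = N := ((hM.le_iff.1 (huniq M hM.1 (hCA ▸ hAx.trans hCxM))).resolve_left hNtop).symm
  apply hg
  have hP'N : P' ≤ N := hMN ▸ hxc.trans hCxM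
  have hp2 : IsPGroup p ↥((P : Subgroup G) ⊔ P') :=
    P.isPGroup'.to_sup_of_normal_left' (P.isPGroup'.map _) hP'N
  have hP'P : P' ≤ (P : Subgroup G) := P.3 hp2 le_sup_left ▸ le_sup_right
  rw [hN, ← conj_smul_eq_self_iff]
  exact eq_of_le_of_card_ge hP'P (card_map_of_injective (MulAut.conj g).injective).ge

end Cfsg.Lib.Solv.NilCover
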