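import Cfsg.Agent.Lib.Solv.NilpotentCover

/-!
Small facts on the projective linear group in dimension two and on permutation flags.
-/

set_option autoImplicit false

namespace Cfsg.Lib.Solv.NilCover

open Matrix

noncomputable section

universe u

variable {F : Type u} [Field F] {n : ℕ}

/-- A permutation matrix. -/
def gperm (σ : Equiv.Perm (Fin n)) : GL (Fin n) F where
  val := Matrix.of fun j k => if k = σ.symm j then 1 else 0
  inv := Matrix.of fun j k => if k = σ j then 1 else 0
  val_inv := by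
    ext j k
    rw [Matrix.mul_apply, Finset.sum_eq_single (σ.symm j)]
    · simp [Matrix.one_apply, eq_comm]
    · intro b _ hb
      simp [hb]
    · exact fun h => absurd (Finset.mem_univ _) h
  inv_val := by
    ext j k
    rw [Matrix.mul_apply, Finset.sum_eq_single (σ j)]
    · simp [Matrix.one_apply, eq_comm]
    · intro b _ hb
      simp [hb]
    · exact fun h => absurd (Finset.mem_univ _) h

theorem gperm_inv_mulVec (σ : Equiv.Perm (Fin n)) (v : Fin n → F) (j : Fin n) :
    ((↑(gperm (F := F) σ)⁻¹ : Matrix (Fin n) (Fin n) F) *ᵥ v) j = v (σ j) := by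
  show ((Matrix.of fun j k => if k = σ j then (1 : F) else 0) *ᵥ v) j = v (σ j)
  simp [Matrix.mulVec, dotProduct]

/-- The transvection `e₁ ↦ e₀ + e₁`, as a switch. -/
def tb (e0 e1 : Fin n) (h : e0 ≠ e1) (b : Bool) : GL (Fin n) F where
  val := if b then Matrix.transvection e0 e1 1 else 1
  inv := if b then Matrix.transvection e0 e1 (-1) else 1
  val_inv := by
    cases b
    · simp
    · simp [Matrix.transvection_mul_transvection_same e0 e1 h]
  inv_val := by
    cases b
    · simp
    · simp [Matrix.transvection_mul_transvection_same e0 e1 h]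

theorem tb_inv_mulVec (e0 e1 : Fin n) (h : e0 ≠ e1) (b : Bool) (v : Fin n → F) (k : Fin n) :
    ((↑(tb (F := F) e0 e1 h b)⁻¹ : Matrix (Fin n) (Fin n) F) *ᵥ v) k =
      if b = true ∧ k = e0 then v k - v e1 else v k := by
  show ((if b then Matrix.transvection e0 e1 (-1) else 1 : Matrix (Fin n) (Fin n) F) *ᵥ v) k = _
  cases b
  · simp
  · simp only [if_true, true_and, Matrix.transvection, Matrix.add_mulVec, Matrix.one_mulVec, Pi.add_apply,
      Matrix.single_mulVec]
    by_cases hk : k = e0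
    · subst hk; simp [sub_eq_add_neg]
    · simp [hk]

theorem tb_mulVec_single (e0 e1 : Fin n) (h : e0 ≠ e1) (b : Bool) :
    ∀ k : Fin n, ((↑(tb (F := F) e0 e1 h b)⁻¹ : Matrix (Fin n) (Fin n) F) *ᵥ
      ((tb (F := F) e0 e1 h b : Matrix (Fin n) (Fin n) F) *ᵥ Pi.single k 1)) = Pi.single k 1 :=
  fun k => inv_mulVec_mulVec _ _

theorem mem_W_tb (e0 e1 : Fin n) (h : e0 ≠ e1) (b : Bool) (σ : Equiv.Perm (Fin n)) (i : ℕ) (v : Fin n → F) :
    v ∈ W (tb (F := F) e0 e1 h b * gperm σ) i ↔
      ∀ j : Fin n, i ≤ (j : ℕ) → ((↑(tb (F := F) e0 e1 h b)⁻¹ : Matrix (Fin n) (Fin n) F) *ᵥ v) (σ j) = 0 := by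
  rw [mem_W]
  refine forall₂_congr fun j _ => ?_
  rw [_root_.mul_inv_rev, Units.val_mul, ← Matrix.mulVec_mulVec, gperm_inv_mulVec]

/-- Two valid switched permutations with the same flag are equal. -/
theorem flag_injective (e0 e1 : Fin n) (h : e0 ≠ e1) {σ τ : Equiv.Perm (Fin n)} {b c : Bool}
    (hb : b = true → σ.symm e1 < σ.symm e0) (hc : c = true → τ.symm e1 < τ.symm e0)
    (hW : ∀ i ≤ n, W (tb (F := F) e0 e1 h b * gperm σ) i = W (tb (F := F) e0 e1 h c * gperm τ) i) :
    σ = τ ∧ b = c := by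
  have single_mem : ∀ (d : Bool) (π : Equiv.Perm (Fin n)) (k : Fin n) (i : ℕ),
      (tb (F := F) e0 e1 h d : Matrix (Fin n) (Fin n) F) *ᵥ Pi.single k 1 ∈
        W (tb (F := F) e0 e1 h d * gperm π) i ↔ (π.symm k : ℕ) < i := by
    intro d π k i
    rw [mem_W_tb, inv_mulVec_mulVec]
    constructor
    · intro hh
      by_contra hlt
      have h2 := hh (π.symm k) (by omega)
      rw [Equiv.apply_symm_apply, Pi.single_eq_same] at h2
      exact one_ne_zero h2
    · intro hlt j hj
      rw [Pi.single_apply, if_neg]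
      intro e
      rw [← e, Equiv.symm_apply_apply] at hlt
      omega
  have same : b = c → σ = τ := by
    intro e
    subst e
    have : σ.symm = τ.symm := by
      ext k
      apply le_antisymm
      · by_contra hlt
        push Not at hlt
        have h1 := (single_mem b τ k ((τ.symm k : ℕ) + 1)).2 (by omega)
        rw [← hW _ (by omega)] at h1
        have := (single_mem b σ k _).1 h1
        omega
      · by_contra hlt
        push Not at hlt
        have h1 := (single_mem b σ k ((σ.symm k : ℕ) + 1)).2 (by omega)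
        rw [hW _ (by omega)] at h1
        have := (single_mem b τ k _).1 h1
        omega
    simpa using congrArg Equiv.symm this
  have diff : ∀ (π ρ : Equiv.Perm (Fin n)), π.symm e1 < π.symm e0 →
      (∀ i ≤ n, W (tb (F := F) e0 e1 h true * gperm π) i = W (tb (F := F) e0 e1 h false * gperm ρ) i) → False := by
    intro π ρ hπ heq
    have hπ' : (π.symm e1 : ℕ) < π.symm e0 := hπ
    set i := (π.symm e1 : ℕ) + 1 with hi
    have hin : i ≤ n := by omega
    have h1 := (single_mem true π e1 i).2 (by omega)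
    rw [heq i hin, mem_W_tb] at h1
    have h2 : (ρ.symm e0 : ℕ) < i := by
      by_contra hlt
      have h3 := h1 (ρ.symm e0) (by omega)
      rw [Equiv.apply_symm_apply, tb_inv_mulVec] at h3
      have h4 : ((tb (F := F) e0 e1 h true : Matrix (Fin n) (Fin n) F) *ᵥ Pi.single e1 1) e0 = 1 := by
        show ((if true then Matrix.transvection e0 e1 1 else 1 : Matrix (Fin n) (Fin n) F) *ᵥ Pi.single e1 1) e0 = 1
        simp [Matrix.transvection, Matrix.add_mulVec, h]
      simp [h4] at h3
    have h5 : (Pi.single e0 1 : Fin n → F) ∈ W (tb (F := F) e0 e1 h false * gperm ρ) i := by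
      rw [mem_W_tb]
      intro j hj
      rw [tb_inv_mulVec, if_neg (by simp), Pi.single_apply, if_neg]
      intro e
      rw [← e, Equiv.symm_apply_apply] at h2
      omega
    rw [← heq i hin, mem_W_tb] at h5
    have h6 := h5 (π.symm e0) (by omega)
    rw [Equiv.apply_symm_apply, tb_inv_mulVec] at h6
    simp [h.symm] at h6
  cases b <;> cases c
  · exact ⟨same rfl, rfl⟩
  · exact (diff τ σ (hc rfl) fun i hi => (hW i hi).symm).elim
  · exact (diff σ τ (hb rfl) hW).elim
  · exact ⟨same rfl, rfl⟩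

/-- The level as a coordinate set. -/
theorem W_eq_coord (e0 e1 : Fin n) (h : e0 ≠ e1) (b : Bool) (σ : Equiv.Perm (Fin n)) (i : ℕ)
    (S : Finset (Fin n)) (hS : S = Finset.univ.filter fun k => (σ.symm k : ℕ) < i) (v : Fin n → F) :
    v ∈ W (tb (F := F) e0 e1 h b * gperm σ) i ↔
      ∀ k ∉ S, (if (b && decide (e1 ∈ S ∧ e0 ∉ S)) = true ∧ k = e0 then v k - v e1 else v k) = 0 := by
  rw [mem_W_tb]
  have hS' : ∀ k, k ∉ S ↔ i ≤ (σ.symm k : ℕ) := fun k => by subst hS; simp
  have key : ∀ k, (∀ k' ∉ S, (if b = true ∧ k' = e0 then v k' - v e1 else v k') = 0) → k ∉ S →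
      (if (b && decide (e1 ∈ S ∧ e0 ∉ S)) = true ∧ k = e0 then v k - v e1 else v k) = 0 := by
    intro k hh hk
    have h1 := hh k hk
    by_cases hb : b = true ∧ k = e0
    · obtain ⟨hb, rfl⟩ := hb
      subst hb
      by_cases he : e1 ∈ S
      · simpa [he, hk] using h1
      · have h2 := hh e1 he
        rw [if_neg (fun e => h e.2.symm)] at h2
        simpa [he, h2] using h1
    · rw [if_neg (fun e => hb ⟨by simp only [Bool.and_eq_true] at e; exact e.1.1, e.2⟩)]
      rwa [if_neg hb] at h1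
  constructor
  · intro hh k hk
    refine key k (fun k' hk' => ?_) hk
    have := hh (σ.symm k') ((hS' k').1 hk')
    rwa [Equiv.apply_symm_apply, tb_inv_mulVec] at this
  · intro hh j hj
    have hk : σ j ∉ S := (hS' _).2 (by simpa using hj)
    rw [tb_inv_mulVec]
    have h1 := hh _ hk
    by_cases hb : b = true ∧ σ j = e0
    · obtain ⟨hb, he0⟩ := hb
      subst hb
      rw [if_pos ⟨rfl, he0⟩]
      by_cases he : e1 ∈ S
      · simpa [he0, he, he0 ▸ hk] using h1
      · have h2 := hh e1 he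
        rw [if_neg (fun e => h e.2.symm)] at h2
        simpa [he0, he, h2] using h1
    · rw [if_neg hb]
      rwa [if_neg (fun e => hb ⟨by simp only [Bool.and_eq_true] at e; exact e.1.1, e.2⟩)] at h1

section two

variable [Fintype F]

/-- In dimension two every vector spans the first level of some flag. -/
theorem exists_line (v : Fin 2 → F) (hv : v ≠ 0) :
    ∃ g : GL (Fin 2) F, ∀ w : Fin 2 → F, w ∈ W g 1 ↔ ∃ t : F, w = t • v := by
  obtain ⟨g, hg⟩ : ∃ g : GL (Fin 2) F, (g : Matrix (Fin 2) (Fin 2) F) *ᵥ Pi.single 0 1 = v := by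
    by_cases h0 : v 0 = 0
    · have h1 : v 1 ≠ 0 := fun h1 => hv (funext fun i => by fin_cases i <;> assumption)
      refine ⟨Matrix.GeneralLinearGroup.mkOfDetNeZero !![0, 1; v 1, 0] (by simp [Matrix.det_fin_two, h1]), ?_⟩
      funext i
      fin_cases i <;> simp [h0]
    · refine ⟨Matrix.GeneralLinearGroup.mkOfDetNeZero !![v 0, 0; v 1, 1] (by simp [Matrix.det_fin_two, h0]), ?_⟩
      funext i
      fin_cases i <;> simp
  refine ⟨g, fun w => ⟨fun hw => ?_, ?_⟩⟩
  · refine ⟨((↑g⁻¹ : Matrix (Fin 2) (Fin 2) F) *ᵥ w) 0, ?_⟩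
    rw [← hg, ← Matrix.mulVec_smul]
    conv_lhs => rw [← mulVec_inv_mulVec g w]
    congr 1
    funext i
    fin_cases i
    · simp
    · simpa using hw 1 le_rfl
  · rintro ⟨t, rfl⟩
    refine (W g 1).smul_mem t ?_
    rw [← hg, mem_W, inv_mulVec_mulVec]
    intro j hj
    rw [Pi.single_apply, if_neg]
    rintro rfl
    simp at hj

/-- The commutant of a matrix without eigenvectors. -/
theorem commutant {a h : Matrix (Fin 2) (Fin 2) F} (ha : a 1 0 ≠ 0) (hc : h * a = a * h) :
    ∃ x y : F, h = x • 1 + y • a := by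
  refine ⟨h 0 0 - h 1 0 / a 1 0 * a 0 0, h 1 0 / a 1 0, ?_⟩
  have e0 := congrFun (congrFun hc 0) 0
  have e1 := congrFun (congrFun hc 1) 0
  simp only [Matrix.mul_apply, Fin.sum_univ_two] at e0 e1
  ext i j
  fin_cases i <;> fin_cases j <;> simp <;> field_simp
  · linear_combination e0
  · linear_combination e1

/-- A diagonal matrix does not commute with a regular unipotent element, even up to a scalar. -/
theorem diag_not_commute {D : GL (Fin 2) F} (h01 : (D : Matrix (Fin 2) (Fin 2) F) 0 1 = 0)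
    (h10 : (D : Matrix (Fin 2) (Fin 2) F) 1 0 = 0)
    (hne : (D : Matrix (Fin 2) (Fin 2) F) 0 0 ≠ (D : Matrix (Fin 2) (Fin 2) F) 1 1)
    (g : GL (Fin 2) F) {d : F}
    (h : (D : Matrix (Fin 2) (Fin 2) F) * uu g = d • ((uu g : Matrix (Fin 2) (Fin 2) F) * D)) : False := by
  set K := (g : Matrix (Fin 2) (Fin 2) F) * shift F 2 * (↑g⁻¹ : Matrix (Fin 2) (Fin 2) F) with hK
  have hu : (uu g : Matrix (Fin 2) (Fin 2) F) = 1 + K := by
    rw [uu, Units.val_mul, Units.val_mul, coe_u1, mul_add, add_mul, mul_one, Units.mul_inv]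
  have hKn : IsNilpotent K := isNilpotent_conj g shift_isNilpotent
  rw [hu] at h
  have h1 : (D : Matrix (Fin 2) (Fin 2) F) * K * (↑D⁻¹ : Matrix (Fin 2) (Fin 2) F) = (d - 1) • 1 + d • K := by
    have h2 := congrArg (· * (↑D⁻¹ : Matrix (Fin 2) (Fin 2) F)) h
    simp only [mul_add, mul_one, add_mul, one_mul, smul_mul_assoc, Units.mul_inv, mul_assoc, smul_add] at h2
    simp only [sub_smul, one_smul, mul_assoc]
    rw [eq_sub_of_add_eq' h2]
    abel
  have hd : d = 1 := sub_eq_zero.1 (scalar_eq_zero (isNilpotent_conj D hKn) (hKn.smul d) h1)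
  subst hd
  simp only [one_smul, mul_add, add_mul, mul_one, one_mul, add_right_inj] at h
  have e01 := congrFun (congrFun h 0) 1
  have e10 := congrFun (congrFun h 1) 0
  simp only [Matrix.mul_apply, Fin.sum_univ_two, h01, h10, zero_mul, mul_zero, add_zero, zero_add] at e01 e10
  have k01 : K 0 1 = 0 := by
    by_contra hk
    exact hne (mul_right_cancel₀ hk (e01.trans (mul_comm _ _)))
  have k10 : K 1 0 = 0 := by
    by_contra hk
    exact hne (mul_right_cancel₀ hk (e10.trans (mul_comm _ _))).symm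
  have hK2 : K ^ 2 = 0 := by
    rw [hK, Units.conj_pow, shift_pow_n, mul_zero, zero_mul]
  have q0 := congrFun (congrFun hK2 0) 0
  have q1 := congrFun (congrFun hK2 1) 1
  simp [pow_two, Matrix.mul_apply, Fin.sum_univ_two, k01, k10] at q0 q1
  refine uu_not_center le_rfl g (mem_center_iff_smul.2 ⟨1, ?_⟩)
  rw [hu, one_smul]
  ext i j
  fin_cases i <;> fin_cases j <;> simp [k01, k10, q0, q1]

/-- An element swapping the two coordinate lines squares to a scalar. -/
theorem sq_center_of_diag {e D : GL (Fin 2) F} (h01 : (D : Matrix (Fin 2) (Fin 2) F) 0 1 = 0)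
    (h10 : (D : Matrix (Fin 2) (Fin 2) F) 1 0 = 0)
    (hne : (D : Matrix (Fin 2) (Fin 2) F) 0 0 ≠ (D : Matrix (Fin 2) (Fin 2) F) 1 1)
    (he : (e : Matrix (Fin 2) (Fin 2) F) 1 0 ≠ 0) {d : F}
    (h : (e : Matrix (Fin 2) (Fin 2) F) * D = d • ((D : Matrix (Fin 2) (Fin 2) F) * e)) :
    e ^ 2 ∈ Subgroup.center (GL (Fin 2) F) := by
  have h00 := congrFun (congrFun h 0) 0
  have h1 := congrFun (congrFun h 1) 0
  have h11 := congrFun (congrFun h 1) 1
  simp only [Matrix.mul_apply, Fin.sum_univ_two, h01, h10, zero_mul, mul_zero, add_zero, zero_add,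
    Matrix.smul_apply, smul_eq_mul] at h00 h1 h11
  set a := (D : Matrix (Fin 2) (Fin 2) F) 0 0
  set b := (D : Matrix (Fin 2) (Fin 2) F) 1 1
  have hab : a = d * b := mul_left_cancel₀ he (by linear_combination h1)
  have hb : b ≠ 0 := fun hb => hne (by rw [hab, hb, mul_zero])
  have hd : d ≠ 1 := fun hd => hne (by rw [hab, hd, one_mul])
  have hd0 : (1 - d) ≠ 0 := sub_ne_zero.2 hd.symm
  have ha : a ≠ 0 := by
    intro ha
    have hdet : IsUnit (Matrix.det (D : Matrix (Fin 2) (Fin 2) F)) :=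
      (Matrix.isUnit_iff_isUnit_det _).1 D.isUnit
    rw [Matrix.det_fin_two, h01, h10] at hdet
    simp [show (D : Matrix (Fin 2) (Fin 2) F) 0 0 = 0 from ha] at hdet
  have e00 : (e : Matrix (Fin 2) (Fin 2) F) 0 0 = 0 := by
    have : (e : Matrix (Fin 2) (Fin 2) F) 0 0 * ((1 - d) * a) = 0 := by linear_combination h00
    exact (mul_eq_zero.1 this).resolve_right (mul_ne_zero hd0 ha)
  have e11 : (e : Matrix (Fin 2) (Fin 2) F) 1 1 = 0 := by
    have : (e : Matrix (Fin 2) (Fin 2) F) 1 1 * ((1 - d) * b) = 0 := by linear_combination h11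
    exact (mul_eq_zero.1 this).resolve_right (mul_ne_zero hd0 hb)
  refine mem_center_iff_smul.2 ⟨(e : Matrix (Fin 2) (Fin 2) F) 0 1 * (e : Matrix (Fin 2) (Fin 2) F) 1 0, ?_⟩
  rw [Units.val_pow_eq_pow_val, pow_two]
  ext i j
  fin_cases i <;> fin_cases j <;> simp [Matrix.mul_apply, Fin.sum_univ_two, e00, e11, mul_comm]

/-- What commutes up to a scalar with a general diagonal element is diagonal. -/
theorem diag_of_commute {y z : GL (Fin 2) F} (h01 : (y : Matrix (Fin 2) (Fin 2) F) 0 1 = 0)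
    (h10 : (y : Matrix (Fin 2) (Fin 2) F) 1 0 = 0)
    (hsq : ((y : Matrix (Fin 2) (Fin 2) F) 0 0) ^ 2 ≠ ((y : Matrix (Fin 2) (Fin 2) F) 1 1) ^ 2) {c : F}
    (h : (z : Matrix (Fin 2) (Fin 2) F) * y = c • ((y : Matrix (Fin 2) (Fin 2) F) * z)) :
    (z : Matrix (Fin 2) (Fin 2) F) 0 1 = 0 ∧ (z : Matrix (Fin 2) (Fin 2) F) 1 0 = 0 := by
  have h1 := congrFun (congrFun h 0) 1
  have h2 := congrFun (congrFun h 1) 0
  have h00 := congrFun (congrFun h 0) 0
  simp only [Matrix.mul_apply, Fin.sum_univ_two, h01, h10, zero_mul, mul_zero, add_zero, zero_add,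
    Matrix.smul_apply, smul_eq_mul] at h1 h2 h00
  set l := (y : Matrix (Fin 2) (Fin 2) F) 0 0
  set m := (y : Matrix (Fin 2) (Fin 2) F) 1 1
  have hlm : l ≠ m := fun e => hsq (by rw [e])
  have hdetz : (z : Matrix (Fin 2) (Fin 2) F) 0 0 * (z : Matrix (Fin 2) (Fin 2) F) 1 1 -
      (z : Matrix (Fin 2) (Fin 2) F) 0 1 * (z : Matrix (Fin 2) (Fin 2) F) 1 0 ≠ 0 := by
    rw [← Matrix.det_fin_two]
    exact ((Matrix.isUnit_iff_isUnit_det _).1 z.isUnit).ne_zero
  by_cases hc : c = 1
  · subst hc
    constructor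
    · have : (z : Matrix (Fin 2) (Fin 2) F) 0 1 * (m - l) = 0 := by linear_combination h1
      exact (mul_eq_zero.1 this).resolve_right (sub_ne_zero.2 hlm.symm)
    · have : (z : Matrix (Fin 2) (Fin 2) F) 1 0 * (l - m) = 0 := by linear_combination h2
      exact (mul_eq_zero.1 this).resolve_right (sub_ne_zero.2 hlm)
  · exfalso
    have hl : l ≠ 0 := by
      intro hl
      have hdet : IsUnit (Matrix.det (y : Matrix (Fin 2) (Fin 2) F)) :=
        (Matrix.isUnit_iff_isUnit_det _).1 y.isUnit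
      rw [Matrix.det_fin_two, h01, h10] at hdet
      simp [show (y : Matrix (Fin 2) (Fin 2) F) 0 0 = 0 from hl] at hdet
    have z00 : (z : Matrix (Fin 2) (Fin 2) F) 0 0 = 0 := by
      have : (z : Matrix (Fin 2) (Fin 2) F) 0 0 * ((1 - c) * l) = 0 := by linear_combination h00
      exact (mul_eq_zero.1 this).resolve_right (mul_ne_zero (sub_ne_zero.2 (Ne.symm hc)) hl)
    rw [z00, zero_mul, zero_sub, neg_ne_zero, mul_ne_zero_iff] at hdetz
    have a1 : m = c * l := mul_left_cancel₀ hdetz.1 (by linear_combination h1)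
    have a2 : l = c * m := mul_left_cancel₀ hdetz.2 (by linear_combination h2)
    refine hsq ?_
    calc l ^ 2 = l * (c * m) := by rw [← a2]; ring
      _ = (c * l) * m := by ring
      _ = m ^ 2 := by rw [← a1]; ring

/-- The invertible matrices commuting with one without eigenvectors. -/
theorem elliptic_centralizer (a : GL (Fin 2) F)
    (hno : ∀ v : Fin 2 → F, v ≠ 0 → ∀ c : F, (a : Matrix (Fin 2) (Fin 2) F) *ᵥ v ≠ c • v) :
    Nat.card ↥(Subgroup.centralizer ({a} : Set (GL (Fin 2) F))) = Fintype.card F ^ 2 - 1 ∧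
    (∃ (R : Type u) (_ : CommRing R) (_ : IsDomain R)
      (φ : ↥(Subgroup.centralizer ({a} : Set (GL (Fin 2) F))) →* R), Function.Injective φ) := by
  classical
  have ha : (a : Matrix (Fin 2) (Fin 2) F) 1 0 ≠ 0 := by
    intro h
    refine hno (Pi.single 0 1) (by simp) ((a : Matrix (Fin 2) (Fin 2) F) 0 0) ?_
    funext i
    fin_cases i <;> simp [h]
  have hinj : ∀ x y : F, (x ≠ 0 ∨ y ≠ 0) → ∀ v : Fin 2 → F,
      (x • (1 : Matrix (Fin 2) (Fin 2) F) + y • (a : Matrix (Fin 2) (Fin 2) F)) *ᵥ v = 0 → v = 0 := by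
    intro x y hxy v hv
    by_contra hv0
    rw [Matrix.add_mulVec, Matrix.smul_mulVec, Matrix.smul_mulVec, Matrix.one_mulVec] at hv
    by_cases hy : y = 0
    · rw [hy, zero_smul, add_zero, smul_eq_zero] at hv
      exact hv.elim (hxy.resolve_right (by simpa using hy)) hv0
    · refine hno v hv0 (-(x / y)) ?_
      rw [add_eq_zero_iff_eq_neg'] at hv
      rw [← inv_smul_smul₀ hy ((a : Matrix (Fin 2) (Fin 2) F) *ᵥ v), hv, smul_neg, smul_smul, neg_smul,
        div_eq_inv_mul]
  have hrepr : ∀ h : Matrix (Fin 2) (Fin 2) F, h * a = a * h →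
      ∃ x y : F, h = x • 1 + y • (a : Matrix (Fin 2) (Fin 2) F) := fun h hc => commutant ha hc
  refine ⟨?_, ?_⟩
  · have hunit : ∀ z : {z : F × F // z ≠ 0}, IsUnit (z.1.1 • (1 : Matrix (Fin 2) (Fin 2) F) +
        z.1.2 • (a : Matrix (Fin 2) (Fin 2) F)) := by
      intro z
      rw [← Matrix.mulVec_injective_iff_isUnit]
      intro v w hvw
      rw [← sub_eq_zero]
      refine hinj _ _ ?_ _ (by rw [Matrix.mulVec_sub, sub_eq_zero]; exact hvw)
      by_contra! hcon
      exact z.2 (Prod.ext hcon.1 hcon.2)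
    let f : {z : F × F // z ≠ 0} → ↥(Subgroup.centralizer ({a} : Set (GL (Fin 2) F))) := fun z =>
      ⟨(hunit z).unit, Subgroup.mem_centralizer_singleton_iff.2 (Units.ext (by
        simp [mul_add, add_mul]))⟩
    have hbij : Function.Bijective f := by
      constructor
      · intro z w hzw
        have h := congrArg (fun t : ↥(Subgroup.centralizer ({a} : Set (GL (Fin 2) F))) => ((t : GL (Fin 2) F) : Matrix (Fin 2) (Fin 2) F)) hzw
        simp only [f, IsUnit.unit_spec] at h
        have h10 := congrFun (congrFun h 1) 0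
        simp [ha] at h10
        have h00 := congrFun (congrFun h 0) 0
        simp [h10] at h00
        exact Subtype.ext (Prod.ext h00 h10)
      · rintro ⟨h, hh⟩
        obtain ⟨x, y, hxy⟩ := hrepr _ (congrArg Units.val (Subgroup.mem_centralizer_singleton_iff.1 hh))
        refine ⟨⟨(x, y), fun e => ?_⟩, Subtype.ext (Units.ext ?_)⟩
        · obtain ⟨rfl, rfl⟩ := Prod.ext_iff.1 e
          rw [Prod.fst_zero, Prod.snd_zero, zero_smul, zero_smul, add_zero] at hxy
          exact h.ne_zero hxy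
        · simp only [f, IsUnit.unit_spec]
          exact hxy.symm
    rw [← Nat.card_congr (Equiv.ofBijective f hbij), Nat.card_eq_fintype_card,
      Fintype.card_subtype_compl, Fintype.card_subtype_eq, Fintype.card_prod, sq]
  · let R := Subring.centralizer ({(a : Matrix (Fin 2) (Fin 2) F)} : Set (Matrix (Fin 2) (Fin 2) F))
    have hR : ∀ h : R, ∃ x y : F, (h : Matrix (Fin 2) (Fin 2) F) = x • 1 + y • (a : Matrix (Fin 2) (Fin 2) F) :=
      fun h => hrepr _ ((Subring.mem_centralizer_iff.1 h.2 _ rfl).symm)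
    letI : CommRing R := { (inferInstance : Ring R) with
      mul_comm := fun u v => by
        obtain ⟨x, y, hu⟩ := hR u
        obtain ⟨x', y', hv⟩ := hR v
        refine Subtype.ext ?_
        show (u : Matrix (Fin 2) (Fin 2) F) * v = v * u
        rw [hu, hv]
        simp only [mul_add, add_mul, smul_mul_assoc, mul_smul_comm, one_mul, mul_one, smul_smul]
        module }
    haveI : Nontrivial R := ⟨0, 1, fun e => zero_ne_one (congrArg (fun t : R => (t : Matrix (Fin 2) (Fin 2) F) 0 0) e |>.trans (by simp))⟩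
    haveI : NoZeroDivisors R := ⟨fun {u v} huv => by
      obtain ⟨x, y, hu⟩ := hR u
      by_cases hxy : x ≠ 0 ∨ y ≠ 0
      · refine Or.inr (Subtype.ext ?_)
        apply Matrix.ext_of_mulVec_single
        intro i
        rw [show ((0 : R) : Matrix (Fin 2) (Fin 2) F) = 0 from rfl, Matrix.zero_mulVec]
        refine hinj x y hxy _ ?_
        rw [← hu, Matrix.mulVec_mulVec, show (u : Matrix (Fin 2) (Fin 2) F) * v = 0 from congrArg Subtype.val huv,
          Matrix.zero_mulVec]
      · push Not at hxy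
        exact Or.inl (Subtype.ext (by rw [hu, hxy.1, hxy.2]; simp))⟩
    haveI : IsDomain R := NoZeroDivisors.to_isDomain R
    refine ⟨R, inferInstance, inferInstance,
      { toFun := fun h => ⟨((h : GL (Fin 2) F) : Matrix (Fin 2) (Fin 2) F), Subring.mem_centralizer_iff.2 (by
          rintro _ rfl
          exact (congrArg Units.val (Subgroup.mem_centralizer_singleton_iff.1 h.2)).symm)⟩
        map_one' := rfl
        map_mul' := fun _ _ => rfl }, fun h k e => Subtype.ext (Units.ext (congrArg Subtype.val e))⟩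

end two

end

end Cfsg.Lib.Solv.NilCover
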