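import Mathlib
import Cfsg.Prelude.Def_LocalEven
import Cfsg.Agent.Lib.Solv.Cores
import Cfsg.Agent.Lib.PStable.Stable

/-!
# Stability of groups of odd order
-/

set_option autoImplicit false

namespace Cfsg.Lib.Solv

open Subgroup

universe u

variable {G : Type u} [Group G] [Finite G] {p : ℕ} [Fact p.Prime]

theorem not_involves_qd_of_odd (hodd : Odd (Nat.card G)) (hp : p ≠ 2) : ¬ Cfsg.Involves ↥(Cfsg.qd p) G := by
  rintro ⟨K, R, hn, ⟨e⟩⟩
  haveI : Fact (2 < p) := ⟨lt_of_le_of_ne (Fact.out : p.Prime).two_le (Ne.symm hp)⟩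
  let d : ↥(Cfsg.qd p) := ⟨Cfsg.Lib.PStable.aff (-1) 0, Cfsg.Lib.PStable.aff_mem _ _⟩
  have hd2 : d ^ 2 = 1 := Subtype.ext (by
    show Cfsg.Lib.PStable.aff (-1) 0 ^ 2 = 1
    rw [sq, Cfsg.Lib.PStable.aff_lin_mul, neg_mul_neg, one_mul, Cfsg.Lib.PStable.aff_one_zero])
  have hd1 : d ≠ 1 := fun h => by
    have h1 := congr_arg Subtype.val h
    have h2 := congr_arg (fun M : Matrix.SpecialLinearGroup (Fin 3) (ZMod p) => (M : Matrix (Fin 3) (Fin 3) (ZMod p)) 0 0) h1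
    simp [d, Cfsg.Lib.PStable.aff] at h2
    exact ZMod.neg_one_ne_one h2
  have h1 : orderOf (e.symm d) = 2 := by
    rw [e.symm.orderOf_eq]
    exact orderOf_eq_prime hd2 hd1
  have h2 : 2 ∣ Nat.card G := by
    rw [← h1]
    exact (_root_.orderOf_dvd_natCard _).trans ((card_quotient_dvd_card _).trans (card_subgroup_dvd_card K))
  exact (Nat.not_even_iff_odd.2 hodd) (even_iff_two_dvd.2 h2)

theorem normalizerPStable_of_odd (hodd : Odd (Nat.card G)) (hp : p ≠ 2) : Cfsg.IsNormalizerPStable p G :=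
  Cfsg.Lib.PStable.normalizerPStable_of_free hp (not_involves_qd_of_odd hodd hp)

/-- A quadratic element on a normal `p`-subgroup lies in a normal subgroup acting on it as a `p`-group. -/
theorem quadratic_mem_normal (hst : Cfsg.IsNormalizerPStable p G) (P : Subgroup G) [P.Normal] (hP : IsPGroup p P)
    (a : G) (hq : ⁅⁅P, zpowers a⁆, zpowers a⁆ = ⊥) :
    ∃ M : Subgroup G, M.Normal ∧ a ∈ M ∧ ∀ m ∈ M, ∃ k, m ^ p ^ k ∈ centralizer (P : Set G) := by
  set N := normalizer (P : Set G) with hN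
  have hNt : N = ⊤ := normalizer_eq_top P
  have ha : a ∈ N := hNt ▸ mem_top a
  have h := hst P hP a ha hq
  set C := (centralizer (P : Set G)).subgroupOf N with hC
  set M₀ := (Cfsg.pCore p (↥N ⧸ C)).comap (QuotientGroup.mk' C) with hM₀
  refine ⟨M₀.map N.subtype, ?_, ⟨⟨a, ha⟩, h, rfl⟩, ?_⟩
  · refine (inferInstance : M₀.Normal).map N.subtype fun g => ⟨⟨g, hNt ▸ mem_top g⟩, rfl⟩
  · rintro _ ⟨m, hm, rfl⟩
    obtain ⟨k, hk⟩ := isPGroup_pCore (G := ↥N ⧸ C) p ⟨QuotientGroup.mk' C m, hm⟩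
    have h1 : QuotientGroup.mk' C m ^ p ^ k = 1 := congr_arg Subtype.val hk
    rw [← map_pow, QuotientGroup.mk'_apply, QuotientGroup.eq_one_iff] at h1
    exact ⟨k, mem_subgroupOf.1 h1⟩

end Cfsg.Lib.Solv
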