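import Mathlib
import Cfsg.Prelude.Def_Transfer
import Cfsg.Agent.Lib.Transfer.PGroupNormal
import Cfsg.Agent.S0126

/-!
An odd `p`-group acting on an abelian `p'`-group is trivial when the group is the product of the
fixed points of any element of one generating set and of any element of another.
-/

set_option autoImplicit false

open scoped Classical

namespace Cfsg.Lib.Solv.PairwiseFixed

variable {p : ℕ} [Fact p.Prime]

section

variable {V : Type*} [CommGroup V] [Finite V]

/-- Fixed points of an automorphism. -/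
def fixed (a : MulAut V) : Subgroup V where
  carrier := {v | a v = v}
  one_mem' := map_one a
  mul_mem' := fun {x y} hx hy => by
    show a (x * y) = x * y
    rw [map_mul, hx, hy]
  inv_mem' := fun {x} hx => by
    show a x⁻¹ = x⁻¹
    rw [map_inv, hx]

theorem mem_fixed {a : MulAut V} {v : V} : v ∈ fixed a ↔ a v = v := Iff.rfl

theorem eq_one_of_pow (hcop : (Nat.card V).Coprime p) {v : V} (h : v ^ p = 1) : v = 1 := by
  have h1 : orderOf v ∣ 1 :=
    hcop ▸ Nat.dvd_gcd (orderOf_dvd_natCard v) (orderOf_dvd_of_pow_eq_one h)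
  exact orderOf_eq_one_iff.1 (Nat.dvd_one.1 h1)

/-- The product of the translates of `v` under the powers of `a`. -/
def norm (p : ℕ) (a : MulAut V) : V →* V where
  toFun v := ∏ i ∈ Finset.range p, (a ^ i) v
  map_one' := by simp
  map_mul' x y := by simp [Finset.prod_mul_distrib]

omit [Fact p.Prime] [Finite V] in
theorem norm_apply (a : MulAut V) (v : V) : norm p a v = ∏ i ∈ Finset.range p, (a ^ i) v := rfl

omit [Finite V] in
theorem norm_mem_fixed {a : MulAut V} (ha : a ^ p = 1) (v : V) : a (norm p a v) = norm p a v := by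
  have hp : 0 < p := (Fact.out : p.Prime).pos
  have h1 : ∏ i ∈ Finset.range p, (a ^ (i + 1)) v = ∏ i ∈ Finset.range p, (a ^ i) v := by
    have e1 := Finset.prod_range_succ (fun i => (a ^ i) v) p
    have e2 := Finset.prod_range_succ' (fun i => (a ^ i) v) p
    rw [e1, ha, pow_zero] at e2
    exact (mul_right_cancel e2).symm
  rw [norm_apply, map_prod]
  refine Eq.trans ?_ h1
  exact Finset.prod_congr rfl fun i _ => by rw [pow_succ', MulAut.mul_apply]

omit [Fact p.Prime] [Finite V] in
theorem pow_apply_of_fixed {a : MulAut V} {v : V} (h : a v = v) (i : ℕ) : (a ^ i) v = v := by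
  induction i with
  | zero => rfl
  | succ i ih => rw [pow_succ, MulAut.mul_apply, h, ih]

omit [Fact p.Prime] [Finite V] in
theorem norm_of_fixed {a : MulAut V} {v : V} (h : a v = v) : norm p a v = v ^ p := by
  rw [norm_apply, Finset.prod_congr rfl fun i _ => pow_apply_of_fixed h i, Finset.prod_const,
    Finset.card_range]

omit [Fact p.Prime] [Finite V] in
theorem map_norm {a b : MulAut V} (v : V) : b (norm p a v) = norm p (b * a * b⁻¹) (b v) := by
  rw [norm_apply, norm_apply, map_prod]
  exact Finset.prod_congr rfl fun i _ => by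
    rw [conj_pow, MulAut.mul_apply, MulAut.mul_apply, MulAut.inv_apply_self]

/-- Fixed points of an elementary plane: every element fixed by the conjugates is trivial. -/
theorem eq_one_of_norms (hcop : (Nat.card V).Coprime p) {e z : MulAut V} (hez : Commute e z)
    (hz : z ^ p = 1) (hfpf : ∀ v, z v = v → v = 1) {v : V}
    (h : ∀ j < p, norm p (e * z ^ j) v = 1) : v = 1 := by
  have hp : 0 < p := (Fact.out : p.Prime).pos
  have h1 : ∏ j ∈ Finset.range p, norm p (e * z ^ j) v = 1 :=
    Finset.prod_eq_one fun j hj => h j (Finset.mem_range.1 hj)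
  simp only [norm_apply] at h1
  rw [Finset.prod_comm, Finset.prod_eq_single 0] at h1
  · simp only [pow_zero, MulAut.one_apply, Finset.prod_const, Finset.card_range] at h1
    exact eq_one_of_pow hcop h1
  · intro i hi hi0
    have hip : ¬ p ∣ i := fun hd => hi0 (Nat.eq_zero_of_dvd_of_lt hd (Finset.mem_range.1 hi))
    have hco : Nat.Coprime i p := ((Fact.out : p.Prime).coprime_iff_not_dvd.2 hip).symm
    have e1 : ∏ j ∈ Finset.range p, ((e * z ^ j) ^ i) v = (e ^ i) (norm p (z ^ i) v) := by
      rw [norm_apply, map_prod]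
      refine Finset.prod_congr rfl fun j _ => ?_
      rw [(hez.pow_right j).mul_pow, MulAut.mul_apply, ← pow_mul, ← pow_mul, mul_comm j i]
    have e2 : norm p (z ^ i) v = 1 := by
      have h2 := norm_mem_fixed (a := z ^ i) (by rw [← pow_mul, mul_comm, pow_mul, hz, one_pow]) v
      obtain ⟨m, hm⟩ := exists_pow_eq_self_of_coprime (x := z) (n := i)
        (Nat.Coprime.coprime_dvd_right (orderOf_dvd_of_pow_eq_one hz) hco)
      refine hfpf _ ?_
      nth_rewrite 1 [← hm]
      exact pow_apply_of_fixed h2 m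
    rw [e1, e2, map_one]
  · intro h0
    exact absurd (Finset.mem_range.2 hp) h0

end

/-- The restriction of an action to an invariant subgroup. -/
def restrict {P V : Type*} [Group P] [CommGroup V] (φ : P →* MulAut V) (F : Subgroup V)
    (hF : ∀ g, ∀ v ∈ F, φ g v ∈ F) : P →* MulAut F :=
  MonoidHom.mk' (fun g =>
    { toFun := fun v => ⟨φ g (v : V), hF g (v : V) v.2⟩
      invFun := fun v => ⟨φ g⁻¹ (v : V), hF g⁻¹ (v : V) v.2⟩
      left_inv := fun v => Subtype.ext (by
        show φ g⁻¹ (φ g (v : V)) = (v : V)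
        rw [← MulAut.mul_apply, ← map_mul, inv_mul_cancel, map_one, MulAut.one_apply])
      right_inv := fun v => Subtype.ext (by
        show φ g (φ g⁻¹ (v : V)) = (v : V)
        rw [← MulAut.mul_apply, ← map_mul, mul_inv_cancel, map_one, MulAut.one_apply])
      map_mul' := fun x y => Subtype.ext (map_mul (φ g) (x : V) (y : V)) })
    fun g h => MulEquiv.ext fun v => Subtype.ext (by
      show φ (g * h) (v : V) = φ g (φ h (v : V))
      rw [map_mul, MulAut.mul_apply])

/-- The hypothesis on the two generating sets. -/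
def Pairwise {P V : Type*} [Group P] [CommGroup V] (φ : P →* MulAut V) (C D : Set P) : Prop :=
  ∀ v : V, ∀ c ∈ C, ∀ d ∈ D, ∃ y z, φ d y = y ∧ φ c z = z ∧ v = y * z

theorem exists_not_mem {P : Type*} [Group P] {C : Set P} (hC : Subgroup.closure C = ⊤)
    {H : Subgroup P} (h : H ≠ ⊤) : ∃ c ∈ C, c ∉ H := by
  by_contra hcon
  push Not at hcon
  exact h (top_le_iff.1 (hC ▸ (Subgroup.closure_le H).2 hcon))

/-- An odd `p`-group acting on an abelian `p'`-group with this property acts trivially. -/
theorem trivial_of_pairwise (hp : p ≠ 2) {P : Type*} [Group P] [Finite P] (hP : IsPGroup p P)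
    (C D : Set P) (hC : Subgroup.closure C = ⊤) (hD : Subgroup.closure D = ⊤) :
    ∀ (n : ℕ) (V : Type*) [CommGroup V] [Finite V], Nat.card V = n → (Nat.card V).Coprime p →
      ∀ φ : P →* MulAut V, Pairwise φ C D → ∀ g v, φ g v = v := by
  intro n
  induction n using Nat.strong_induction_on with
  | _ n ih =>
  intro V _ _ hn hcop φ h
  by_contra hne
  push Not at hne
  obtain ⟨g0, v0, hgv0⟩ := hne
  set Q := φ.range with hQdef
  have hQp : IsPGroup p Q := hP.of_surjective φ.rangeRestrict φ.rangeRestrict_surjective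
  have : Finite Q := Finite.of_surjective φ.rangeRestrict φ.rangeRestrict_surjective
  -- central elements of order `p` have no fixed points
  have hfpf : ∀ z ∈ Q, (∀ g, φ g * z = z * φ g) → z ^ p = 1 → z ≠ 1 → ∀ v, z v = v → v = 1 := by
    intro z hz hcen hzp hz1
    by_contra hcon
    push Not at hcon
    obtain ⟨v, hv, hv1⟩ := hcon
    set F := fixed z with hF
    have hFinv : ∀ g, ∀ w ∈ F, φ g w ∈ F := fun g w hw => by
      show z (φ g w) = φ g w
      rw [← MulAut.mul_apply, ← hcen, MulAut.mul_apply, hw]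
    let π : V →* V :=
      { toFun := fun w => w⁻¹ * z w
        map_one' := by simp
        map_mul' := fun x y => by rw [map_mul, mul_inv, mul_mul_mul_comm] }
    have hπeq : ∀ g w, φ g (π w) = π (φ g w) := fun g w => by
      show φ g (w⁻¹ * z w) = (φ g w)⁻¹ * z (φ g w)
      rw [map_mul, map_inv, ← MulAut.mul_apply, hcen, MulAut.mul_apply]
    have hker : π.ker = F := by
      ext w
      rw [MonoidHom.mem_ker, hF, mem_fixed]
      show w⁻¹ * z w = 1 ↔ _
      rw [inv_mul_eq_one, eq_comm]
    set W := π.range with hW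
    have hWinv : ∀ g, ∀ w ∈ W, φ g w ∈ W := by
      rintro g _ ⟨w, rfl⟩
      exact ⟨φ g w, (hπeq g w).symm⟩
    have hFne : F ≠ ⊤ := fun e => hz1 (MulEquiv.ext fun w => (e.ge (Subgroup.mem_top w) : w ∈ F))
    have hFlt : Nat.card F < n := by
      rw [← hn]
      refine lt_of_le_of_ne (Nat.le_of_dvd Nat.card_pos (Subgroup.card_subgroup_dvd_card F))
        fun e => hFne (Subgroup.eq_top_of_card_eq F e)
    have hWlt : Nat.card W < n := by
      rw [← hn]
      have h1 : Nat.card W * Nat.card F = Nat.card V := by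
        rw [← hker, hW, ← Subgroup.index_ker, Subgroup.index_mul_card]
      have h2 : 1 < Nat.card F := by
        have : Nontrivial F := ⟨⟨v, hv⟩, 1, fun e => hv1 (congrArg Subtype.val e)⟩
        exact Finite.one_lt_card
      calc Nat.card W < Nat.card W * Nat.card F := lt_mul_of_one_lt_right Nat.card_pos h2
        _ = Nat.card V := h1
    have hFcop : (Nat.card F).Coprime p :=
      Nat.Coprime.coprime_dvd_left (Subgroup.card_subgroup_dvd_card F) hcop
    have hWcop : (Nat.card W).Coprime p :=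
      Nat.Coprime.coprime_dvd_left (Subgroup.card_subgroup_dvd_card W) hcop
    have hnormeq : ∀ g w, φ g (norm p z w) = norm p z (φ g w) := fun g w => by
      rw [map_norm, show φ g * z * (φ g)⁻¹ = z by rw [hcen, mul_inv_cancel_right]]
    have hPF : Pairwise (restrict φ F hFinv) C D := by
      intro w c hc d hd
      obtain ⟨k, hk⟩ := exists_pow_eq_self_of_coprime (x := w) (n := p)
        (Nat.Coprime.coprime_dvd_right (orderOf_dvd_natCard w) hFcop.symm)
      obtain ⟨y, x, hy, hx, hyx⟩ := h ((w ^ k : F) : V) c hc d hd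
      refine ⟨⟨norm p z y, norm_mem_fixed hzp y⟩, ⟨norm p z x, norm_mem_fixed hzp x⟩,
        Subtype.ext ?_, Subtype.ext ?_, Subtype.ext ?_⟩
      · show φ d (norm p z y) = _
        rw [hnormeq, hy]
      · show φ c (norm p z x) = _
        rw [hnormeq, hx]
      · show (w : V) = norm p z y * norm p z x
        rw [← map_mul, ← hyx, norm_of_fixed (w ^ k : F).2]
        conv_lhs => rw [← hk]
        push_cast
        rw [← pow_mul, ← pow_mul, mul_comm]
    have hPW : Pairwise (restrict φ W hWinv) C D := by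
      rintro ⟨_, w, rfl⟩ c hc d hd
      obtain ⟨y, x, hy, hx, hyx⟩ := h w c hc d hd
      refine ⟨⟨π y, y, rfl⟩, ⟨π x, x, rfl⟩, Subtype.ext ?_, Subtype.ext ?_, Subtype.ext ?_⟩
      · show φ d (π y) = _
        rw [hπeq, hy]
      · show φ c (π x) = _
        rw [hπeq, hx]
      · show π w = π y * π x
        rw [← map_mul, ← hyx]
    have tF := ih _ hFlt F rfl hFcop _ hPF
    have tW := ih _ hWlt W rfl hWcop _ hPW
    refine hgv0 ?_
    set u := v0⁻¹ * φ g0 v0 with hu
    have huF : u ∈ F := by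
      rw [← hker, MonoidHom.mem_ker, hu, map_mul, map_inv, ← hπeq]
      have h1 : φ g0 (π v0) = π v0 := congrArg Subtype.val (tW g0 ⟨π v0, v0, rfl⟩)
      rw [h1, inv_mul_cancel]
    have hgu : φ g0 u = u := congrArg Subtype.val (tF g0 ⟨u, huF⟩)
    have hit : ∀ m : ℕ, (φ g0 ^ m) v0 = v0 * u ^ m := by
      intro m
      induction m with
      | zero => simp
      | succ m ihm =>
        rw [pow_succ', MulAut.mul_apply, ihm, map_mul, map_pow, hgu, pow_succ',
          ← mul_assoc, show v0 * u = φ g0 v0 by rw [hu, mul_inv_cancel_left]]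
    obtain ⟨a, ha⟩ := hP g0
    have h1 := hit (p ^ a)
    rw [← map_pow, ha, map_one, MulAut.one_apply] at h1
    have h2 : u ^ p ^ a = 1 := mul_eq_left.1 h1.symm
    have h3 : u = 1 := orderOf_eq_one_iff.1 (Nat.eq_one_of_dvd_coprimes
      (Nat.Coprime.pow_right a hcop) (orderOf_dvd_natCard u) (orderOf_dvd_of_pow_eq_one h2))
    rw [hu, inv_mul_eq_one] at h3
    exact h3.symm
  -- one pair of generators with small fixed point groups
  suffices key : ∃ c ∈ C, ∃ d ∈ D, (∀ v, φ c v = v → v = 1) ∧ ∀ v, φ d v = v → v = 1 by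
    obtain ⟨c, hc, d, hd, h1, h2⟩ := key
    obtain ⟨y, x, hy, hx, hyx⟩ := h v0 c hc d hd
    refine hgv0 ?_
    rw [hyx, h2 y hy, h1 x hx, one_mul, map_one]
  have hQnt : Nontrivial Q :=
    ⟨⟨φ g0, g0, rfl⟩, 1, fun e => hgv0 (by
      rw [show φ g0 = 1 from congrArg Subtype.val e]; rfl)⟩
  by_cases hcyc : IsCyclic Q
  · obtain ⟨z, hzc, hzo⟩ : ∃ z : Q, (∀ q : Q, q * z = z * q) ∧ orderOf z = p := by
      obtain ⟨m, hm0, hm⟩ := hQp.nontrivial_iff_card.1 hQnt
      obtain ⟨z, hz⟩ := exists_prime_orderOf_dvd_card' p (hm ▸ dvd_pow_self p hm0.ne')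
      letI : CommGroup Q := IsCyclic.commGroup
      exact ⟨z, fun q => mul_comm q z, hz⟩
    have hzfpf := hfpf z z.2 (fun g => congrArg Subtype.val (hzc ⟨φ g, g, rfl⟩))
      (congrArg Subtype.val (show z ^ p = 1 by rw [← hzo]; exact pow_orderOf_eq_one z))
      (fun e => (Fact.out : p.Prime).one_lt.ne' (by
        rw [← hzo, show z = 1 from Subtype.ext e, orderOf_one]))
    have key : ∀ X : Set P, Subgroup.closure X = ⊤ → ∃ c ∈ X, ∀ v, φ c v = v → v = 1 := by
      intro X hX
      have hk : φ.ker ≠ ⊤ := fun e => hgv0 (by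
        rw [MonoidHom.mem_ker.1 (e.ge (Subgroup.mem_top g0)), MulAut.one_apply])
      obtain ⟨c, hc, hcn⟩ := exists_not_mem hX hk
      refine ⟨c, hc, fun v hv => hzfpf v ?_⟩
      set cq : Q := ⟨φ c, c, rfl⟩
      have hcq : cq ≠ 1 := fun e => hcn (congrArg Subtype.val e)
      obtain ⟨a, ha0, ha⟩ : ∃ a, 0 < a ∧ orderOf cq = p ^ a := by
        obtain ⟨a, ha⟩ := IsPGroup.iff_orderOf.1 hQp cq
        refine ⟨a, Nat.pos_of_ne_zero fun e => hcq ?_, ha⟩
        rw [e, pow_zero] at ha
        exact orderOf_eq_one_iff.1 ha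
      have hzmem : z ∈ Subgroup.zpowers (cq ^ p ^ (a - 1)) := by
        have ho : orderOf (cq ^ p ^ (a - 1)) = p := by
          rw [orderOf_pow, ha, Nat.gcd_eq_right (pow_dvd_pow p (Nat.sub_le a 1)),
            Nat.pow_div (Nat.sub_le a 1) (Fact.out : p.Prime).pos, show a - (a - 1) = 1 by omega,
            pow_one]
        letI : CommGroup Q := IsCyclic.commGroup
        have hk : ∀ x : Q, orderOf x = p → Subgroup.zpowers x = (powMonoidHom p : Q →* Q).ker := by
          intro x hx
          refine Subgroup.eq_of_le_of_card_ge (Subgroup.zpowers_le.2 (MonoidHom.mem_ker.2 ?_)) ?_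
          · show x ^ p = 1
            rw [← hx]
            exact pow_orderOf_eq_one x
          · rw [IsCyclic.card_powMonoidHom_ker, Nat.card_zpowers, hx]
            exact Nat.le_of_dvd (Fact.out : p.Prime).pos (Nat.gcd_dvd_right _ _)
        have he : Subgroup.zpowers (cq ^ p ^ (a - 1)) = Subgroup.zpowers z :=
          (hk _ ho).trans (hk _ hzo).symm
        rw [he]
        exact Subgroup.mem_zpowers z
      obtain ⟨i, hi⟩ := Submonoid.mem_powers_iff _ _ |>.1
        ((isOfFinOrder_of_finite _).mem_powers_iff_mem_zpowers.2 hzmem)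
      have hze : ((φ c) ^ p ^ (a - 1)) ^ i = (z : MulAut V) := by
        rw [← hi]; rfl
      rw [← hze]
      exact pow_apply_of_fixed (pow_apply_of_fixed hv _) i
    obtain ⟨c, hc, h1⟩ := key C hC
    obtain ⟨d, hd, h2⟩ := key D hD
    exact ⟨c, hc, d, hd, h1, h2⟩
  obtain ⟨A, hAn, hAe, hAc⟩ := Cfsg.Agent.S0126.result hp hQp hcyc
  obtain ⟨hAcomm, hAp⟩ := hAe
  haveI := hAn
  have hAne : A ≠ ⊥ := fun e => by
    rw [e, Subgroup.card_bot] at hAc
    exact (one_lt_pow₀ (Fact.out : p.Prime).one_lt two_ne_zero).ne hAc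
  obtain ⟨z, hz, hz1⟩ := (Subgroup.bot_or_exists_ne_one (A ⊓ Subgroup.center Q)).resolve_left
    (Cfsg.Lib.Transfer.inf_center_ne_bot hQp A hAne)
  have hzfpf := hfpf z z.2 (fun g => congrArg Subtype.val
      (Subgroup.mem_center_iff.1 hz.2 ⟨φ g, g, rfl⟩))
    (congrArg Subtype.val (hAp z hz.1)) (fun e => hz1 (Subtype.ext e))
  have hzo : orderOf z = p := orderOf_eq_prime (hAp z hz.1) hz1
  obtain ⟨e, heA, hez⟩ : ∃ e ∈ A, e ∉ Subgroup.zpowers z := by
    by_contra hcon
    push Not at hcon
    have := Nat.card_le_card_of_injective _ (Subgroup.inclusion_injective (show A ≤ Subgroup.zpowers z from hcon))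
    rw [hAc, Nat.card_zpowers, hzo, pow_two] at this
    have h2 := Nat.mul_lt_mul_of_pos_left (Fact.out : p.Prime).one_lt (Fact.out : p.Prime).pos
    omega
  have hcomm : ∀ x ∈ A, ∀ y ∈ A, x * y = y * x := fun x hx y hy =>
    congrArg Subtype.val (hAcomm.is_comm.comm ⟨x, hx⟩ ⟨y, hy⟩)
  have hezc : Commute (e : MulAut V) (z : MulAut V) := congrArg Subtype.val (hcomm e heA z hz.1)
  have hzp : (z : MulAut V) ^ p = 1 := congrArg Subtype.val (hAp z hz.1)
  have hpow : ∀ j : ℕ, ((e * z ^ j : Q) : MulAut V) ^ p = 1 := fun j =>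
    congrArg Subtype.val (hAp (e * z ^ j) (A.mul_mem heA (A.pow_mem hz.1 j)))
  -- not every element centralizes `e`
  have hCe : Subgroup.centralizer ({e} : Set Q) ≠ ⊤ := by
    intro htop
    have hec : ∀ q : Q, q * e = e * q := fun q =>
      Subgroup.mem_centralizer_singleton_iff.1 (htop.ge (Subgroup.mem_top q))
    refine hgv0 ?_
    suffices hall : ∀ v : V, v = 1 by rw [hall v0, map_one]
    intro v
    refine eq_one_of_norms hcop hezc hzp hzfpf fun j _ => ?_
    have hne1 : e * z ^ j ≠ 1 := fun h1 => hez (by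
      rw [eq_inv_of_mul_eq_one_left h1]
      exact Subgroup.inv_mem _ (Subgroup.npow_mem_zpowers z j))
    have hzc : ∀ q : Q, q * z ^ j = z ^ j * q := fun q =>
      ((show Commute q z from Subgroup.mem_center_iff.1 hz.2 q).pow_right j).eq
    refine hfpf _ (e * z ^ j : Q).2 (fun g => congrArg Subtype.val (show
      (⟨φ g, g, rfl⟩ : Q) * (e * z ^ j) = (e * z ^ j) * ⟨φ g, g, rfl⟩ by
        rw [← mul_assoc, hec, mul_assoc, hzc, mul_assoc]))
      (hpow j) (fun h1 => hne1 (Subtype.ext h1)) _ (norm_mem_fixed (hpow j) v)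
  -- conjugates of `e` lie in `e⟨z⟩`
  haveI hZn : (Subgroup.zpowers z).Normal := ⟨fun x hx g => by
    obtain ⟨i, rfl⟩ := Subgroup.mem_zpowers_iff.1 hx
    rw [show g * z ^ i = z ^ i * g from ((show Commute g z from
      Subgroup.mem_center_iff.1 hz.2 g).zpow_right i).eq, mul_inv_cancel_right]
    exact Subgroup.zpow_mem_zpowers z i⟩
  have hconj : ∀ q : Q, ∃ k : ℕ, q * e * q⁻¹ = e * z ^ k := by
    intro q
    set N := Subgroup.zpowers z
    have hQ2 : IsPGroup p (Q ⧸ N) := hQp.to_quotient N
    set A' := A.map (QuotientGroup.mk' N) with hA'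
    haveI : A'.Normal := Subgroup.Normal.map hAn _ (QuotientGroup.mk'_surjective N)
    have hker : (QuotientGroup.mk' N).ker ≤ A := by
      rw [QuotientGroup.ker_mk']
      exact Subgroup.zpowers_le.2 hz.1
    have hcard : Nat.card A' = p := by
      have h1 : Nat.card A' * Nat.card N = Nat.card A := by
        rw [hA', ← Subgroup.range_subtype A, MonoidHom.map_range, ← Subgroup.index_ker,
          ← Nat.card_congr (Subgroup.subgroupOfEquivOfLe (Subgroup.zpowers_le.2 hz.1 : N ≤ A)).toEquiv,
          ← MonoidHom.comap_ker, QuotientGroup.ker_mk', Subgroup.range_subtype]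
        exact Subgroup.index_mul_card _
      rw [Nat.card_zpowers, hzo, hAc, pow_two] at h1
      exact mul_right_cancel₀ (Fact.out : p.Prime).ne_zero h1
    have hA'ne : A' ≠ ⊥ := fun e1 => by
      rw [e1, Subgroup.card_bot] at hcard
      exact (Fact.out : p.Prime).one_lt.ne hcard
    have h2 : A' ≤ Subgroup.center (Q ⧸ N) := by
      have h3 := Cfsg.Lib.Transfer.inf_center_ne_bot hQ2 A' hA'ne
      rcases Subgroup.eq_bot_or_eq_top_of_prime_card ((A' ⊓ Subgroup.center (Q ⧸ N)).subgroupOf A')
        (hp := by rw [hcard]; infer_instance) with h4 | h4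
      · rw [Subgroup.subgroupOf_eq_bot, disjoint_iff, inf_assoc, inf_comm (Subgroup.center _),
          ← inf_assoc, inf_idem] at h4
        exact absurd h4 h3
      · exact (Subgroup.subgroupOf_eq_top.1 h4).trans inf_le_right
    have h5 := Subgroup.mem_center_iff.1 (h2 ⟨e, heA, rfl⟩) (QuotientGroup.mk' N q)
    have h6 : e⁻¹ * (q * e * q⁻¹) ∈ N := by
      rw [← QuotientGroup.eq_one_iff]
      show QuotientGroup.mk' N (e⁻¹ * (q * e * q⁻¹)) = 1
      rw [map_mul, map_mul, map_mul, h5, map_inv, map_inv, mul_inv_cancel_right, inv_mul_cancel]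
    obtain ⟨k, hk⟩ := (isOfFinOrder_of_finite z).mem_powers_iff_mem_zpowers.2 h6
    exact ⟨k, by rw [show z ^ k = _ from hk, mul_inv_cancel_left]⟩
  set m := Nat.card (fixed (e : MulAut V)) with hm
  -- moving elements
  have hmove : ∀ X : Set P, Subgroup.closure X = ⊤ → ∃ c ∈ X,
      Nat.card (fixed (φ c)) ≤ m ∧ m ≤ Nat.card (fixed ((e * z : Q) : MulAut V)) ∧
        m ≤ Nat.card (fixed ((e * z ^ 2 : Q) : MulAut V)) := by
    intro X hX
    have hne : (Subgroup.centralizer ({e} : Set Q)).comap φ.rangeRestrict ≠ ⊤ := fun h1 => hCe (by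
      rw [eq_top_iff]
      intro q _
      obtain ⟨g, rfl⟩ := φ.rangeRestrict_surjective q
      exact h1.ge (Subgroup.mem_top g))
    obtain ⟨c, hc, hcn⟩ := exists_not_mem hX hne
    set cq : Q := φ.rangeRestrict c
    obtain ⟨k, hk⟩ := hconj cq
    have hkp : ¬ p ∣ k := fun hd => hcn (by
      rw [Subgroup.mem_comap, Subgroup.mem_centralizer_singleton_iff]
      obtain ⟨t, rfl⟩ := hd
      rw [pow_mul, hAp z hz.1, one_pow, mul_one, mul_inv_eq_iff_eq_mul] at hk
      exact hk)
    have hiter : ∀ j : ℕ, cq ^ j * e * (cq ^ j)⁻¹ = e * z ^ (k * j) := by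
      intro j
      induction j with
      | zero => simp
      | succ j ihj =>
        calc cq ^ (j + 1) * e * (cq ^ (j + 1))⁻¹ = cq * (cq ^ j * e * (cq ^ j)⁻¹) * cq⁻¹ := by
              rw [pow_succ']; group
          _ = cq * e * cq⁻¹ * (cq * z ^ (k * j) * cq⁻¹) := by rw [ihj]; group
          _ = e * z ^ (k * (j + 1)) := by
              rw [((show Commute cq z from Subgroup.mem_center_iff.1 hz.2 cq).pow_right (k * j)).eq,
                mul_inv_cancel_right, hk, mul_assoc, ← pow_add, show k + k * j = k * (j + 1) by ring]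
    have hsolve : ∀ i : ℕ, ∃ j : ℕ, z ^ (k * j) = z ^ i := fun i => by
      obtain ⟨t, ht⟩ := exists_pow_eq_self_of_coprime (x := z) (n := k)
        (by rw [hzo]; exact ((Fact.out : p.Prime).coprime_iff_not_dvd.2 hkp).symm)
      exact ⟨t * i, by rw [← mul_assoc, pow_mul, pow_mul, ht]⟩
    -- transport of fixed points by powers of `c`
    have htr : ∀ j : ℕ, m ≤ Nat.card (fixed ((e * z ^ (k * j) : Q) : MulAut V)) := by
      intro j
      refine Nat.card_le_card_of_injective (fun v => ⟨((cq ^ j : Q) : MulAut V) (v : V), ?_⟩)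
        fun a b hab => Subtype.ext (((cq ^ j : Q) : MulAut V).injective (congrArg Subtype.val hab))
      rw [mem_fixed, ← hiter]
      show ((cq ^ j : Q) : MulAut V) (((e : Q) : MulAut V)
        ((((cq ^ j : Q) : MulAut V))⁻¹ (((cq ^ j : Q) : MulAut V) (v : V)))) = _
      rw [MulAut.inv_apply_self]
      exact congrArg _ v.2
    refine ⟨c, hc, ?_, ?_, ?_⟩
    · refine Nat.card_le_card_of_injective (fun v => (⟨norm p (e : MulAut V) (v : V),
        norm_mem_fixed (congrArg Subtype.val (hAp e heA)) _⟩ : fixed (e : MulAut V))) fun a b hab => ?_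
      have h1 : norm p (e : MulAut V) ((a : V)⁻¹ * (b : V)) = 1 := by
        rw [map_mul, map_inv, show norm p (e : MulAut V) (a : V) = norm p (e : MulAut V) (b : V) from
          congrArg Subtype.val hab, inv_mul_cancel]
      have hcfix : (cq : MulAut V) ((a : V)⁻¹ * b) = (a : V)⁻¹ * b :=
        ((fixed (φ c)).mul_mem ((fixed (φ c)).inv_mem a.2) b.2 :)
      refine Subtype.ext (inv_mul_eq_one.1 (eq_one_of_norms hcop hezc hzp hzfpf fun i _ => ?_))
      obtain ⟨j, hj⟩ := hsolve i
      have h2 := congrArg (((cq ^ j : Q) : MulAut V)) h1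
      rw [map_norm, map_one, show ((cq ^ j : Q) : MulAut V) * (e : MulAut V) *
        (((cq ^ j : Q) : MulAut V))⁻¹ = ((e * z ^ i : Q) : MulAut V) from
          congrArg Subtype.val ((hiter j).trans (by rw [hj]))] at h2
      rw [show ((cq ^ j : Q) : MulAut V) ((a : V)⁻¹ * b) = (a : V)⁻¹ * b from
        pow_apply_of_fixed hcfix j] at h2
      exact h2
    · obtain ⟨j, hj⟩ := hsolve 1
      have := htr j
      rwa [hj, pow_one] at this
    · obtain ⟨j, hj⟩ := hsolve 2
      have := htr j
      rwa [hj] at this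
  obtain ⟨c, hc, hcm, hm1, hm2⟩ := hmove C hC
  obtain ⟨d, hd, hdm, -, -⟩ := hmove D hD
  -- three independent pieces
  have hproj : ∀ i j : ℕ, i < j → j ≤ 2 → ∀ v : V,
      ((e * z ^ i : Q) : MulAut V) v = v → ((e * z ^ j : Q) : MulAut V) v = v → v = 1 := by
    intro i j hij hj2 v hi hj
    obtain ⟨t, ht⟩ := exists_pow_eq_self_of_coprime (x := z) (n := j - i) (by
      rw [hzo]
      refine ((Fact.out : p.Prime).coprime_iff_not_dvd.2 fun hd' => ?_).symm
      have h1 := Nat.le_of_dvd (by omega) hd'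
      have h2 := (Fact.out : p.Prime).two_le
      omega)
    have h1 : ((z ^ (j - i) : Q) : MulAut V) v = v := by
      have e1 : e * z ^ j = e * z ^ i * z ^ (j - i) := by
        rw [mul_assoc, ← pow_add, show i + (j - i) = j by omega]
      rw [e1, Subgroup.coe_mul, MulAut.mul_apply] at hj
      exact ((e * z ^ i : Q) : MulAut V).injective (hj.trans hi.symm)
    refine hzfpf v ?_
    rw [show (z : MulAut V) = ((z ^ (j - i) : Q) : MulAut V) ^ t from (congrArg Subtype.val ht).symm]
    exact pow_apply_of_fixed h1 t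
  have hsep : ∀ i j : ℕ, i ≤ 2 → j ≤ 2 → i ≠ j → ∀ v : V,
      ((e * z ^ j : Q) : MulAut V) v = v → norm p ((e * z ^ i : Q) : MulAut V) v = 1 := by
    intro i j hi hj hne v hv
    have h1 := norm_mem_fixed (hpow i) v
    have h2 : ((e * z ^ j : Q) : MulAut V) (norm p ((e * z ^ i : Q) : MulAut V) v) =
        norm p ((e * z ^ i : Q) : MulAut V) v := by
      rw [map_norm, hv]
      congr 2
      rw [mul_inv_eq_iff_eq_mul]
      exact congrArg Subtype.val (hcomm _ (A.mul_mem heA (A.pow_mem hz.1 j))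
        _ (A.mul_mem heA (A.pow_mem hz.1 i)))
    rcases Nat.lt_or_gt_of_ne hne with h3 | h3
    · exact hproj i j h3 hj _ h1 h2
    · exact hproj j i h3 hi _ h2 h1
  set F : ℕ → Subgroup V := fun i => fixed ((e * z ^ i : Q) : MulAut V) with hF
  have hinj : Function.Injective fun t : F 0 × F 1 × F 2 => (t.1 : V) * t.2.1 * t.2.2 := by
    intro a b hab
    have h1 : ∀ i, i ≤ 2 → norm p ((e * z ^ i : Q) : MulAut V) ((a.1 : V) * a.2.1 * a.2.2) =
        norm p ((e * z ^ i : Q) : MulAut V) ((b.1 : V) * b.2.1 * b.2.2) := fun i _ => congrArg _ hab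
    have hx : ∀ {x y : V}, x ^ p = y ^ p → x = y := fun {x y} hxy =>
      div_eq_one.1 (eq_one_of_pow hcop (by rw [div_pow, hxy, div_self']))
    have k0 := h1 0 (by omega)
    have k1 := h1 1 (by omega)
    have k2 := h1 2 (by omega)
    simp only [map_mul, norm_of_fixed a.1.2, norm_of_fixed b.1.2,
      hsep 0 1 (by omega) (by omega) (by omega) _ a.2.1.2, hsep 0 1 (by omega) (by omega) (by omega) _ b.2.1.2,
      hsep 0 2 (by omega) (by omega) (by omega) _ a.2.2.2, hsep 0 2 (by omega) (by omega) (by omega) _ b.2.2.2,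
      mul_one] at k0
    simp only [map_mul, norm_of_fixed a.2.1.2, norm_of_fixed b.2.1.2,
      hsep 1 0 (by omega) (by omega) (by omega) _ a.1.2, hsep 1 0 (by omega) (by omega) (by omega) _ b.1.2,
      hsep 1 2 (by omega) (by omega) (by omega) _ a.2.2.2, hsep 1 2 (by omega) (by omega) (by omega) _ b.2.2.2,
      mul_one, one_mul] at k1
    simp only [map_mul, norm_of_fixed a.2.2.2, norm_of_fixed b.2.2.2,
      hsep 2 0 (by omega) (by omega) (by omega) _ a.1.2, hsep 2 0 (by omega) (by omega) (by omega) _ b.1.2,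
      hsep 2 1 (by omega) (by omega) (by omega) _ a.2.1.2, hsep 2 1 (by omega) (by omega) (by omega) _ b.2.1.2,
      one_mul] at k2
    exact Prod.ext (Subtype.ext (hx k0)) (Prod.ext (Subtype.ext (hx k1)) (Subtype.ext (hx k2)))
  have hbig : m * (m * m) ≤ Nat.card V := by
    refine le_trans ?_ (Nat.card_le_card_of_injective _ hinj)
    rw [Nat.card_prod, Nat.card_prod]
    have e0 : m = Nat.card (F 0) := by simp only [hF, pow_zero, mul_one]; rfl
    refine Nat.mul_le_mul e0.le (Nat.mul_le_mul ?_ hm2)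
    simpa only [hF, pow_one] using hm1
  have hsmall : Nat.card V ≤ m * m := by
    refine le_trans (Nat.card_le_card_of_surjective
      (fun t : fixed (φ d) × fixed (φ c) => (t.1 : V) * t.2) fun v => ?_) ?_
    · obtain ⟨y, x, hy, hx, hyx⟩ := h v c hc d hd
      exact ⟨(⟨y, hy⟩, ⟨x, hx⟩), hyx.symm⟩
    · rw [Nat.card_prod]
      exact Nat.mul_le_mul hdm hcm
  have hmpos : 0 < m := Nat.card_pos
  have hm_one : m = 1 := by
    have h2 : m * (m * m) ≤ 1 * (m * m) := by rw [one_mul]; exact hbig.trans hsmall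
    exact le_antisymm (Nat.le_of_mul_le_mul_right h2 (Nat.mul_pos hmpos hmpos)) hmpos
  have hone : ∀ a : MulAut V, Nat.card (fixed a) ≤ 1 → ∀ v, a v = v → v = 1 := fun a ha v hv => by
    have : Subsingleton (fixed a) := Finite.card_le_one_iff_subsingleton.1 ha
    exact congrArg Subtype.val (Subsingleton.elim (⟨v, hv⟩ : fixed a) 1)
  exact ⟨c, hc, d, hd, hone _ (hm_one ▸ hcm), hone _ (hm_one ▸ hdm)⟩

end Cfsg.Lib.Solv.PairwiseFixed
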