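import Mathlib
import Cfsg.Agent.Lib.Characters.Burnside
import Cfsg.Agent.Lib.Transfer.Action
import Cfsg.Agent.Lib.Solv.MinNormal

/-!
Finite groups in which every nontrivial element has prime order and whose order has at most three
prime divisors: odd order implies solvable, and Sylow subgroups are TI.
-/

set_option autoImplicit false

namespace Cfsg.Lib.Solv.PrimeOrders

universe u

/-- Every nontrivial element has prime order. -/
def AllPrime (G : Type u) [Group G] : Prop := ∀ g : G, g ≠ 1 → (orderOf g).Prime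

variable {G : Type u} [Group G]

theorem AllPrime.subgroup (h : AllPrime G) (H : Subgroup G) : AllPrime H := fun g hg => by
  rw [← Subgroup.orderOf_coe]
  exact h g fun e => hg (Subtype.ext e)

theorem AllPrime.quotient [Finite G] (h : AllPrime G) (N : Subgroup G) [N.Normal] : AllPrime (G ⧸ N) := fun g hg => by
  obtain ⟨x, rfl⟩ := QuotientGroup.mk'_surjective N g
  have hx : x ≠ 1 := fun e => hg (by rw [e, map_one])
  have hd := orderOf_map_dvd (QuotientGroup.mk' N) x
  exact ((Nat.dvd_prime (h x hx)).1 hd).elim (fun e => absurd (orderOf_eq_one_iff.1 e) hg) (fun e => e ▸ h x hx)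

theorem AllPrime.orderOf_eq_of_commute (h : AllPrime G) {x y : G} (hc : Commute x y) (hx : x ≠ 1) (hy : y ≠ 1) :
    orderOf x = orderOf y := by
  by_contra hne
  have hcop := (Nat.coprime_primes (h x hx) (h y hy)).2 hne
  have he := hc.orderOf_mul_eq_mul_orderOf_of_coprime hcop
  have h1 : x * y ≠ 1 := fun e => by
    rw [e, orderOf_one] at he
    exact (h x hx).ne_one (mul_eq_one.1 he.symm).1
  exact Nat.not_prime_mul (h x hx).ne_one (h y hy).ne_one (he ▸ h _ h1)

theorem AllPrime.eq_of_dvd (h : AllPrime G) {x : G} (hx : x ≠ 1) {r : ℕ} (hr : r.Prime) (hd : r ∣ orderOf x) :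
    orderOf x = r :=
  (((Nat.dvd_prime (h x hx)).1 hd).resolve_left hr.ne_one).symm

theorem AllPrime.orderOf_of_mem (h : AllPrime G) {p : ℕ} (hp : p.Prime) {P : Subgroup G} (hP : IsPGroup p P)
    {x : G} (hxP : x ∈ P) (hx : x ≠ 1) : orderOf x = p := by
  haveI := Fact.mk hp
  obtain ⟨k, hk⟩ := IsPGroup.iff_orderOf.1 hP ⟨x, hxP⟩
  rw [Subgroup.orderOf_mk] at hk
  rcases k with _ | k
  · exact absurd (orderOf_eq_one_iff.1 (by simpa using hk)) hx
  · exact h.eq_of_dvd hx hp (hk ▸ dvd_pow_self p k.succ_ne_zero)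

theorem AllPrime.isPGroup_centralizer [Finite G] (h : AllPrime G) {p : ℕ} {x : G}
    (hxo : orderOf x = p) (hx : x ≠ 1) : IsPGroup p (Subgroup.centralizer ({x} : Set G)) := by
  haveI := Fact.mk (hxo ▸ h x hx : p.Prime)
  refine IsPGroup.iff_orderOf.2 fun y => ?_
  by_cases hy : y = 1
  · exact ⟨0, by rw [hy, orderOf_one, pow_zero]⟩
  · refine ⟨1, ?_⟩
    rw [pow_one, ← hxo, ← Subgroup.orderOf_coe]
    exact (h.orderOf_eq_of_commute (Subgroup.mem_centralizer_singleton_iff.1 y.2).symm hx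
      (fun e => hy (Subtype.ext e))).symm

/-- The norm identity for Frobenius actions. -/
theorem fpf_contra {M : Type*} [Group M] [Finite M] {V : Type*} [CommGroup V] (φ : M →* MulAut V) {p : ℕ}
    (hp : p.Prime) (R : Subgroup M) [R.Normal] (hcop : (Nat.card R).Coprime p) {b : M}
    (hfix : ∀ r ∈ R, r ≠ 1 → ∀ v : V, φ r v = v → v = 1) (hR : R ≠ ⊥)
    (hcomm : ∀ r ∈ R, ∀ i, 0 < i → i < p → Commute r (b ^ i) → r = 1)
    (hV : ∀ v : V, v ^ p = 1)
    (hnorm : ∀ c ∈ R, ∀ v : V, ∏ i ∈ Finset.range p, φ ((c * b * c⁻¹) ^ i) v = 1) (v : V) : v = 1 := by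
  classical
  haveI := Fintype.ofFinite R
  have htot : ∀ w : V, ∏ c : R, φ (c : M) w = 1 := by
    intro w
    obtain ⟨r, hr, hr1⟩ := (Subgroup.bot_or_exists_ne_one R).resolve_left hR
    refine hfix r hr hr1 _ ?_
    rw [map_prod]
    refine Fintype.prod_equiv (Equiv.mulLeft (⟨r, hr⟩ : R)) _ _ fun c => ?_
    show φ r (φ (c : M) w) = φ ((⟨r, hr⟩ : R) * c : R) w
    rw [Subgroup.coe_mul, map_mul, MulAut.mul_apply]
  have h1 : ∏ i ∈ Finset.range p, ∏ c : R, φ (((c : M) * b * (c : M)⁻¹) ^ i) v = 1 := by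
    rw [Finset.prod_comm]
    exact Finset.prod_eq_one fun c _ => hnorm c c.2 v
  rw [Finset.prod_eq_single 0] at h1
  · simp only [pow_zero, map_one, MulAut.one_apply, Finset.prod_const, Finset.card_univ,
      ← Nat.card_eq_fintype_card] at h1
    have h2 := pow_gcd_eq_one.2 ⟨h1, hV v⟩
    rwa [hcop.gcd_eq_one, pow_one] at h2
  · intro i hi hi0
    have hip : i < p := Finset.mem_range.1 hi
    let f : R → R := fun c => ⟨(c : M) * (b ^ i * (c : M)⁻¹ * (b ^ i)⁻¹),
      mul_mem c.2 (Subgroup.Normal.conj_mem inferInstance _ (inv_mem c.2) _)⟩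
    have hf : Function.Bijective f := by
      refine Finite.injective_iff_bijective.1 fun c d e => ?_
      have e' : (c : M) * (b ^ i * (c : M)⁻¹ * (b ^ i)⁻¹) = d * (b ^ i * (d : M)⁻¹ * (b ^ i)⁻¹) :=
        congrArg Subtype.val e
      refine Subtype.ext (inv_mul_eq_one.1 (hcomm _ (mul_mem (inv_mem d.2) c.2) i (Nat.pos_of_ne_zero hi0) hip ?_)).symm
      have e1 : (c : M) * b ^ i * (c : M)⁻¹ = d * b ^ i * (d : M)⁻¹ := by
        simpa [mul_assoc] using congrArg (· * b ^ i) e'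
      calc (d : M)⁻¹ * c * b ^ i = (d : M)⁻¹ * (c * b ^ i * (c : M)⁻¹) * c := by group
        _ = b ^ i * ((d : M)⁻¹ * c) := by rw [e1]; group
    refine (Fintype.prod_equiv (Equiv.ofBijective f hf) _ (fun c : R => φ (c : M) (φ (b ^ i) v)) fun c => ?_).trans
      (htot _)
    show φ (((c : M) * b * (c : M)⁻¹) ^ i) v = φ ((c : M) * (b ^ i * (c : M)⁻¹ * (b ^ i)⁻¹)) (φ (b ^ i) v)
    rw [← MulAut.mul_apply, ← map_mul, conj_pow]
    congr 2
    group
  · intro h0
    exact absurd (Finset.mem_range.2 hp.pos) h0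

/-- Conjugation action on a normalised subgroup. -/
def conjHom {N V : Subgroup G} (h : ∀ g ∈ N, ∀ v ∈ V, g * v * g⁻¹ ∈ V) : ↥N →* MulAut ↥V where
  toFun g :=
    { toFun := fun v => ⟨g * v * (g : G)⁻¹, h g g.2 v v.2⟩
      invFun := fun v => ⟨(g : G)⁻¹ * v * g, by simpa using h _ (inv_mem g.2) v v.2⟩
      left_inv := fun v => Subtype.ext (by simp [mul_assoc])
      right_inv := fun v => Subtype.ext (by simp [mul_assoc])
      map_mul' := fun v w => Subtype.ext (by simp [mul_assoc]) }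
  map_one' := by
    refine MulEquiv.ext fun v => Subtype.ext ?_
    show ((1 : N) : G) * v * ((1 : N) : G)⁻¹ = v
    simp
  map_mul' g g' := by
    refine MulEquiv.ext fun v => Subtype.ext ?_
    show ((g * g' : N) : G) * v * ((g * g' : N) : G)⁻¹ = g * (g' * v * (g' : G)⁻¹) * (g : G)⁻¹
    simp [mul_assoc]

/-- The Sylow subgroups are TI, given solvability of smaller odd order groups of the same kind. -/
theorem inf_eq_bot [Finite G] (hall : AllPrime G) (h3 : (Nat.card G).primeFactors.card ≤ 3)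
    (hsolv : ∀ (M : Type u) [Group M] [Finite M], Nat.card M < Nat.card G → AllPrime M → Odd (Nat.card M) →
      (Nat.card M).primeFactors.card ≤ 3 → Group.IsSolvable M)
    {p : ℕ} [hp : Fact p.Prime] (P Q : Sylow p G) (hPQ : P ≠ Q) : (P : Subgroup G) ⊓ Q = ⊥ := by
  classical
  by_contra hne
  have hmax : ∃ D : Subgroup G, Maximal (fun D => D ≠ ⊥ ∧ ∃ A B : Sylow p G, A ≠ B ∧ (A : Subgroup G) ⊓ B = D) D :=
    (Set.toFinite {D : Subgroup G | D ≠ ⊥ ∧ ∃ A B : Sylow p G, A ≠ B ∧ (A : Subgroup G) ⊓ B = D}).exists_maximal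
      ⟨_, hne, P, Q, hPQ, rfl⟩
  obtain ⟨D, ⟨hD, A, B, hAB, hABD⟩, hDmax⟩ := hmax
  clear hne hPQ P Q
  have huniq : ∀ R S : Sylow p G, D < (R : Subgroup G) ⊓ S → R = S := by
    intro R S hlt
    by_contra hRS
    exact hlt.not_ge (hDmax ⟨fun e => not_lt_bot (e ▸ hlt), R, S, hRS, rfl⟩ hlt.le)
  have hDA : D ≤ (A : Subgroup G) := hABD ▸ inf_le_left
  have hDB : D ≤ (B : Subgroup G) := hABD ▸ inf_le_right
  by_cases hp2 : p = 2
  · -- exponent two
    subst hp2
    obtain ⟨x, hx, hx1⟩ := (Subgroup.bot_or_exists_ne_one D).resolve_left hD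
    have hC := hall.isPGroup_centralizer (hall.orderOf_of_mem Nat.prime_two A.isPGroup' (hDA hx) hx1) hx1
    have key : ∀ R : Sylow 2 G, x ∈ (R : Subgroup G) → Subgroup.centralizer ({x} : Set G) = R := by
      intro R hxR
      refine R.is_maximal' hC fun y hy => Subgroup.mem_centralizer_singleton_iff.2 ?_
      have sq : ∀ z ∈ (R : Subgroup G), z * z = 1 := fun z hz => by
        by_cases h1 : z = 1
        · rw [h1, one_mul]
        · rw [← pow_two, ← hall.orderOf_of_mem Nat.prime_two R.isPGroup' hz h1, pow_orderOf_eq_one]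
      calc y * x = (y * x)⁻¹ := eq_inv_of_mul_eq_one_left (sq _ (mul_mem hy hxR))
        _ = x * y := by
          rw [mul_inv_rev, ← eq_inv_of_mul_eq_one_left (sq x hxR), ← eq_inv_of_mul_eq_one_left (sq y hy)]
    exact hAB (Sylow.ext ((key A (hDA hx)).symm.trans (key B (hDB hx))))
  set N := Subgroup.normalizer (D : Set G) with hN
  have hDN : D ≤ N := Subgroup.le_normalizer
  have hgt : ∀ R : Sylow p G, D ≤ (R : Subgroup G) → (R : Subgroup G) ≠ D → D < (R : Subgroup G) ⊓ N := by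
    intro R hDR hRD
    haveI := R.isPGroup'.isNilpotent
    have hlt : D.subgroupOf (R : Subgroup G) < ⊤ := lt_top_iff_ne_top.2 fun e =>
      hRD (le_antisymm (Subgroup.subgroupOf_eq_top.1 e) hDR)
    obtain ⟨-, y, hy, hyD⟩ := SetLike.lt_iff_le_and_exists.1 (normalizerCondition_of_isNilpotent _ hlt)
    refine SetLike.lt_iff_le_and_exists.2 ⟨le_inf hDR hDN, (y : G), Subgroup.mem_inf.2 ⟨y.2, ?_⟩, hyD⟩
    rw [hN, Subgroup.mem_normalizer_iff]
    intro z
    constructor
    · intro hz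
      simpa [Subgroup.mem_subgroupOf] using
        (Subgroup.mem_normalizer_iff.1 hy ⟨z, hDR hz⟩).1 (Subgroup.mem_subgroupOf.2 hz)
    · intro hz
      have hzR : z ∈ (R : Subgroup G) := by
        have := mul_mem (mul_mem (inv_mem y.2) (hDR hz)) y.2
        simpa [mul_assoc] using this
      exact Subgroup.mem_subgroupOf.1 ((Subgroup.mem_normalizer_iff.1 hy ⟨z, hzR⟩).2
        (Subgroup.mem_subgroupOf.2 (by simpa using hz)))
  have hAD : (A : Subgroup G) ≠ D := fun e => hAB (Sylow.ext (A.is_maximal' B.isPGroup' (e.le.trans hDB)).symm)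
  have hBD : (B : Subgroup G) ≠ D := fun e => hAB (Sylow.ext (B.is_maximal' A.isPGroup' (e.le.trans hDA)))
  set D' := D.subgroupOf N with hD'
  haveI : D'.Normal := Subgroup.normal_in_normalizer
  -- normal `p`-subgroups of the normalizer lie in `D`
  have hcoreN : ∀ K : Subgroup ↥N, K.Normal → IsPGroup p K → K ≤ D' := by
    intro K hK hKp
    have key : ∀ R : Sylow p G, D ≤ (R : Subgroup G) → (R : Subgroup G) ≠ D → K.map N.subtype ≤ (R : Subgroup G) := by
      intro R hDR hRD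
      have hJ : IsPGroup p ↥(((R : Subgroup G) ⊓ N).subgroupOf N ⊔ K) := by
        refine IsPGroup.to_sup_of_normal_right ?_ hKp
        exact (R.isPGroup'.to_le inf_le_left).of_equiv (Subgroup.subgroupOfEquivOfLe inf_le_right).symm
      obtain ⟨S, hS⟩ := (hJ.map N.subtype).exists_le_sylow
      have h1 : (R : Subgroup G) ⊓ N ≤ S := by
        refine le_trans ?_ hS
        intro z hz
        exact ⟨⟨z, hz.2⟩, Subgroup.mem_sup_left (Subgroup.mem_subgroupOf.2 hz), rfl⟩
      obtain rfl : R = S := huniq R S ((hgt R hDR hRD).trans_le (le_inf inf_le_left h1))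
      exact (Subgroup.map_mono le_sup_right).trans hS
    intro z hz
    have h1 := key A hDA hAD ⟨z, hz, rfl⟩
    have h2 := key B hDB hBD ⟨z, hz, rfl⟩
    exact Subgroup.mem_subgroupOf.2 (hABD ▸ ⟨h1, h2⟩)
  set q := QuotientGroup.mk' D' with hq
  have hD'p : IsPGroup p D' := (A.isPGroup'.to_le hDA).of_equiv (Subgroup.subgroupOfEquivOfLe hDN).symm
  have hcoreM : ∀ K : Subgroup (↥N ⧸ D'), K.Normal → IsPGroup p K → K = ⊥ := by
    intro K hK hKp
    haveI := hK
    have h1 : IsPGroup p ↥(K.comap q) := hKp.comap_of_ker_isPGroup q (by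
      rw [hq, QuotientGroup.ker_mk']; exact hD'p)
    have h2 := hcoreN _ inferInstance h1
    rw [eq_bot_iff, ← Subgroup.map_comap_eq_self_of_surjective (QuotientGroup.mk'_surjective D') K,
      Subgroup.map_le_iff_le_comap, MonoidHom.comap_bot, QuotientGroup.ker_mk']
    exact h2
  have hMall : AllPrime (↥N ⧸ D') := (hall.subgroup N).quotient D'
  have hM3 : (Nat.card (↥N ⧸ D')).primeFactors.card ≤ 3 :=
    (Finset.card_le_card (Nat.primeFactors_mono
      ((Subgroup.card_quotient_dvd_card D').trans N.card_subgroup_dvd_card) Nat.card_pos.ne')).trans h3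
  -- an element of order `p`
  obtain ⟨b, hb⟩ : ∃ b : ↥N ⧸ D', orderOf b = p := by
    obtain ⟨-, z, hz, hzD⟩ := SetLike.lt_iff_le_and_exists.1 (hgt A hDA hAD)
    have hz' : q ⟨z, hz.2⟩ ≠ 1 := fun e => hzD (Subgroup.mem_subgroupOf.1 ((QuotientGroup.eq_one_iff _).1 e))
    refine ⟨q ⟨z, hz.2⟩, hMall.eq_of_dvd hz' hp.out ?_⟩
    have h1 : orderOf (⟨z, hz.2⟩ : N) = p := by
      rw [Subgroup.orderOf_mk]
      exact hall.orderOf_of_mem hp.out A.isPGroup' hz.1 fun e => hzD (e ▸ one_mem _)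
    rcases (Nat.dvd_prime hp.out).1 (h1 ▸ orderOf_map_dvd q (⟨z, hz.2⟩ : N)) with e | e
    · exact absurd (orderOf_eq_one_iff.1 e) hz'
    · rw [e]
  -- the centre of `D`
  set V := D ⊓ Subgroup.centralizer (D : Set G) with hVdef
  have hV1 : ∃ v ∈ V, v ≠ 1 := by
    haveI : Nontrivial D := (Subgroup.nontrivial_iff_ne_bot D).2 hD
    obtain ⟨⟨v, hv⟩, hvne⟩ := @exists_ne _ (A.isPGroup'.to_le hDA).center_nontrivial 1
    refine ⟨v, ⟨v.2, Subgroup.mem_centralizer_iff.2 fun d hd => congrArg Subtype.val (Subgroup.mem_center_iff.1 hv ⟨d, hd⟩)⟩,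
      fun e => hvne (Subtype.ext (Subtype.ext e))⟩
  have hVnorm : ∀ g ∈ N, ∀ v ∈ V, g * v * g⁻¹ ∈ V := by
    intro g hg v hv
    refine ⟨(Subgroup.mem_normalizer_iff.1 hg v).1 hv.1, Subgroup.mem_centralizer_iff.2 fun d hd => ?_⟩
    have h1 : g⁻¹ * d * g ∈ D := by simpa using (Subgroup.mem_normalizer_iff.1 (inv_mem hg) d).1 hd
    calc d * (g * v * g⁻¹) = g * ((g⁻¹ * d * g) * v) * g⁻¹ := by group
      _ = g * (v * (g⁻¹ * d * g)) * g⁻¹ := by rw [Subgroup.mem_centralizer_iff.1 hv.2 _ h1]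
      _ = (g * v * g⁻¹) * d := by group
  letI : CommGroup V := { (inferInstance : Group V) with
    mul_comm := fun v w => Subtype.ext (Subgroup.mem_centralizer_iff.1 w.2.2 _ v.2.1) }
  let φ : ↥N ⧸ D' →* MulAut V := QuotientGroup.lift D' (conjHom hVnorm) fun d hd => by
    refine MulEquiv.ext fun v => Subtype.ext ?_
    show (d : G) * v * (d : G)⁻¹ = v
    rw [Subgroup.mem_centralizer_iff.1 v.2.2 _ (Subgroup.mem_subgroupOf.1 hd), mul_inv_cancel_right]
  have hφ : ∀ (g : ↥N) (v : V), ((φ (q g) v : V) : G) = g * v * (g : G)⁻¹ := fun g v => rfl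
  have hfix : ∀ m : ↥N ⧸ D', m ≠ 1 → orderOf m ≠ p → ∀ v : V, φ m v = v → v = 1 := by
    intro m hm hmp v hv
    obtain ⟨g, rfl⟩ := QuotientGroup.mk'_surjective D' m
    by_contra hv1
    have hg1 : (g : G) ≠ 1 := fun e => hm (by rw [show g = 1 from Subtype.ext e, map_one])
    have hgp : orderOf (g : G) ≠ p := by
      intro e
      refine hmp ?_
      rcases (Nat.dvd_prime hp.out).1 (e ▸ (Subgroup.orderOf_coe g).symm ▸ orderOf_map_dvd q g) with h | h
      · exact absurd (orderOf_eq_one_iff.1 h) hm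
      · exact h
    have hc : Commute (g : G) (v : G) := by
      have h2 := congrArg Subtype.val hv
      rw [hφ] at h2
      exact mul_inv_eq_iff_eq_mul.1 h2
    exact hgp ((hall.orderOf_eq_of_commute hc hg1 fun e => hv1 (Subtype.ext e)).trans
      (hall.orderOf_of_mem hp.out A.isPGroup' (hDA v.2.1) fun e => hv1 (Subtype.ext e)))
  have hkerbot : φ.ker = ⊥ := by
    refine hcoreM _ inferInstance (IsPGroup.iff_orderOf.2 fun m => ?_)
    by_cases hm : m = 1
    · exact ⟨0, by rw [hm, orderOf_one, pow_zero]⟩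
    refine ⟨1, ?_⟩
    rw [pow_one, ← Subgroup.orderOf_coe]
    by_contra hne
    obtain ⟨v, hv, hv1⟩ := hV1
    refine hv1 (congrArg Subtype.val (hfix m (fun e => hm (Subtype.ext e)) hne ⟨v, hv⟩ ?_))
    rw [show φ (m : ↥N ⧸ D') = 1 from m.2]
    rfl
  -- the quotient has odd order
  have hodd : Odd (Nat.card (↥N ⧸ D')) := by
    rw [← Nat.not_even_iff_odd, even_iff_two_dvd]
    intro h2
    haveI := Fact.mk Nat.prime_two
    obtain ⟨t, ht⟩ := exists_prime_orderOf_dvd_card' (G := ↥N ⧸ D') 2 h2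
    have ht1 : t ≠ 1 := fun e => by rw [e, orderOf_one] at ht; omega
    have hinv : ∀ v : V, φ t v = v⁻¹ := fun v => by
      refine eq_inv_of_mul_eq_one_left (hfix t ht1 (by omega) _ ?_)
      rw [map_mul, ← MulAut.mul_apply, ← map_mul, ← pow_two, ← ht, pow_orderOf_eq_one, map_one, MulAut.one_apply,
        mul_comm]
    have hc : Commute t b := by
      have h1 : φ (t * b) = φ (b * t) := by
        refine MulEquiv.ext fun v => ?_
        rw [map_mul, map_mul, MulAut.mul_apply, MulAut.mul_apply, hinv, hinv, map_inv]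
      exact φ.ker_eq_bot_iff.1 hkerbot h1
    have h3' := hMall.orderOf_eq_of_commute hc ht1 fun e => by
      rw [e, orderOf_one] at hb; exact hp.out.ne_one hb.symm
    omega
  -- the contradiction
  have hlt : Nat.card (↥N ⧸ D') < Nat.card G := by
    haveI : Nontrivial D' := by
      rw [Subgroup.nontrivial_iff_ne_bot, hD', Ne, Subgroup.subgroupOf_eq_bot, disjoint_iff, inf_eq_left.2 hDN]
      exact hD
    calc Nat.card (↥N ⧸ D') < Nat.card (↥N ⧸ D') * Nat.card D' :=
          lt_mul_right Nat.card_pos Finite.one_lt_card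
      _ = Nat.card N := (Subgroup.card_eq_card_quotient_mul_card_subgroup D').symm
      _ ≤ Nat.card G := Subgroup.card_le_card_group N
  haveI := hsolv _ hlt hMall hodd hM3
  have hb1 : b ≠ 1 := fun e => by rw [e, orderOf_one] at hb; exact hp.out.ne_one hb.symm
  haveI : Nontrivial (↥N ⧸ D') := ⟨⟨b, 1, hb1⟩⟩
  obtain ⟨R, hRn, -, hR, hRmin⟩ := exists_minimal_normal_le (N := (⊤ : Subgroup (↥N ⧸ D'))) top_ne_bot
  haveI := hRn
  obtain ⟨-, r, hr, hRp, hexp⟩ := minimal_normal_elementary hR inferInstance (fun K hK hle => hRmin K hK hle)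
  haveI := Fact.mk hr
  have hrp : r ≠ p := fun e => hR (hcoreM R hRn (e ▸ hRp))
  have hordR : ∀ x ∈ R, x ≠ 1 → orderOf x ≠ p := fun x hx hx1 e =>
    hrp ((hMall.orderOf_of_mem hr hRp hx hx1).symm.trans e)
  obtain ⟨v, hv, hv1⟩ := hV1
  refine hv1 (congrArg Subtype.val (fpf_contra φ hp.out R ?_ (b := b) (fun x hx hx1 => hfix x hx1 (hordR x hx hx1))
    hR ?_ ?_ ?_ ⟨v, hv⟩))
  · obtain ⟨k, hk⟩ := IsPGroup.iff_card.1 hRp
    rw [hk]
    exact ((Nat.coprime_primes hr hp.out).2 hrp).pow_left k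
  · intro x hx i hi hip hc
    by_contra hx1
    have hbi : b ^ i ≠ 1 := fun e => (Nat.not_dvd_of_pos_of_lt hi hip) (hb ▸ orderOf_dvd_of_pow_eq_one e)
    exact hordR x hx hx1 ((hMall.orderOf_eq_of_commute hc hx1 hbi).trans (hMall.eq_of_dvd hbi hp.out (by
      rw [orderOf_pow' b hi.ne', hb, Nat.Coprime.gcd_eq_one (Nat.coprime_of_lt_prime hi.ne' hip hp.out), Nat.div_one])))
  · intro w
    refine Subtype.ext ?_
    rw [SubmonoidClass.coe_pow, Subgroup.coe_one]
    by_cases hw : (w : G) = 1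
    · rw [hw, one_pow]
    · rw [← hall.orderOf_of_mem hp.out A.isPGroup' (hDA w.2.1) hw, pow_orderOf_eq_one]
  · intro c _ w
    have hm : orderOf (c * b * c⁻¹) = p := by
      rw [← hb]
      exact (SemiconjBy.orderOf_eq c (by simp [SemiconjBy, mul_assoc])).symm
    obtain ⟨g, hg⟩ := QuotientGroup.mk'_surjective D' (c * b * c⁻¹)
    have key : ∀ n : ℕ, ((w : G) * g) ^ n =
        ((∏ i ∈ Finset.range n, φ (q (g ^ i)) w : V) : G) * (g : G) ^ n := by
      intro n
      induction n with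
      | zero => simp
      | succ n ih =>
        rw [pow_succ, ih, Finset.prod_range_succ, Subgroup.coe_mul, hφ, SubmonoidClass.coe_pow, pow_succ]
        group
    have hord : ∀ x : ↥N, q x = c * b * c⁻¹ → (x : G) ^ p = 1 := by
      intro x hx
      have hx1 : (x : G) ≠ 1 := fun e => by
        rw [show x = 1 from Subtype.ext e, map_one] at hx
        rw [← hx, orderOf_one] at hm
        exact hp.out.ne_one hm.symm
      rw [← hall.eq_of_dvd hx1 hp.out (by rw [Subgroup.orderOf_coe, ← hm, ← hx]; exact orderOf_map_dvd q x),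
        pow_orderOf_eq_one]
    have h1 := key p
    rw [hord g hg, mul_one] at h1
    have h2 : ((w : G) * g) ^ p = 1 := hord (⟨w, hDN w.2.1⟩ * g) (by
      rw [map_mul, show q ⟨(w : G), hDN w.2.1⟩ = 1 from
        (QuotientGroup.eq_one_iff _).2 (Subgroup.mem_subgroupOf.2 w.2.1), one_mul, hg])
    refine Subtype.ext ?_
    rw [Subgroup.coe_one, ← h2, h1]
    congr 1
    exact Finset.prod_congr rfl fun i _ => by rw [map_pow q, hg]

end Cfsg.Lib.Solv.PrimeOrders
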