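import Cfsg.Agent.Lib.Solv.PrimeOrders
import Cfsg.Agent.Lib.Solv.Frobenius

/-!
TI Sylow subgroups in groups with elements of prime order: counting and solvability for odd order.
-/

set_option autoImplicit false

namespace Cfsg.Lib.Solv.PrimeOrders

universe u

variable {G : Type u} [Group G]

theorem sylow_eq_of_mem [Finite G] {p : ℕ} (hTI : ∀ P Q : Sylow p G, P ≠ Q → (P : Subgroup G) ⊓ Q = ⊥)
    {P Q : Sylow p G} {x : G} (hx : x ≠ 1) (hP : x ∈ (P : Subgroup G)) (hQ : x ∈ (Q : Subgroup G)) : P = Q := by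
  by_contra h
  have h1 : x ∈ (P : Subgroup G) ⊓ Q := ⟨hP, hQ⟩
  rw [hTI P Q h, Subgroup.mem_bot] at h1
  exact hx h1

theorem mem_smul_sylow [Finite G] {p : ℕ} {P : Sylow p G} {g x : G} :
    x ∈ ((g • P : Sylow p G) : Subgroup G) ↔ g⁻¹ * x * g ∈ (P : Subgroup G) := by
  rw [Sylow.coe_subgroup_smul, Subgroup.mem_pointwise_smul_iff_inv_smul_mem, ← map_inv]
  simp [MulAut.smul_def, mul_assoc]

/-- An element moving a nontrivial element of `P` into `P` normalises `P`. -/
theorem mem_normalizer_of_conj_mem [Finite G] {p : ℕ} [Fact p.Prime]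
    (hTI : ∀ P Q : Sylow p G, P ≠ Q → (P : Subgroup G) ⊓ Q = ⊥)
    {P : Sylow p G} {x g : G} (hx : x ≠ 1) (hP : x ∈ (P : Subgroup G)) (hgx : g * x * g⁻¹ ∈ (P : Subgroup G)) :
    g ∈ Subgroup.normalizer ((P : Subgroup G) : Set G) := by
  refine Sylow.smul_eq_iff_mem_normalizer.1 (sylow_eq_of_mem hTI (x := g * x * g⁻¹) ?_ ?_ hgx)
  · simpa using hx
  · rw [mem_smul_sylow]
    simpa [mul_assoc] using hP

theorem mem_sylow_of_mem_normalizer [Finite G] {p : ℕ} [Fact p.Prime] (P : Sylow p G) {x : G}
    (hx : x ∈ Subgroup.normalizer ((P : Subgroup G) : Set G)) (ho : orderOf x = p) : x ∈ (P : Subgroup G) := by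
  have hz : IsPGroup p (Subgroup.zpowers x) := IsPGroup.of_card (n := 1) (by rw [Nat.card_zpowers, ho, pow_one])
  have h := P.is_maximal' (hz.to_sup_of_normal_right' P.isPGroup' ((Subgroup.zpowers_le).2 hx)) le_sup_right
  exact h ▸ Subgroup.mem_sup_left (Subgroup.mem_zpowers x)

/-- Centralizers of elements of a Sylow subgroup. -/
theorem centralizer_le [Finite G] (hall : AllPrime G) {p : ℕ} [hp : Fact p.Prime]
    (hTI : ∀ P Q : Sylow p G, P ≠ Q → (P : Subgroup G) ⊓ Q = ⊥) (P : Sylow p G) {x : G}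
    (hP : x ∈ (P : Subgroup G)) (hx : x ≠ 1) : Subgroup.centralizer ({x} : Set G) ≤ P := by
  obtain ⟨Q, hQ⟩ := (hall.isPGroup_centralizer (hall.orderOf_of_mem hp.out P.isPGroup' hP hx) hx).exists_le_sylow
  rwa [← sylow_eq_of_mem hTI hx (hQ (Subgroup.mem_centralizer_singleton_iff.2 rfl)) hP]

/-- The number of elements of order `p`. -/
theorem card_orderOf [Finite G] (hall : AllPrime G) {p : ℕ} [hp : Fact p.Prime]
    (hTI : ∀ P Q : Sylow p G, P ≠ Q → (P : Subgroup G) ⊓ Q = ⊥) (P : Sylow p G) :
    Nat.card {x : G // orderOf x = p} = Nat.card (Sylow p G) * (Nat.card P - 1) := by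
  classical
  haveI := Fintype.ofFinite G
  haveI : Fintype (Sylow p G) := Fintype.ofFinite _
  let f : (Σ Q : Sylow p G, {x : ↥(Q : Subgroup G) // x ≠ 1}) → {x : G // orderOf x = p} := fun y =>
    ⟨(y.2.1 : G), hall.orderOf_of_mem hp.out y.1.isPGroup' y.2.1.2 fun e => y.2.2 (Subtype.ext e)⟩
  have hf : Function.Bijective f := by
    constructor
    · rintro ⟨Q, ⟨x, hx⟩, hx1⟩ ⟨Q', ⟨x', hx'⟩, hx1'⟩ e
      obtain rfl : x = x' := congrArg Subtype.val e
      obtain rfl : Q = Q' := sylow_eq_of_mem hTI (fun e' => hx1 (Subtype.ext e')) hx hx'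
      rfl
    · rintro ⟨x, hx⟩
      have hz : IsPGroup p (Subgroup.zpowers x) := IsPGroup.of_card (n := 1) (by rw [Nat.card_zpowers, hx, pow_one])
      obtain ⟨Q, hQ⟩ := hz.exists_le_sylow
      refine ⟨⟨Q, ⟨x, hQ (Subgroup.mem_zpowers x)⟩, fun e => ?_⟩, rfl⟩
      have e' : x = 1 := congrArg Subtype.val e
      rw [e', orderOf_one] at hx
      exact hp.out.ne_one hx.symm
  rw [← Nat.card_congr (Equiv.ofBijective f hf), Nat.card_sigma]
  have h1 : ∀ Q : Sylow p G, Nat.card {x : ↥(Q : Subgroup G) // x ≠ 1} = Nat.card P - 1 := fun Q => by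
    rw [Nat.card_eq_fintype_card, Fintype.card_subtype_compl, Fintype.card_subtype_eq, ← Nat.card_eq_fintype_card,
      Nat.card_congr (Q.equiv P).toEquiv]
  rw [Finset.sum_congr rfl fun Q _ => h1 Q, Finset.sum_const, smul_eq_mul, Finset.card_univ, Nat.card_eq_fintype_card]
  simp only [Nat.card_eq_fintype_card]

/-- The elements sorted by order. -/
theorem card_eq_sum [Finite G] (hall : AllPrime G) :
    Nat.card G = 1 + ∑ p ∈ (Nat.card G).primeFactors, Nat.card {x : G // orderOf x = p} := by
  classical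
  haveI := Fintype.ofFinite G
  have hmaps : ∀ x ∈ (Finset.univ : Finset G), orderOf x ∈ insert 1 (Nat.card G).primeFactors := by
    intro x _
    by_cases hx : x = 1
    · simp [hx]
    · exact Finset.mem_insert_of_mem (Nat.mem_primeFactors.2 ⟨hall x hx, orderOf_dvd_natCard x, Nat.card_pos.ne'⟩)
  have h := Finset.card_eq_sum_card_fiberwise hmaps
  rw [Finset.card_univ, ← Nat.card_eq_fintype_card,
    Finset.sum_insert (fun h1 => Nat.not_prime_one (Nat.prime_of_mem_primeFactors h1))] at h
  conv_lhs => rw [h]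
  congr 1
  · rw [show (Finset.univ.filter fun x : G => orderOf x = 1) = {1} by ext x; simp]
    simp
  · exact Finset.sum_congr rfl fun p _ => by rw [Nat.card_eq_fintype_card, Fintype.card_subtype]

/-- A self-normalizing TI Sylow subgroup gives a proper normal subgroup. -/
theorem normalizer_ne [Finite G] [IsSimpleGroup G] (hns : ¬ Group.IsSolvable G) {p : ℕ} [hp : Fact p.Prime]
    (hTI : ∀ P Q : Sylow p G, P ≠ Q → (P : Subgroup G) ⊓ Q = ⊥) (P : Sylow p G) (hd : p ∣ Nat.card G) :
    Subgroup.normalizer ((P : Subgroup G) : Set G) ≠ P := by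
  intro hN
  have hPb : (P : Subgroup G) ≠ ⊥ := fun e => by
    have := P.dvd_card_of_dvd_card hd
    rw [e, Subgroup.card_bot, Nat.dvd_one] at this
    exact hp.out.ne_one this
  have hPt : (P : Subgroup G) ≠ ⊤ := fun e => hns (by
    haveI : Group.IsNilpotent G :=
      ((P.isPGroup'.of_equiv (MulEquiv.subgroupCongr e)).of_equiv Subgroup.topEquiv).isNilpotent
    infer_instance)
  have hF : Cfsg.IsFrobeniusComplement (P : Subgroup G) := ⟨hPb, hPt, fun g hg => by
    rw [← Sylow.coe_subgroup_smul]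
    exact hTI P (g • P) fun e => hg (hN ▸ Sylow.smul_eq_iff_mem_normalizer.1 e.symm)⟩
  obtain ⟨K, hKn, -, hK⟩ := exists_frobeniusKernel hF
  rcases hKn.eq_bot_or_eq_top with rfl | rfl
  · exact hPt (Subgroup.isComplement'_bot_left.1 hK)
  · exact hPb (Subgroup.isComplement'_top_left.1 hK)

/-- The index of `P` in its normalizer. -/
theorem exists_normalizer_index [Finite G] {p : ℕ} [hp : Fact p.Prime] (P : Sylow p G) :
    ∃ c : ℕ, Nat.card (Subgroup.normalizer ((P : Subgroup G) : Set G)) = Nat.card P * c ∧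
      Nat.card (Sylow p G) * (Nat.card P * c) = Nat.card G ∧ ¬ p ∣ c := by
  set N := Subgroup.normalizer ((P : Subgroup G) : Set G)
  refine ⟨(P : Subgroup G).relIndex N, ?_, ?_, fun h => P.not_dvd_index ?_⟩
  · rw [← Subgroup.card_mul_index ((P : Subgroup G).subgroupOf N),
      Nat.card_congr (Subgroup.subgroupOfEquivOfLe Subgroup.le_normalizer).toEquiv]
    rfl
  · have hcardN : Nat.card N = Nat.card P * (P : Subgroup G).relIndex N := by
      rw [← Subgroup.card_mul_index ((P : Subgroup G).subgroupOf N),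
        Nat.card_congr (Subgroup.subgroupOfEquivOfLe Subgroup.le_normalizer).toEquiv]
      rfl
    rw [P.card_eq_index_normalizer, ← hcardN, mul_comm]
    exact Subgroup.card_mul_index N
  · exact h.trans (Subgroup.relIndex_dvd_index_of_le Subgroup.le_normalizer)

/-- Groups of odd order with elements of prime order and at most three primes are solvable. -/
theorem odd_solvable : ∀ (n : ℕ) (G : Type u) [Group G] [Finite G], Nat.card G = n → AllPrime G →
    Odd (Nat.card G) → (Nat.card G).primeFactors.card ≤ 3 → Group.IsSolvable G := by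
  intro n
  induction n using Nat.strong_induction_on with
  | _ n ih =>
  intro G _ _ hn hall hodd h3
  by_contra hns
  have hsmall : ∀ (M : Type u) [Group M] [Finite M], Nat.card M < Nat.card G → AllPrime M → Odd (Nat.card M) →
      (Nat.card M).primeFactors.card ≤ 3 → Group.IsSolvable M :=
    fun M _ _ hM => ih _ (hn ▸ hM) M rfl
  haveI : Nontrivial G := by
    by_contra h
    haveI := not_nontrivial_iff_subsingleton.1 h
    exact hns inferInstance
  haveI : IsSimpleGroup G := ⟨fun N hN => by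
    by_contra! hcon
    haveI := hN
    have h1 : Nat.card N < Nat.card G := by
      refine lt_of_le_of_ne N.card_le_card_group fun e => hcon.2 ((Subgroup.card_eq_iff_eq_top N).1 e)
    have h2 : Nat.card (G ⧸ N) < Nat.card G := by
      haveI : Nontrivial N := (Subgroup.nontrivial_iff_ne_bot N).2 hcon.1
      rw [Subgroup.card_eq_card_quotient_mul_card_subgroup N]
      exact lt_mul_right Nat.card_pos Finite.one_lt_card
    haveI := hsmall N h1 (hall.subgroup N) (hodd.of_dvd_nat N.card_subgroup_dvd_card)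
      ((Finset.card_le_card (Nat.primeFactors_mono N.card_subgroup_dvd_card Nat.card_pos.ne')).trans h3)
    haveI := hsmall (G ⧸ N) h2 (hall.quotient N) (hodd.of_dvd_nat (Subgroup.card_quotient_dvd_card N))
      ((Finset.card_le_card (Nat.primeFactors_mono (Subgroup.card_quotient_dvd_card N) Nat.card_pos.ne')).trans h3)
    exact hns (Group.isSolvable_of_ker_le_range N.subtype (QuotientGroup.mk' N)
      (by rw [QuotientGroup.ker_mk', Subgroup.range_subtype]))⟩
  set f : ℕ → ℕ := fun p => if 3 ∣ Nat.card G ∧ p = 3 then 3 else if 3 ∣ Nat.card G then 5 else 3 with hf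
  have hterm : ∀ p ∈ (Nat.card G).primeFactors, 15 * Nat.card {x : G // orderOf x = p} ≤ f p * Nat.card G := by
    intro p hp
    obtain ⟨hpp, hpd, -⟩ := Nat.mem_primeFactors.1 hp
    haveI := Fact.mk hpp
    have hTI : ∀ P Q : Sylow p G, P ≠ Q → (P : Subgroup G) ⊓ Q = ⊥ := fun P Q => inf_eq_bot hall h3 hsmall P Q
    let P : Sylow p G := default
    rw [card_orderOf hall hTI P]
    obtain ⟨c, hcN, hc, hpc⟩ := exists_normalizer_index P
    have hc1 : c ≠ 1 := by
      rintro rfl
      rw [mul_one] at hcN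
      exact normalizer_ne hns hTI P hpd (Subgroup.eq_of_le_of_card_ge Subgroup.le_normalizer hcN.le).symm
    have hcd : c ∣ Nat.card G := ⟨Nat.card (Sylow p G) * Nat.card P, by rw [← hc]; ring⟩
    have hco : Odd c := hodd.of_dvd_nat hcd
    have hlow : 15 ≤ f p * c := by
      obtain ⟨j, rfl⟩ := hco
      simp only [hf]
      split_ifs with h1 h2
      · obtain ⟨-, rfl⟩ := h1
        have : j ≠ 1 := fun e => hpc (by subst e; norm_num)
        omega
      · omega
      · have : j ≠ 1 := fun e => h2 ((dvd_of_eq (by omega)).trans hcd)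
        omega
    calc 15 * (Nat.card (Sylow p G) * (Nat.card P - 1))
        ≤ (f p * c) * (Nat.card (Sylow p G) * Nat.card P) :=
          Nat.mul_le_mul hlow (Nat.mul_le_mul_left _ (Nat.sub_le _ _))
      _ = f p * Nat.card G := by rw [← hc]; ring
  have hsum : ∑ p ∈ (Nat.card G).primeFactors, f p ≤ 13 := by
    by_cases h : 3 ∣ Nat.card G
    · have h3m : 3 ∈ (Nat.card G).primeFactors := Nat.mem_primeFactors.2 ⟨Nat.prime_three, h, Nat.card_pos.ne'⟩
      rw [← Finset.sum_erase_add _ _ h3m]
      have hle : ∀ p ∈ (Nat.card G).primeFactors.erase 3, f p ≤ 5 := fun p _ => by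
        simp only [hf]; split_ifs <;> omega
      have h1 := Finset.sum_le_card_nsmul _ (fun p => f p) _ hle
      rw [Finset.card_erase_of_mem h3m, smul_eq_mul] at h1
      have h4 : f 3 = 3 := by simp [hf, h]

      omega
    · have hle : ∀ p ∈ (Nat.card G).primeFactors, f p ≤ 3 := fun p _ => by simp [hf, h]
      have h1 := Finset.sum_le_card_nsmul _ (fun p => f p) _ hle
      rw [smul_eq_mul] at h1

      omega
  have h1 : 15 * Nat.card G ≤ 15 + 13 * Nat.card G := by
    nth_rewrite 1 [card_eq_sum hall]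
    rw [mul_add, mul_one, Finset.mul_sum]
    refine Nat.add_le_add_left ((Finset.sum_le_sum hterm).trans ?_) _
    rw [← Finset.sum_mul]
    exact Nat.mul_le_mul_right _ hsum
  have hbig : 8 ≤ Nat.card G := by
    by_contra hlt
    refine hns ?_
    have : Nat.card G < 8 := by omega
    rcases hodd with ⟨j, hj⟩
    have hcyc : ∀ r : ℕ, r.Prime → Nat.card G = r → Group.IsSolvable G := fun r hr hcr => by
      haveI := Fact.mk hr
      haveI := isCyclic_of_prime_card hcr
      exact Group.isSolvable_of_comm fun a b => IsCyclic.isMulCommutative.is_comm.comm a b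
    have h1' := Finite.one_lt_card (α := G)
    have : Nat.card G = 3 ∨ Nat.card G = 5 ∨ Nat.card G = 7 := by omega
    rcases this with h | h | h <;> exact hcyc _ (by norm_num) h
  omega

/-- Sylow subgroups are TI, without any hypothesis. -/
theorem sylow_ti [Finite G] (hall : AllPrime G) (h3 : (Nat.card G).primeFactors.card ≤ 3)
    (p : ℕ) [Fact p.Prime] (P Q : Sylow p G) (hPQ : P ≠ Q) : (P : Subgroup G) ⊓ Q = ⊥ :=
  inf_eq_bot hall h3 (fun M _ _ _ => odd_solvable _ M rfl) P Q hPQ

end Cfsg.Lib.Solv.PrimeOrders
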